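import Cfsg.Agent.Lib.U6Three.Lin

/-!
# The quaternion group centralising one half
-/

set_option autoImplicit false
set_option linter.unusedSectionVars false
set_option maxRecDepth 4000
set_option synthInstance.maxSize 2000

namespace Cfsg.Lib.U6Three

open Subgroup
open scoped commutatorElement

/-- The special linear group of degree two over the field with three elements. -/
abbrev SL3 : Type := Matrix.SpecialLinearGroup (Fin 2) (ZMod 3)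

theorem sl_card : Nat.card SL3 = 24 ∧ Nat.card {m : SL3 // m ^ 4 = 1} = 8 := by
  constructor <;> rw [Nat.card_eq_fintype_card] <;> decide +kernel

theorem sl_quat : (∀ m : SL3, m ^ 2 = 1 → m = 1 ∨ m = -1) ∧
    (∀ m : SL3, m.1 0 0 = 1 → m.1 1 0 = 0 → m ^ 3 = 1) ∧
    (∀ v w : ZMod 3, v ≠ 0 ∨ w ≠ 0 → ∃ m : SL3, m ^ 4 = 1 ∧ m.1 0 0 = v ∧ m.1 1 0 = w) ∧
    (∀ m n : SL3, m ^ 4 = 1 → n ^ 4 = 1 → (m * n) ^ 4 = 1) ∧
    (∀ m : SL3, (∀ n : SL3, n ^ 4 = 1 → Commute m n) → m = 1 ∨ m = -1) ∧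
    (∀ u : SL3, u ^ 3 = 1 → u ≠ 1 → ∀ m : SL3, ∃ n : SL3, n ^ 4 = 1 ∧ (m = n ∨ m = n * u ∨ m = n * (u * u))) := by
  refine ⟨?_, ?_, ?_, ?_, ?_, ?_⟩ <;> (try simp only [Commute, SemiconjBy]) <;> decide +kernel

theorem sl_neg_of : ∀ m : SL3, m.1 0 0 = 2 → m.1 1 0 = 0 → m.1 0 1 = 0 → m.1 1 1 = 2 → m = -1 := by decide +kernel

theorem eq_one_of_coprime {G : Type*} [Group G] {g : G} {a b : ℕ} (h : a.Coprime b) (ha : g ^ a = 1) (hb : g ^ b = 1) :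
    g = 1 :=
  orderOf_eq_one_iff.1 (Nat.dvd_one.1 (h ▸ Nat.dvd_gcd (orderOf_dvd_of_pow_eq_one ha) (orderOf_dvd_of_pow_eq_one hb)))

namespace Data

variable {G : Type*} [Group G] [Finite G] (D : Data G)

/-- A fourth root of one fixing an element modulo the centre fixes it. -/
theorem commute_of_mod {g q : G} (hg : Commute g D.z) (h4 : g ^ 4 = 1) (h : ⁅g, q⁆ ∈ D.Zc) : Commute g q := by
  have key : ∀ n : ℕ, g ^ n * q * (g ^ n)⁻¹ = ⁅g, q⁆ ^ n * q := by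
    intro n
    induction n with
    | zero => simp
    | succ n ih =>
      rw [pow_succ' g, show g * g ^ n * q * (g * g ^ n)⁻¹ = g * (g ^ n * q * (g ^ n)⁻¹) * g⁻¹ by group, ih,
        show g * (⁅g, q⁆ ^ n * q) * g⁻¹ = g * ⁅g, q⁆ ^ n * g⁻¹ * (g * q * g⁻¹) by group,
        (D.comm_Zc hg (D.Zc.pow_mem h n)).eq, mul_inv_cancel_right, Data.conj_eq, pow_succ (⁅g, q⁆), mul_assoc]
  have h1 := key 4
  rw [h4, one_mul, inv_one, mul_one] at h1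
  exact commutatorElement_eq_one_iff_commute.1
    (eq_one_of_coprime (by decide : Nat.Coprime 4 3) (mul_eq_right.1 h1.symm) (D.cube_Zc h))

theorem ι_pow_four (p : Quat2) : D.ι p ^ 4 = 1 := by
  rw [show (4 : ℕ) = 2 + 2 from rfl, pow_add, pow_two, ← map_mul, ← map_mul, quat_facts.2.1, map_one]

end Data

namespace Split

variable {G : Type*} [Group G] [Finite G] {D : Data G} (S : Split D)

theorem HN_Q2 {g : G} (hg : g ∈ S.HN) : ∀ q ∈ S.Q2, g * q * g⁻¹ ∈ S.Q2 := by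
  refine (S.swap.conj_half (S.mem_HN.1 hg).1).resolve_right fun h => ?_
  have hle : S.Q2 ≤ S.Q1 := fun q hq => ((mem_normalizer_iff.1 (S.mem_HN.1 hg).2 q).2 (h q hq))
  have h27 := Subgroup.card_le_of_le ((le_inf hle le_rfl).trans S.inf_eq.le)
  rw [S.card₂, D.card_Zc] at h27
  omega

theorem HN_swap {g : G} (hg : g ∈ S.HN) : g ∈ S.swap.HN := by
  have hh := S.HN_Q2 hg
  refine S.swap.mem_HN.2 ⟨(S.mem_HN.1 hg).1, mem_normalizer_iff.2 fun w => ⟨hh w, fun hw => ?_⟩⟩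
  have := S.HN_Q2 (S.HN.inv_mem hg) _ hw
  rwa [show g⁻¹ * (g * w * g⁻¹) * g⁻¹⁻¹ = w by group] at this

theorem Q_le_HN {q : G} (hq : q ∈ D.Q) : q ∈ S.HN := by
  obtain ⟨B, -⟩ : ∃ B : Basis S, ∀ g ∈ (⊥ : Subgroup G), g ∈ B.Stab := by
    obtain ⟨B, hB⟩ := S.exists_basis_of_three (P := ⊥) IsPGroup.of_bot
      fun g hg => by rw [mem_bot.1 hg]; exact Commute.one_left _
    exact ⟨B, hB⟩
  refine S.mem_HN_of (D.comm_z q hq) B.ha1 B.a1_not_Zc ?_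
  rw [Data.conj_eq]
  exact S.Q1.mul_mem (D.Zc_le_fixC S.s_z (D.comm_form hq B.ha1.1)) B.ha1

theorem ι_mem_HN (p : Quat2) : D.ι p ∈ S.HN := by
  have hh : ∀ p, ∀ w ∈ S.Q1, D.ι p * w * (D.ι p)⁻¹ ∈ S.Q1 := fun p w hw => by
    obtain ⟨hwQ, hws⟩ := D.mem_fixC.1 hw
    exact D.mem_fixC.2 ⟨D.norm_Q _ (D.ι_z p) w hwQ,
      (((S.s_ι p).symm).mul_left hws).mul_left (S.s_ι p).symm.inv_left⟩
  refine S.mem_HN.2 ⟨D.ι_z p, mem_normalizer_iff.2 fun w => ⟨hh p w, fun hw => ?_⟩⟩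
  have := hh p⁻¹ _ hw
  rwa [map_inv, show (D.ι p)⁻¹ * (D.ι p * w * (D.ι p)⁻¹) * (D.ι p)⁻¹⁻¹ = w by group] at this

/-- The elements of the complement centralising the second half. -/
def L : Subgroup G := D.ι.range ⊓ centralizer (S.Q2 : Set G)

theorem mem_L {g : G} : g ∈ S.L ↔ g ∈ D.ι.range ∧ ∀ q ∈ S.Q2, Commute q g :=
  and_congr Iff.rfl mem_centralizer_iff

theorem L_z {g : G} (hg : g ∈ S.L) : Commute g D.z := by
  obtain ⟨⟨p, rfl⟩, -⟩ := hg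
  exact D.ι_z p

theorem L_HN {g : G} (hg : g ∈ S.L) : g ∈ S.HN := by
  obtain ⟨⟨p, rfl⟩, -⟩ := hg
  exact S.ι_mem_HN p

theorem L_four {g : G} (hg : g ∈ S.L) : g ^ 4 = 1 := by
  obtain ⟨⟨p, rfl⟩, -⟩ := hg
  exact D.ι_pow_four p

theorem L_t {g : G} (hg : g ∈ S.L) : Commute g S.t := by
  obtain ⟨⟨p, rfl⟩, -⟩ := hg
  exact (S.t_ι p).symm

theorem L_s {g : G} (hg : g ∈ S.L) : Commute g S.s := by
  obtain ⟨⟨p, rfl⟩, -⟩ := hg
  exact (S.s_ι p).symm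

theorem t_mem_L : S.t ∈ S.L := S.mem_L.2 ⟨S.t_mem, fun _ hq => (D.mem_fixC.1 hq).2⟩

end Split

namespace Basis

variable {G : Type*} [Group G] [Finite G] {D : Data G} {S : Split D} (B : Basis S)

/-- The linear action on the second half. -/
noncomputable def matHom2 : S.HN →* SL3 :=
  B.swap.matHom.comp (Subgroup.inclusion fun _ hg => S.HN_swap hg)

theorem matHom2_eq_one {g : S.HN} :
    B.matHom2 g = 1 ↔ ⁅(g : G), B.a2⁆ ∈ D.Zc ∧ ⁅(g : G), B.b2⁆ ∈ D.Zc :=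
  B.swap.matHom_eq_one

/-- Acting trivially on both halves. -/
theorem mem_Q_of_mat {g : S.HN} (h1 : B.matHom g = 1) (h2 : B.matHom2 g = 1) : (g : G) ∈ D.Q :=
  B.mem_Q_of_fix (S.mem_HN.1 g.2).1 (B.matHom_eq_one.1 h1).1 (B.matHom_eq_one.1 h1).2
    (B.matHom2_eq_one.1 h2).1 (B.matHom2_eq_one.1 h2).2

theorem mat_of_Q {g : S.HN} (hg : (g : G) ∈ D.Q) : B.matHom g = 1 ∧ B.matHom2 g = 1 :=
  ⟨B.matHom_eq_one.2 ⟨D.comm_form hg B.ha1.1, D.comm_form hg B.hb1.1⟩,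
    B.matHom2_eq_one.2 ⟨D.comm_form hg B.ha2.1, D.comm_form hg B.hb2.1⟩⟩

/-- The complement realises every pair of fourth roots. -/
theorem exists_ι {m n : SL3} (hm : m ^ 4 = 1) (hn : n ^ 4 = 1) : ∃ p : Quat2,
    B.matHom ⟨D.ι p, S.ι_mem_HN p⟩ = m ∧ B.matHom2 ⟨D.ι p, S.ι_mem_HN p⟩ = n := by
  classical
  let φ : Quat2 →* S.HN := D.ι.codRestrict S.HN S.ι_mem_HN
  have h4 : ∀ (f : S.HN →* SL3) p, f (φ p) ^ 4 = 1 := fun f p => by
    rw [← map_pow, show φ p ^ 4 = 1 from Subtype.ext (D.ι_pow_four p), map_one]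
  let ψ : Quat2 → {m : SL3 // m ^ 4 = 1} × {m : SL3 // m ^ 4 = 1} := fun p =>
    (⟨B.matHom (φ p), h4 _ p⟩, ⟨B.matHom2 (φ p), h4 _ p⟩)
  have hinj : Function.Injective ψ := fun p p' e => by
    simp only [ψ, Prod.mk.injEq, Subtype.mk.injEq] at e
    have hQ := B.mem_Q_of_mat (g := φ (p * p'⁻¹))
      (by rw [map_mul, map_inv, map_mul, e.1, map_inv, mul_inv_cancel])
      (by rw [map_mul, map_inv, map_mul, e.2, map_inv, mul_inv_cancel])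
    refine mul_inv_eq_one.1 (D.ι_inj ?_)
    rw [map_one D.ι]
    exact eq_one_of_coprime (by decide : Nat.Coprime 4 243) (D.ι_pow_four _) (D.pow_243 hQ)
  have hcard : Nat.card Quat2 = Nat.card ({m : SL3 // m ^ 4 = 1} × {m : SL3 // m ^ 4 = 1}) := by
    rw [Nat.card_prod, Nat.card_prod, sl_card.2, Nat.card_eq_fintype_card, QuaternionGroup.card]
  obtain ⟨p, hp⟩ := (Nat.bijective_iff_injective_and_card ψ).2 ⟨hinj, hcard⟩ |>.2 (⟨m, hm⟩, ⟨n, hn⟩)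
  simp only [ψ, Prod.mk.injEq, Subtype.mk.injEq] at hp
  exact ⟨p, hp⟩

theorem comm_Q2_of_mat {g : S.HN} (h4 : (g : G) ^ 4 = 1) (h : B.matHom2 g = 1) : ∀ q ∈ S.Q2, Commute q (g : G) := by
  have hz := (S.mem_HN.1 g.2).1
  obtain ⟨e1, e2⟩ := B.matHom2_eq_one.1 h
  exact fun q hq => (B.swap.Q1_pair (D.commute_of_mod hz h4 e1) (D.commute_of_mod hz h4 e2) hq).symm

theorem mat_L {g : G} (hg : g ∈ S.L) : B.matHom2 ⟨g, S.L_HN hg⟩ = 1 := by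
  have h := (S.mem_L.1 hg).2
  refine B.matHom2_eq_one.2 ⟨?_, ?_⟩
  · rw [commutatorElement_eq_one_iff_commute.2 (h _ B.ha2).symm]; exact D.Zc.one_mem
  · rw [commutatorElement_eq_one_iff_commute.2 (h _ B.hb2).symm]; exact D.Zc.one_mem

theorem exists_L {m : SL3} (hm : m ^ 4 = 1) : ∃ g, ∃ hg : g ∈ S.L, B.matHom ⟨g, S.L_HN hg⟩ = m := by
  obtain ⟨p, h1, h2⟩ := B.exists_ι hm (one_pow 4)
  exact ⟨D.ι p, S.mem_L.2 ⟨⟨p, rfl⟩, B.comm_Q2_of_mat (g := ⟨_, S.ι_mem_HN p⟩) (D.ι_pow_four p) h2⟩, h1⟩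

end Basis

namespace Split

variable {G : Type*} [Group G] [Finite G] {D : Data G} (S : Split D)

theorem L_inj (B : Basis S) {g g' : G} (hg : g ∈ S.L) (hg' : g' ∈ S.L)
    (e : B.matHom ⟨g, S.L_HN hg⟩ = B.matHom ⟨g', S.L_HN hg'⟩) : g = g' := by
  have hm := S.L.mul_mem hg (S.L.inv_mem hg')
  have e0 : (⟨_, S.L_HN hm⟩ : S.HN) = ⟨g, S.L_HN hg⟩ * (⟨g', S.L_HN hg'⟩ : S.HN)⁻¹ := Subtype.ext rfl
  have hQ := B.mem_Q_of_mat (g := ⟨_, S.L_HN hm⟩) (by rw [e0, map_mul, map_inv, e, mul_inv_cancel])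
    (B.mat_L hm)
  exact mul_inv_eq_one.1 (eq_one_of_coprime (by decide : Nat.Coprime 4 243) (S.L_four hm) (D.pow_243 hQ))

theorem card_L : Nat.card S.L = 8 := by
  obtain ⟨B, -⟩ := S.exists_basis_of_three (P := ⊥) IsPGroup.of_bot
    fun g hg => by rw [mem_bot.1 hg]; exact Commute.one_left _
  rw [← sl_card.2]
  refine Nat.card_congr (Equiv.ofBijective (fun g : S.L => (⟨B.matHom ⟨g, S.L_HN g.2⟩, by
    rw [← map_pow, show (⟨g, S.L_HN g.2⟩ : S.HN) ^ 4 = 1 from Subtype.ext (S.L_four g.2), map_one]⟩ :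
      {m : SL3 // m ^ 4 = 1})) ⟨fun g g' e => Subtype.ext (S.L_inj B g.2 g'.2 (congrArg Subtype.val e)), ?_⟩)
  rintro ⟨m, hm⟩
  obtain ⟨g, hg, e⟩ := B.exists_L hm
  exact ⟨⟨g, hg⟩, Subtype.ext e⟩

/-- The characterisation of the quaternion group. -/
theorem mem_L_of {g : G} (hg : Commute g D.z) (ht : Commute g S.t) (h4 : g ^ 4 = 1) (h : ∀ q ∈ S.Q2, Commute q g) : g ∈ S.L := by
  obtain ⟨B, -⟩ := S.exists_basis_of_three (P := ⊥) IsPGroup.of_bot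
    fun g hg => by rw [mem_bot.1 hg]; exact Commute.one_left _
  have hHN : g ∈ S.HN := by
    have := S.swap.HN_swap (S.swap.mem_HN_of hg B.ha2 B.swap.a1_not_Zc (show g * B.a2 * g⁻¹ ∈ S.Q2 by
      rw [(h _ B.ha2).symm.eq, mul_inv_cancel_right]; exact B.ha2))
    exact this
  obtain ⟨l, hl, el⟩ := B.exists_L (m := B.matHom ⟨g, hHN⟩) (by
    rw [← map_pow, show (⟨g, hHN⟩ : S.HN) ^ 4 = 1 from Subtype.ext h4, map_one])
  have e0 : B.matHom2 ⟨g, hHN⟩ = 1 := by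
    refine B.matHom2_eq_one.2 ⟨?_, ?_⟩
    · rw [commutatorElement_eq_one_iff_commute.2 (h _ B.ha2).symm]; exact D.Zc.one_mem
    · rw [commutatorElement_eq_one_iff_commute.2 (h _ B.hb2).symm]; exact D.Zc.one_mem
  have hQ : g * l⁻¹ ∈ D.Q := B.mem_Q_of_mat (g := ⟨g, hHN⟩ * (⟨l, S.L_HN hl⟩ : S.HN)⁻¹)
    (by rw [map_mul, map_inv, el, mul_inv_cancel]) (by rw [map_mul, map_inv, e0, B.mat_L hl, inv_one, one_mul])
  have hc : ∀ q ∈ S.Q2, Commute (g * l⁻¹) q := fun q hq => ((h q hq).mul_right (((S.mem_L.1 hl).2 q hq).inv_right)).symm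
  have h2 : g * l⁻¹ ∈ S.Q2 := D.mem_fixC.2 ⟨hQ, ht.mul_left (S.L_t hl).inv_left⟩
  have hw : g * l⁻¹ ∈ D.Zc := S.swap.center_one h2 hc
  have hcl : Commute (g * l⁻¹) l := (D.comm_Zc (S.L_z hl) hw).symm
  have h1 : (g * l⁻¹) ^ 4 = 1 := by
    have := hcl.mul_pow 4
    rw [inv_mul_cancel_right, h4, S.L_four hl, mul_one] at this
    exact this.symm
  rwa [mul_inv_eq_one.1 (eq_one_of_coprime (by decide : Nat.Coprime 4 3) h1 (D.cube_Zc hw))]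

end Split

end Cfsg.Lib.U6Three
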