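import Cfsg.Agent.Lib.U6Three.Top
import Cfsg.Agent.Lib.U6ThreeSmall.Main
import Cfsg.Agent.Lib.U6ThreeEnd.Basic

/-!
# A Sylow subgroup of order `3⁶`: the conclusion
-/

set_option autoImplicit false
set_option linter.unusedSectionVars false
set_option linter.style.haveILetI false
set_option synthInstance.maxSize 4000

namespace Cfsg.Lib.U6Three

open Subgroup

namespace Setting

variable {G : Type*} [Group G] [Finite G] {D : Data G} {T : Setting D}

theorem ncond (h3 : T.IsThree) : T.NCond := fun hI => by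
  have h := Cfsg.Lib.U6ThreeSmall.centralizer_n_le T.swap h3.swap hI
  rw [T.swap_J] at h
  rw [T.B.comm_a.eq]
  exact h

theorem s_ne_t (T : Setting D) : T.S.s ≠ T.S.t := fun e => by
  have h : T.S.s * T.B.a2 * T.S.s⁻¹ = T.B.a2⁻¹ := T.sa
  rw [e, ((D.mem_fixC.1 T.B.ha2).2.symm : Commute T.S.t T.B.a2).eq, mul_inv_cancel_right] at h
  have h2 : T.B.a2 * T.B.a2 = 1 := by nth_rewrite 2 [h]; exact mul_inv_cancel _
  exact T.B.swap.a1_not_Zc (show T.B.a2 ∈ D.Zc from eq_one_of_sq_cube h2 T.B.a2_cube ▸ D.Zc.one_mem)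

theorem sup_ne_top (h3 : T.IsThree) : centralizer ({T.S.t} : Set G) ⊔ Cfsg.oddCore G ≠ ⊤ := by
  intro htop
  obtain ⟨-, -, k, hk⟩ := exists_exchange h3
  have hkm : k ∈ Cfsg.oddCore G ⊔ centralizer ({T.S.t} : Set G) := by rw [sup_comm, htop]; exact mem_top k
  rw [← SetLike.mem_coe, normal_mul] at hkm
  obtain ⟨o, ho, c, hc, rfl⟩ := hkm
  have hct : Commute c T.S.t := mem_centralizer_singleton_iff.1 hc
  have e : T.S.s = o * T.S.t * o⁻¹ := by
    rw [← hk, show o * c * T.S.t * (o * c)⁻¹ = o * (c * T.S.t * c⁻¹) * o⁻¹ by group, hct.eq, mul_inv_cancel_right]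
  have hst : Commute T.S.s T.S.t := T.S.st
  have hd : T.S.s * T.S.t⁻¹ ∈ Cfsg.oddCore G := by
    rw [e, show o * T.S.t * o⁻¹ * T.S.t⁻¹ = o * (T.S.t * o⁻¹ * T.S.t⁻¹) by group]
    exact mul_mem ho ((inferInstance : (Cfsg.oddCore G).Normal).conj_mem _ (inv_mem ho) _)
  have h2 : (T.S.s * T.S.t⁻¹) ^ 2 = 1 := by
    rw [hst.inv_right.mul_pow, pow_two, T.S.s_sq, inv_pow, pow_two, T.S.t_sq, inv_one, one_mul]
  have hodd := Cfsg.Lib.ZStar.odd_card_oddCore (G := G)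
  exact T.s_ne_t (mul_inv_eq_one.1 (eq_one_of_coprime (Nat.coprime_two_left.2 hodd) h2 (pow_card hd)))

/-- A Sylow subgroup of order `3⁶` gives the conclusion. -/
theorem concl (h3 : T.IsThree) : Cfsg.Lib.U6ThreeEnd.Concl G := by
  classical
  haveI : Fact (Nat.Prime 2) := ⟨Nat.prime_two⟩
  haveI : Fact (Nat.Prime 3) := ⟨Nat.prime_three⟩
  have hN := ncond h3
  obtain ⟨hb, hcard⟩ := Rt_block h3 hN
  set C := centralizer ({T.S.t} : Set G)
  have hRC : T.Rt ≤ C := Rt_le_cent h3 hN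
  set R := T.Rt.subgroupOf C
  haveI hRn : R.Normal := normal_subgroupOf_of_le_normalizer (cent_t_le h3 hN)
  have hRp : IsPGroup 2 R := IsPGroup.of_card (n := 9)
    (by rw [Nat.card_congr (subgroupOfEquivOfLe hRC).toEquiv, hcard])
  have hcore : Cfsg.pCore 2 C = R := by
    refine le_antisymm ?_ (Cfsg.Lib.Core.le_pCore hRp)
    set P := Cfsg.pCore 2 C
    have hU : (Nat.card (P.map C.subtype)).Coprime 3 := by
      rw [card_map_of_injective C.subtype_injective]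
      obtain ⟨n, hn⟩ := (Cfsg.Lib.Core.pCore_isPGroup 2 C).exists_card_eq
      rw [hn]
      exact Nat.Coprime.pow_left n (by norm_num)
    have hnorm : ∀ g : G, g ∈ C → g ∈ normalizer ((P.map C.subtype : Subgroup G) : Set G) := fun g hg =>
      mem_normalizer_of_conj_mem (by
        rintro _ ⟨p, hp, rfl⟩
        exact ⟨⟨g, hg⟩ * p * ⟨g, hg⟩⁻¹, (inferInstance : P.Normal).conj_mem p hp _, rfl⟩)
    intro p hp
    refine mem_subgroupOf.2 (le_Rt h3 hN hU ?_ (hnorm _ (mem_centralizer_singleton_iff.2 T.S.t_z.symm))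
      (hnorm _ (mem_centralizer_singleton_iff.2 (D.mem_fixC.1 T.B.ha2).2)) ⟨p, hp, rfl⟩)
    rintro _ ⟨u, -, rfl⟩
    exact mem_centralizer_singleton_iff.1 u.2
  have ht2 : orderOf T.S.t = 2 := orderOf_eq_prime (by rw [pow_two, T.S.t_sq]) T.t_ne
  have hext : Cfsg.IsExtraspecial 2 ↥(Cfsg.pCore 2 C) := Cfsg.Lib.Extra.isExtraspecial_congr
    ((MulEquiv.subgroupCongr hcore).trans (subgroupOfEquivOfLe hRC)).symm (hb.extraspecial T.t_ne T.S.t_sq hcard)
  have hc9 : Nat.card ↥(Cfsg.pCore 2 C) = 2 ^ 9 := by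
    rw [hcore, Nat.card_congr (subgroupOfEquivOfLe hRC).toEquiv, hcard]
  have hCJ : centralizer ((Cfsg.pCore 2 C : Subgroup C) : Set C) ≤ Cfsg.pCore 2 C := by
    rw [hcore]
    intro c hc
    exact mem_subgroupOf.2 (cent_Rt_le h3 hN fun r hr =>
      (congrArg Subtype.val (hc ⟨r, hRC hr⟩ (mem_subgroupOf.2 hr))).symm)
  obtain ⟨E⟩ : Nonempty ((C ⧸ Cfsg.pCore 2 C) ≃* T.Yq) := ⟨QuotientGroup.congr _ _
    (MulEquiv.subgroupCongr (Nr_eq h3 hN)).symm (by
      ext u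
      rw [hcore]
      constructor
      · rintro ⟨v, hv, rfl⟩
        exact mem_subgroupOf.2 (mem_subgroupOf.1 hv)
      · intro hu
        exact ⟨⟨u, u.2.1⟩, mem_subgroupOf.2 (mem_subgroupOf.1 hu), Subtype.ext rfl⟩)⟩
  refine Cfsg.Lib.U6ThreeEnd.of_involution T.S.t ht2 (F := ZMod 3) (ZMod.card 3) hext hc9 hCJ ?_ (sup_ne_top h3)
  exact (recog h3 hN (ZMod 3) (ZMod.card 3)).imp (fun ⟨e⟩ => ⟨E.trans e⟩) fun ⟨e⟩ => ⟨E.trans e⟩

end Setting

end Cfsg.Lib.U6Three
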