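import Cfsg.Agent.Lib.U6Three.Weak

/-!
# The action of the normaliser on the plane in coordinates
-/

set_option autoImplicit false
set_option linter.unusedSectionVars false
set_option maxHeartbeats 800000

namespace Cfsg.Lib.U6Three

open Subgroup
open scoped commutatorElement

/-- Linear maps of the coordinates, by the images of the basis. -/
abbrev Cols : Type := V4 × V4 × V4 × V4

/-- Application of a linear map. -/
def app (m : Cols) (v : V4) : V4 :=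
  (v.1 * m.1.1 + v.2.1 * m.2.1.1 + v.2.2.1 * m.2.2.1.1 + v.2.2.2 * m.2.2.2.1,
   v.1 * m.1.2.1 + v.2.1 * m.2.1.2.1 + v.2.2.1 * m.2.2.1.2.1 + v.2.2.2 * m.2.2.2.2.1,
   v.1 * m.1.2.2.1 + v.2.1 * m.2.1.2.2.1 + v.2.2.1 * m.2.2.1.2.2.1 + v.2.2.2 * m.2.2.2.2.2.1,
   v.1 * m.1.2.2.2 + v.2.1 * m.2.1.2.2.2 + v.2.2.1 * m.2.2.1.2.2.2 + v.2.2.2 * m.2.2.2.2.2.2)

/-- The unipotent map fixing the first vector. -/
def uM (i j : ZMod 3) : Cols := ((1, 0, 0, 0), (2 * i, 1, 0, 0), (2 * j, 0, 1, 0), (i * i + j * j, i, j, 1))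

/-- The unipotent map fixing the last vector. -/
def vM (i j : ZMod 3) : Cols := ((1, i, j, i * i + j * j), (0, 1, 0, 2 * i), (0, 0, 1, 2 * j), (0, 0, 0, 1))

/-- The first involution. -/
def tM : Cols := ((1, 0, 0, 0), (0, 2, 0, 0), (0, 0, 1, 0), (0, 0, 0, 1))

/-- The second involution. -/
def sM : Cols := ((1, 0, 0, 0), (0, 1, 0, 0), (0, 0, 2, 0), (0, 0, 0, 1))

/-- A point, up to sign. -/
def IsPtv (v : V4) : Prop := v = (1, 0, 0, 0) ∨ v = (2, 0, 0, 0) ∨ ∃ i j : ZMod 3, v = ptv i j ∨ v = 2 • ptv i j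

instance : DecidablePred IsPtv := fun _ => inferInstanceAs (Decidable (_ ∨ _))

theorem u_det : ∀ i j a b : ZMod 3,
    (∀ i' j' : ZMod 3, IsPtv (app ((1, 0, 0, 0), (a, 1, 0, 0), (b, 0, 1, 0), ptv i j) (ptv i' j'))) →
    a = 2 * i ∧ b = 2 * j := by decide +kernel

theorem v_det : ∀ i j a b : ZMod 3,
    (∀ i' j' : ZMod 3, IsPtv (app ((1, i, j, i * i + j * j), (0, 1, 0, a), (0, 0, 1, b), (0, 0, 0, 1)) (ptv i' j'))) →
    a = 2 * i ∧ b = 2 * j := by decide +kernel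

theorem z_targets : ∀ v : V4, IsPtv v → v.1 = 1 → v.2.2.2 = v.2.1 * v.2.1 + v.2.2.1 * v.2.2.1 := by decide +kernel

theorem app_basis : ∀ v : V4, v = v.1 • ((1, 0, 0, 0) : V4) + v.2.1 • ((0, 1, 0, 0) : V4) +
    v.2.2.1 • ((0, 0, 1, 0) : V4) + v.2.2.2 • ((0, 0, 0, 1) : V4) := by
  intro v
  simp [Prod.ext_iff]

namespace Setting

variable {G : Type*} [Group G] [Finite G] {D : Data G} (T : Setting D)

/-- The element acts on the plane by the given map. -/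
structure Act (g : G) (m : Cols) : Prop where
  norm : g ∈ normalizer (T.J : Set G)
  eq : ∀ v : V4, g * T.cv v * g⁻¹ = T.cv (app m v)

theorem cv_smul (a : ZMod 3) (v : V4) : T.cv (a • v) = zp (T.cv v) a := by
  rcases three_eq a with rfl | rfl | rfl
  · rw [zero_smul, T.cv_zero, zp_zero]
  · rw [one_smul, zp_one]
  · rw [show (2 : ZMod 3) • v = v + v by rw [two_smul], T.cv_add]
    exact (pow_two _).symm

theorem act_of_basis {g : G} {m : Cols} (hg : g ∈ normalizer (T.J : Set G))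
    (h1 : g * T.cv (1, 0, 0, 0) * g⁻¹ = T.cv m.1) (h2 : g * T.cv (0, 1, 0, 0) * g⁻¹ = T.cv m.2.1)
    (h3 : g * T.cv (0, 0, 1, 0) * g⁻¹ = T.cv m.2.2.1) (h4 : g * T.cv (0, 0, 0, 1) * g⁻¹ = T.cv m.2.2.2) :
    T.Act g m := by
  refine ⟨hg, fun v => ?_⟩
  have hc : ∀ (a : ZMod 3) (u : G), g * zp u a * g⁻¹ = zp (g * u * g⁻¹) a := fun a u => (conj_pow).symm
  conv_lhs => rw [app_basis v, T.cv_add, T.cv_add, T.cv_add, T.cv_smul, T.cv_smul, T.cv_smul, T.cv_smul]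
  rw [show ∀ a b c d : G, g * (a * b * c * d) * g⁻¹ = (g * a * g⁻¹) * (g * b * g⁻¹) * (g * c * g⁻¹) * (g * d * g⁻¹)
    from fun a b c d => by group, hc, hc, hc, hc, h1, h2, h3, h4, ← T.cv_smul, ← T.cv_smul, ← T.cv_smul,
    ← T.cv_smul, ← T.cv_add, ← T.cv_add, ← T.cv_add]
  congr 1

theorem Act.mul {g h : G} {m n : Cols} (hg : T.Act g m) (hh : T.Act h n) :
    T.Act (g * h) (app m n.1, app m n.2.1, app m n.2.2.1, app m n.2.2.2) := by
  have e : ∀ v, g * h * T.cv v * (g * h)⁻¹ = T.cv (app m (app n v)) := fun v => by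
    rw [show g * h * T.cv v * (g * h)⁻¹ = g * (h * T.cv v * h⁻¹) * g⁻¹ by group, hh.eq, hg.eq]
  refine T.act_of_basis (mul_mem hg.norm hh.norm) ?_ ?_ ?_ ?_ <;> rw [e] <;> congr 1 <;> simp [app]

/-- The image of a point is a point. -/
theorem isPtv_of_conj {g : G} {v w : V4} (hv : Pt D.z (T.cv v)) (e : g * T.cv v * g⁻¹ = T.cv w) : IsPtv w := by
  have hp : Pt D.z (T.cv w) := e ▸ hv.conj g
  have hinv : ∀ u : V4, (T.cv u)⁻¹ = T.cv (2 • u) := fun u => inv_eq_of_mul_eq_one_right (by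
    rw [← T.cv_add, show u + 2 • u = 0 from (show ∀ a : V4, a + 2 • a = 0 by decide +kernel) u, T.cv_zero])
  rcases T.pt_cases (T.cv_mem w) hp with h | h | ⟨i, j, h | h⟩
  · exact Or.inl (T.cv_inj h)
  · rw [hinv] at h; exact Or.inr (Or.inl ((T.cv_inj h).trans (by decide)))
  · exact Or.inr (Or.inr ⟨i, j, Or.inl (T.cv_inj h)⟩)
  · rw [hinv] at h; exact Or.inr (Or.inr ⟨i, j, Or.inr (T.cv_inj h)⟩)

theorem cv_a1 : T.cv (0, 1, 0, 0) = T.B.a1 := by simp [cv, Basis.el, zp_zero, zp_one]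

theorem cv_a2 : T.cv (0, 0, 1, 0) = T.B.a2 := by simp [cv, Basis.el, zp_zero, zp_one]

theorem cv_x : T.cv (0, 0, 0, 1) = T.x := by simp [cv, Basis.el, zp_zero, zp_one]

theorem cv_el (k i j : ZMod 3) : T.cv (k, i, j, 0) = T.B.el (T.ε * k) i j := by simp [cv, zp_zero]

/-- The translations. -/
theorem exists_u (i j : ZMod 3) : ∃ q ∈ D.Q, T.Act q (uM i j) := by
  obtain ⟨q, hq, e⟩ := T.orbit i j
  have hn : q ∈ normalizer (T.J : Set G) := T.h.Q_le_norm T.B T.hx hq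
  have hc : ∀ a : G, a ∈ D.Q → ∀ i j : ZMod 3, T.cv (0, i, j, 0) = a →
      ∃ k : ZMod 3, q * a * q⁻¹ = T.cv (k, i, j, 0) := fun a ha i j hv => by
    obtain ⟨k, hk⟩ := D.exists_zp (D.comm_form hq ha)
    refine ⟨T.ε⁻¹ * k, ?_⟩
    rw [Data.conj_eq, hk, ← hv, T.cv_el, T.cv_el, mul_zero, ← mul_assoc, mul_inv_cancel₀ T.ε_ne, one_mul]
    simp [Basis.el, zp_zero, mul_assoc]
  obtain ⟨a, ha⟩ := hc _ T.B.ha1.1 1 0 T.cv_a1
  obtain ⟨b, hb⟩ := hc _ T.B.ha2.1 0 1 T.cv_a2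
  have hz : q * T.cv (1, 0, 0, 0) * q⁻¹ = T.cv (1, 0, 0, 0) := by
    rw [T.cv_z, ((zp_comm (D.comm_z q hq).symm T.ε).symm).eq, mul_inv_cancel_right]
  have hact : T.Act q ((1, 0, 0, 0), (a, 1, 0, 0), (b, 0, 1, 0), ptv i j) :=
    T.act_of_basis hn hz (by rw [T.cv_a1]; exact ha) (by rw [T.cv_a2]; exact hb)
      (by rw [T.cv_x, T.cv_ptv]; exact e)
  obtain ⟨rfl, rfl⟩ := u_det i j a b fun i' j' => T.isPtv_of_conj (T.pt_ptv i' j') (hact.eq _)
  exact ⟨q, hq, hact⟩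

theorem cv_Q' (i j l : ZMod 3) : T.cv (0, i, j, l) ∈ T.D'.Q := by
  rw [cv, mul_zero]
  exact T.D'.Q.mul_mem (T.el_Q' i j) (zp_mem T.D'.z_mem l)

theorem first_zero_of_Q' {v : V4} (h : T.cv v ∈ T.D'.Q) : v.1 = 0 := by
  by_contra hne
  refine T.h.symm.notin ?_
  have h2 := T.D'.Q.mul_mem h (T.D'.Q.inv_mem (T.cv_Q' v.2.1 v.2.2.1 v.2.2.2))
  rw [show T.cv v = T.cv (v.1, 0, 0, 0) * T.cv (0, v.2.1, v.2.2.1, v.2.2.2) by
    rw [← T.cv_add]; congr 1; simp [Prod.ext_iff], mul_inv_cancel_right] at h2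
  have h3 := zp_mem h2 v.1⁻¹
  rw [← T.cv_smul] at h3
  rw [show v.1⁻¹ • ((v.1, 0, 0, 0) : V4) = (1, 0, 0, 0) by simp [hne], T.cv_z] at h3
  have h4 := zp_mem h3 T.ε⁻¹
  rwa [zp_zp D.z_cube, mul_inv_cancel₀ T.ε_ne, zp_one] at h4

/-- The opposite translations. -/
theorem exists_v (i j : ZMod 3) : ∃ q ∈ T.D'.Q, T.Act q (vM i j) := by
  classical
  obtain ⟨S'⟩ := T.D'.exists_split
  obtain ⟨B', hz⟩ := T.h.symm.exists_basis S'
  have hJ := T.h.J_symm T.B T.hx B' hz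
  obtain ⟨f, g, -, -, -, -, horb⟩ := T.h.symm.orbit B' hz
  have hel : ∀ k i j, ∃ i' j' l', B'.el k i j = T.cv (0, i', j', l') := fun k i j => by
    obtain ⟨w, hw⟩ := T.exists_cv (hJ.le (T.h.symm.el_mem_J B' hz k i j))
    have h0 : w.1 = 0 := T.first_zero_of_Q' (hw ▸ B'.el_mem k i j)
    exact ⟨w.2.1, w.2.2.1, w.2.2.2, by rw [← hw, ← h0]⟩
  have hq' : ∀ i j, ∃ q ∈ T.D'.Q, ∃ v : V4, v.1 = 1 ∧ q * T.cv (1, 0, 0, 0) * q⁻¹ = T.cv v ∧
      T.cv v = zp (B'.el (f i + g j) i j * D.z) T.ε := by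
    intro i j
    obtain ⟨q, hq, e⟩ := horb i j
    obtain ⟨i', j', l', e'⟩ := hel (f i + g j) i j
    have hv : T.cv (T.ε • ((0, i', j', l') : V4) + (1, 0, 0, 0)) = zp (B'.el (f i + g j) i j * D.z) T.ε := by
      rw [T.cv_add, T.cv_smul, T.cv_z, e']
      exact (zp_mul (T.h.comm_P T.B T.hx (T.h.J_le_P T.B T.hx (T.cv_mem _)) (T.h.z_mem_J T.B T.hx)) _).symm
    refine ⟨q, hq, T.ε • ((0, i', j', l') : V4) + (1, 0, 0, 0), by simp, ?_, hv⟩
    rw [hv, T.cv_z, show q * zp D.z T.ε * q⁻¹ = zp (q * D.z * q⁻¹) T.ε from (conj_pow).symm, e]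
  choose qf hqf vf hvf heq hval using hq'
  have hp : ∀ i j, (vf i j).2.2.2 = (vf i j).2.1 * (vf i j).2.1 + (vf i j).2.2.1 * (vf i j).2.2.1 := fun i j =>
    z_targets _ (T.isPtv_of_conj T.cv_z_pt (heq i j)) (hvf i j)
  -- the nine images are distinct
  have hinj : Function.Injective (fun p : ZMod 3 × ZMod 3 => ((vf p.1 p.2).2.1, (vf p.1 p.2).2.2.1)) := by
    rintro ⟨i, j⟩ ⟨i', j'⟩ e
    simp only [Prod.mk.injEq] at e
    have hv : vf i j = vf i' j' :=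
      Prod.ext ((hvf i j).trans (hvf i' j').symm) (Prod.ext e.1 (Prod.ext e.2 (by rw [hp, hp, e.1, e.2])))
    have h1 := congrArg (fun u => zp u T.ε⁻¹) ((hval i j).symm.trans ((congrArg T.cv hv).trans (hval i' j')))
    have h3 : ∀ i j, (B'.el (f i + g j) i j * D.z) ^ 3 = 1 := fun i j => by
      have hc : Commute (B'.el (f i + g j) i j) D.z := (T.h.symm.comm_el B' hz _ _ _).symm
      rw [hc.mul_pow, D.z_cube, S'.exp_Q (B'.el_mem _ _ _), one_mul]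
    simp only [zp_zp (h3 i j), zp_zp (h3 i' j'), mul_inv_cancel₀ T.ε_ne, zp_one] at h1
    have h2 := T.h.symm.vec_inj B' hz (a₁ := Multiplicative.ofAdd (f i + g j, i, j, 1))
      (a₂ := Multiplicative.ofAdd (f i' + g j', i', j', 1))
      (by rw [T.h.symm.vec_apply, T.h.symm.vec_apply, zp_one]; exact h1)
    have h4 := Multiplicative.ofAdd.injective h2
    simp only [Prod.mk.injEq] at h4
    exact Prod.ext h4.2.1 h4.2.2.1
  obtain ⟨⟨i₀, j₀⟩, h₀⟩ := (Finite.injective_iff_surjective.1 hinj) (i, j)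
  simp only [Prod.mk.injEq] at h₀
  have hv0 : vf i₀ j₀ = (1, i, j, i * i + j * j) :=
    Prod.ext (hvf i₀ j₀) (Prod.ext h₀.1 (Prod.ext h₀.2 (by rw [hp, h₀.1, h₀.2])))
  set q := qf i₀ j₀
  have hq : q ∈ T.D'.Q := hqf i₀ j₀
  have hn : q ∈ normalizer (T.J : Set G) := by
    have h := T.h.symm.Q_le_norm B' hz hq
    rw [hJ] at h
    exact h
  have hx : q * T.x * q⁻¹ = T.x := by rw [(T.D'.comm_z q hq).eq, mul_inv_cancel_right]
  have hc : ∀ w : G, w ∈ T.D'.Q → ∀ i j : ZMod 3, T.cv (0, i, j, 0) = w →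
      ∃ k : ZMod 3, q * w * q⁻¹ = T.cv (0, i, j, k) := fun w hw i j hv => by
    obtain ⟨k, hk⟩ := T.D'.exists_zp (T.D'.comm_form hq hw)
    refine ⟨k, ?_⟩
    rw [Data.conj_eq, hk, ← hv, show ((0, i, j, k) : V4) = k • (0, 0, 0, 1) + (0, i, j, 0) by simp [Prod.ext_iff],
      T.cv_add, T.cv_smul, T.cv_x]
  obtain ⟨a, ha⟩ := hc _ (by simpa [Basis.el, zp_zero, zp_one] using T.el_Q' 1 0) 1 0 T.cv_a1
  obtain ⟨b, hb⟩ := hc _ (by simpa [Basis.el, zp_zero, zp_one] using T.el_Q' 0 1) 0 1 T.cv_a2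
  have hact : T.Act q ((1, i, j, i * i + j * j), (0, 1, 0, a), (0, 0, 1, b), (0, 0, 0, 1)) :=
    T.act_of_basis hn (by rw [← hv0]; exact heq i₀ j₀) (by rw [T.cv_a1]; exact ha) (by rw [T.cv_a2]; exact hb)
      (by rw [T.cv_x]; exact hx)
  obtain ⟨rfl, rfl⟩ := v_det i j a b fun i' j' => T.isPtv_of_conj (T.pt_ptv i' j') (hact.eq _)
  exact ⟨q, hq, hact⟩

theorem el_conj (k i j : ZMod 3) : T.S.t * T.cv (k, i, j, 0) * T.S.t⁻¹ = T.cv (k, -i, j, 0) := by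
  rw [T.cv_el, T.cv_el, T.B.t_el T.ta]

theorem t_norm : T.S.t ∈ normalizer (T.J : Set G) :=
  T.h.norm_J_of_Stab T.B T.hx T.S.t_z T.B.t_norm_Stab fun k i j => by
    rw [T.B.t_el T.ta]; exact T.h.el_mem_J T.B T.hx _ _ _

theorem s_norm : T.S.s ∈ normalizer (T.J : Set G) :=
  T.h.norm_J_of_Stab T.B T.hx T.S.s_z T.B.s_norm_Stab fun k i j => by
    have := T.B.swap.t_el T.sa k j i
    rw [Basis.el_swap, Basis.el_swap] at this
    show T.S.s * T.B.el k i j * T.S.s⁻¹ ∈ _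
    rw [show T.S.swap.t = T.S.s from rfl] at this
    rw [this]; exact T.h.el_mem_J T.B T.hx _ _ _

/-- The action of the first involution. -/
theorem act_t : T.Act T.S.t tM :=
  T.act_of_basis T.t_norm (by rw [T.el_conj]; rfl) (by rw [T.el_conj]; rfl) (by rw [T.el_conj]; rfl)
    (by rw [T.cv_x, T.tx.eq, mul_inv_cancel_right]; exact T.cv_x.symm)

/-- The action of the second involution. -/
theorem act_s : T.Act T.S.s sM := by
  have hel : ∀ k i j, T.S.s * T.cv (k, i, j, 0) * T.S.s⁻¹ = T.cv (k, i, -j, 0) := fun k i j => by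
    have := T.B.swap.t_el T.sa (T.ε * k) j i
    rw [Basis.el_swap, Basis.el_swap] at this
    rw [T.cv_el, T.cv_el]
    exact this
  exact T.act_of_basis T.s_norm (by rw [hel]; rfl) (by rw [hel]; rfl) (by rw [hel]; rfl)
    (by rw [T.cv_x, T.sx.eq, mul_inv_cancel_right]; exact T.cv_x.symm)

end Setting

end Cfsg.Lib.U6Three
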