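import Mathlib

/-!
# A 3-centraliser of type PSU₆(2): the data and the first facts about its extraspecial subgroup

`z` has order three, `Q` is the extraspecial group of order `3⁵` of `C(z)`, and `ι` is a complement
`Q₈ × Q₈` of `Q` in the normal subgroup given by the hypothesis.
-/

set_option autoImplicit false
set_option linter.unusedSectionVars false

namespace Cfsg.Lib.U6Three

open Subgroup
open scoped commutatorElement

/-- The group `Q₈ × Q₈`. -/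
abbrev Quat2 : Type := QuaternionGroup 2 × QuaternionGroup 2

/-- The hypotheses on the centraliser of an element of order three. -/
structure Data (G : Type*) [Group G] where
  /-- The element of order three. -/
  z : G
  hz : orderOf z = 3
  /-- The extraspecial subgroup. -/
  Q : Subgroup G
  card_Q : Nat.card Q = 243
  z_mem : z ∈ Q
  comm_z : ∀ q ∈ Q, Commute q z
  norm_Q : ∀ g, Commute g z → ∀ q ∈ Q, g * q * g⁻¹ ∈ Q
  center_Q : ∀ x ∈ Q, (∀ y ∈ Q, Commute x y) → x ∈ zpowers z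
  comm_Q : ∀ x ∈ Q, ∀ y ∈ Q, ⁅x, y⁆ ∈ zpowers z
  cube_Q : ∀ x ∈ Q, x ^ 3 ∈ zpowers z
  cent_Q : ∀ g, Commute g z → (∀ q ∈ Q, Commute g q) → g ∈ zpowers z
  /-- The complement of the normal subgroup. -/
  ι : Quat2 →* G
  ι_inj : Function.Injective ι
  ι_z : ∀ p, Commute (ι p) z
  ι_normal : ∀ g, Commute g z → ∀ p, ∃ p', (ι p')⁻¹ * (g * ι p * g⁻¹) ∈ Q
  wc : ∀ g, g * z * g⁻¹ ∈ Q → g * z * g⁻¹ ∈ zpowers z
  nwc : ∃ g, Commute (g * z * g⁻¹) z ∧ g * z * g⁻¹ ∉ zpowers z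

/-- An element generating a conjugate of `⟨z⟩`. -/
def Pt {G : Type*} [Group G] (z h : G) : Prop := ∃ g, g * z * g⁻¹ = h ∨ g * z * g⁻¹ = h⁻¹

theorem Pt.self {G : Type*} [Group G] (z : G) : Pt z z := ⟨1, Or.inl (by group)⟩

theorem Pt.inv {G : Type*} [Group G] {z h : G} (hh : Pt z h) : Pt z h⁻¹ := by
  obtain ⟨g, hg | hg⟩ := hh
  · exact ⟨g, Or.inr (by rw [hg, inv_inv])⟩
  · exact ⟨g, Or.inl hg⟩

theorem Pt.conj {G : Type*} [Group G] {z h : G} (hh : Pt z h) (k : G) : Pt z (k * h * k⁻¹) := by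
  obtain ⟨g, hg | hg⟩ := hh
  · exact ⟨k * g, Or.inl (by rw [← hg]; group)⟩
  · refine ⟨k * g, Or.inr ?_⟩
    rw [show (k * h * k⁻¹)⁻¹ = k * h⁻¹ * k⁻¹ by group, ← hg]; group

theorem Pt.trans {G : Type*} [Group G] {z x h : G} (hx : Pt z x) (hh : Pt x h) : Pt z h := by
  obtain ⟨g, hg | hg⟩ := hh
  · exact hg ▸ hx.conj g
  · have := (hx.conj g).inv
    rwa [hg, inv_inv] at this

theorem Pt.symm {G : Type*} [Group G] {z x : G} (hx : Pt z x) : Pt x z := by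
  obtain ⟨g, hg | hg⟩ := hx
  · exact ⟨g⁻¹, Or.inl (by rw [← hg]; group)⟩
  · refine ⟨g⁻¹, Or.inr ?_⟩
    rw [show z⁻¹ = g⁻¹ * (g * z * g⁻¹)⁻¹ * g by group, hg]; group

theorem Pt.iff_of_pt {G : Type*} [Group G] {z x h : G} (hx : Pt z x) : Pt x h ↔ Pt z h :=
  ⟨hx.trans, fun hh => hx.symm.trans hh⟩

/-- An element of finite odd order inverted by nothing but itself. -/
theorem eq_one_of_sq_cube {G : Type*} [Group G] {w : G} (h2 : w * w = 1) (h3 : w ^ 3 = 1) : w = 1 := by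
  calc w = (w * w) * w := by rw [h2, one_mul]
    _ = 1 := by rw [← h3, pow_succ, pow_two]

namespace Data

variable {G : Type*} [Group G] [Finite G] (D : Data G)

/-- The centre. -/
abbrev Zc : Subgroup G := zpowers D.z

theorem z_cube : D.z ^ 3 = 1 := by rw [← D.hz]; exact pow_orderOf_eq_one _

theorem z_ne : D.z ≠ 1 := fun h => by simpa [h] using D.hz

theorem Zc_le : D.Zc ≤ D.Q := zpowers_le.2 D.z_mem

theorem card_Zc : Nat.card D.Zc = 3 := by rw [Nat.card_zpowers, D.hz]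

theorem cases_Zc {w : G} (hw : w ∈ D.Zc) : w = 1 ∨ w = D.z ∨ w = D.z⁻¹ := by
  obtain ⟨k, rfl⟩ := mem_zpowers_iff.1 hw
  rw [← zpow_mod_orderOf, D.hz]
  rcases (by omega : k % ((3 : ℕ) : ℤ) = 0 ∨ k % ((3 : ℕ) : ℤ) = 1 ∨ k % ((3 : ℕ) : ℤ) = 2) with h | h | h <;>
    rw [h]
  · exact Or.inl (zpow_zero _)
  · exact Or.inr (Or.inl (zpow_one _))
  · refine Or.inr (Or.inr (eq_inv_of_mul_eq_one_left ?_))
    rw [← zpow_add_one, show (2 : ℤ) + 1 = ((3 : ℕ) : ℤ) by norm_num, zpow_natCast, D.z_cube]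

theorem cube_Zc {w : G} (hw : w ∈ D.Zc) : w ^ 3 = 1 := by
  rcases D.cases_Zc hw with rfl | rfl | rfl <;> simp [D.z_cube]

theorem comm_Zc {g w : G} (hg : Commute g D.z) (hw : w ∈ D.Zc) : Commute g w := by
  obtain ⟨k, rfl⟩ := mem_zpowers_iff.1 hw
  exact hg.zpow_right k

theorem comm_Q_Zc {q w : G} (hq : q ∈ D.Q) (hw : w ∈ D.Zc) : Commute q w :=
  D.comm_Zc (D.comm_z q hq) hw

theorem conj_inv_mem {g q : G} (hg : Commute g D.z) (hq : q ∈ D.Q) : g⁻¹ * q * g ∈ D.Q := by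
  simpa using D.norm_Q g⁻¹ hg.inv_left q hq

theorem comm_form {a b : G} (ha : a ∈ D.Q) (hb : b ∈ D.Q) : ⁅a, b⁆ ∈ D.Zc := D.comm_Q a ha b hb

/-- Commutators of `Q` are additive on the left. -/
theorem form_mul_left {a a' b : G} (ha : a ∈ D.Q) (ha' : a' ∈ D.Q) (hb : b ∈ D.Q) :
    ⁅a * a', b⁆ = ⁅a, b⁆ * ⁅a', b⁆ := by
  have h1 : ⁅a * a', b⁆ = a * ⁅a', b⁆ * a⁻¹ * ⁅a, b⁆ := by simp only [commutatorElement_def]; group
  rw [h1, (D.comm_Q_Zc ha (D.comm_form ha' hb)).eq, mul_inv_cancel_right]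
  exact (D.comm_Q_Zc (D.Zc_le (D.comm_form ha' hb)) (D.comm_form ha hb)).eq

theorem form_mul_right {a b b' : G} (ha : a ∈ D.Q) (hb : b ∈ D.Q) (hb' : b' ∈ D.Q) :
    ⁅a, b * b'⁆ = ⁅a, b⁆ * ⁅a, b'⁆ := by
  rw [← commutatorElement_inv (b * b') a, D.form_mul_left hb hb' ha, mul_inv_rev,
    commutatorElement_inv, commutatorElement_inv]
  exact (D.comm_Q_Zc (D.Zc_le (D.comm_form ha hb')) (D.comm_form ha hb)).eq

theorem form_Zc_left {w b : G} (hw : w ∈ D.Zc) (hb : b ∈ D.Q) : ⁅w, b⁆ = 1 :=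
  commutatorElement_eq_one_iff_commute.2 (D.comm_Q_Zc hb hw).symm

/-- Conjugation inside `Q` multiplies by a central element. -/
theorem conj_eq {a b : G} : a * b * a⁻¹ = ⁅a, b⁆ * b := by rw [commutatorElement_def]; group

/-- A commutator of an element of `C(z)` with one of `Q` lies in `Q`. -/
theorem comm_mem {g q : G} (hg : Commute g D.z) (hq : q ∈ D.Q) : ⁅g, q⁆ ∈ D.Q := by
  rw [commutatorElement_def]; exact D.Q.mul_mem (D.norm_Q g hg q hq) (D.Q.inv_mem hq)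

theorem comm_mem' {g q : G} (hg : Commute g D.z) (hq : q ∈ D.Q) : ⁅q, g⁆ ∈ D.Q := by
  rw [← commutatorElement_inv g q]; exact D.Q.inv_mem (D.comm_mem hg hq)

/-- The elements of `Q` that `g` fixes modulo the centre. -/
def fixMod (g : G) (hg : Commute g D.z) : Subgroup G where
  carrier := {q | q ∈ D.Q ∧ ⁅g, q⁆ ∈ D.Zc}
  one_mem' := ⟨D.Q.one_mem, by simp⟩
  mul_mem' := by
    rintro a b ⟨ha, ha'⟩ ⟨hb, hb'⟩
    refine ⟨D.Q.mul_mem ha hb, ?_⟩
    rw [show ⁅g, a * b⁆ = ⁅g, a⁆ * (a * ⁅g, b⁆ * a⁻¹) by simp only [commutatorElement_def]; group,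
      (D.comm_Q_Zc ha hb').eq, mul_inv_cancel_right]
    exact D.Zc.mul_mem ha' hb'
  inv_mem' := by
    rintro a ⟨ha, ha'⟩
    refine ⟨D.Q.inv_mem ha, ?_⟩
    rw [show ⁅g, a⁻¹⁆ = a⁻¹ * ⁅g, a⁆⁻¹ * a by simp only [commutatorElement_def]; group,
      mul_assoc, ← (D.comm_Q_Zc ha (D.Zc.inv_mem ha')).eq, inv_mul_cancel_left]
    exact D.Zc.inv_mem ha'

theorem mem_fixMod {g q : G} {hg : Commute g D.z} : q ∈ D.fixMod g hg ↔ q ∈ D.Q ∧ ⁅g, q⁆ ∈ D.Zc := Iff.rfl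

theorem Q_pgroup : IsPGroup 3 D.Q := IsPGroup.of_card (n := 5) (by rw [D.card_Q]; norm_num)

theorem pow_243 {q : G} (hq : q ∈ D.Q) : q ^ 243 = 1 := by
  rw [← D.card_Q]
  exact congrArg Subtype.val (pow_card_eq_one' (x := (⟨q, hq⟩ : D.Q)))

/-- A square in `Q` lying in a subgroup puts the element there. -/
theorem mem_of_sq_mem {W : Subgroup G} {q : G} (hq : q ∈ D.Q) (h : q * q ∈ W) : q ∈ W := by
  have : q = (q * q) ^ 122 := by
    rw [← pow_two, ← pow_mul, show 2 * 122 = 243 + 1 by rfl, pow_add, D.pow_243 hq, one_mul, pow_one]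
  rw [this]; exact W.pow_mem h 122

theorem eq_one_of_sq {q : G} (hq : q ∈ D.Q) (h : q * q = 1) : q = 1 :=
  mem_bot.1 (D.mem_of_sq_mem hq (mem_bot.2 h))

end Data

end Cfsg.Lib.U6Three
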