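import Cfsg.Prelude.Def_Transfer
import Cfsg.Agent.Lib.PGroup.Basic

/-!
# Central products of quaternion-like blocks over one involution
-/

set_option autoImplicit false
set_option linter.unusedSectionVars false

namespace Cfsg.Lib.U6Three

open Subgroup
open scoped commutatorElement

/-- A subgroup with squares and centre inside `⟨t⟩`. -/
structure IsBlock {G : Type*} [Group G] (t : G) (A : Subgroup G) : Prop where
  mem : t ∈ A
  comm : ∀ a ∈ A, Commute t a
  sq : ∀ a ∈ A, a * a = 1 ∨ a * a = t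
  cen : ∀ a ∈ A, (∀ b ∈ A, Commute a b) → a = 1 ∨ a = t

variable {G : Type*} [Group G] [Finite G] {t : G}

/-- A central product of two blocks is a block. -/
theorem IsBlock.sup {A B : Subgroup G} (ht : t * t = 1) (ht1 : t ≠ 1) (hA : IsBlock t A) (hB : IsBlock t B)
    (h : ∀ a ∈ A, ∀ b ∈ B, Commute a b) :
    IsBlock t (A ⊔ B) ∧ Nat.card (A ⊔ B : Subgroup G) * 2 = Nat.card A * Nat.card B := by
  classical
  let f : A × B →* G := (MonoidHom.mk' (fun p => (p.1 : G) * p.2) fun p q => by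
    show (p.1 : G) * q.1 * ((p.2 : G) * q.2) = (p.1 : G) * p.2 * ((q.1 : G) * q.2)
    rw [mul_assoc (p.1 : G), ← mul_assoc (q.1 : G), (h q.1 q.1.2 p.2 p.2.2).eq]
    group)
  have hfv : ∀ p : A × B, f p = (p.1 : G) * p.2 := fun _ => rfl
  have hr : f.range = A ⊔ B := by
    refine le_antisymm ?_ (sup_le (fun a ha => ⟨(⟨a, ha⟩, 1), by simp [hfv]⟩) fun b hb => ⟨(1, ⟨b, hb⟩), by simp [hfv]⟩)
    rintro _ ⟨p, rfl⟩
    rw [hfv]
    exact mul_mem (mem_sup_left p.1.2) (mem_sup_right p.2.2)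
  have hti : t⁻¹ = t := inv_eq_of_mul_eq_one_left ht
  have hint : ∀ x ∈ A, x ∈ B → x = 1 ∨ x = t := fun x hxA hxB => hA.cen x hxA fun a ha => (h a ha x hxB).symm
  have hker : Nat.card f.ker = 2 := by
    have hm : (((⟨t, hA.mem⟩ : A), (⟨t, hB.mem⟩ : B))) ∈ f.ker := MonoidHom.mem_ker.2 (by rw [hfv]; exact ht)
    refine Nat.card_eq_two_iff.2 ⟨1, ⟨_, hm⟩, fun e => ht1 (congrArg (fun p : f.ker => ((p.1.1 : A) : G)) e).symm, ?_⟩
    refine Set.eq_univ_of_forall fun p => ?_
    have e : (p.1.1 : G) * p.1.2 = 1 := MonoidHom.mem_ker.1 p.2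
    have e2 : (p.1.2 : G) = (p.1.1 : G)⁻¹ := eq_inv_of_mul_eq_one_right e
    rcases hint _ p.1.1.2 (by rw [eq_inv_of_mul_eq_one_left e]; exact inv_mem p.1.2.2) with h1 | h1
    · exact Or.inl (Subtype.ext (Prod.ext (Subtype.ext h1) (Subtype.ext (by rw [e2, h1, inv_one]; rfl))))
    · exact Or.inr (Set.mem_singleton_iff.2 (Subtype.ext (Prod.ext (Subtype.ext h1) (Subtype.ext (by
        rw [e2, h1, hti])))))
  refine ⟨⟨mem_sup_left hA.mem, fun x hx => ?_, fun x hx => ?_, fun x hx hc => ?_⟩, ?_⟩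
  · rw [← hr] at hx
    obtain ⟨⟨a, b⟩, rfl⟩ := hx
    exact (hA.comm a a.2).mul_right (hB.comm b b.2)
  · rw [← hr] at hx
    obtain ⟨⟨a, b⟩, rfl⟩ := hx
    rw [hfv, show (a : G) * b * ((a : G) * b) = (a : G) * ((b : G) * a) * b by group, ← (h a a.2 b b.2).eq,
      show (a : G) * ((a : G) * b) * b = ((a : G) * a) * ((b : G) * b) by group]
    rcases hA.sq a a.2 with e | e <;> rcases hB.sq b b.2 with e' | e' <;> rw [e, e'] <;> simp [ht]
  · rw [← hr] at hx
    obtain ⟨⟨a, b⟩, rfl⟩ := hx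
    rw [hfv] at hc ⊢
    have ha : (a : G) = 1 ∨ (a : G) = t := hA.cen a a.2 fun c hc' => by
      have := (hc c (mem_sup_left hc')).mul_left (h c hc' b b.2).symm.inv_left
      rwa [mul_inv_cancel_right] at this
    have hb : (b : G) = 1 ∨ (b : G) = t := hB.cen b b.2 fun c hc' => by
      have := (h a a.2 c hc').inv_left.mul_left (hc c (mem_sup_right hc'))
      rwa [inv_mul_cancel_left] at this
    rcases ha with e | e <;> rcases hb with e' | e' <;> rw [e, e'] <;> simp [ht]
  · rw [← Nat.card_prod, Subgroup.card_eq_card_quotient_mul_card_subgroup f.ker, hker,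
      Nat.card_congr (QuotientGroup.quotientKerEquivRange f).toEquiv, hr]

/-- A block of order `2⁹` is extraspecial. -/
theorem IsBlock.extraspecial {R : Subgroup G} (ht1 : t ≠ 1) (ht : t * t = 1) (hR : IsBlock t R)
    (hc : Nat.card R = 2 ^ 9) : Cfsg.IsExtraspecial 2 R := by
  haveI : Fact (Nat.Prime 2) := ⟨Nat.prime_two⟩
  have hp : IsPGroup 2 R := IsPGroup.of_card hc
  set z : R := ⟨t, hR.mem⟩
  have hz : orderOf z = 2 := orderOf_eq_prime (Subtype.ext (by rw [pow_two]; exact ht))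
    fun e => ht1 (congrArg Subtype.val e)
  have hzc : zpowers z ≤ center R := zpowers_le.2 (mem_center_iff.2 fun r => Subtype.ext (hR.comm r r.2).symm.eq)
  have hcz : center R = zpowers z := by
    refine le_antisymm (fun r hr => ?_) hzc
    rcases hR.cen r r.2 (fun b hb => (congrArg Subtype.val (mem_center_iff.1 hr ⟨b, hb⟩)).symm) with e | e
    · rw [show r = 1 from Subtype.ext e]; exact one_mem _
    · rw [show r = z from Subtype.ext e]; exact mem_zpowers z
  have hcard : Nat.card (center R) = 2 := by rw [hcz, Nat.card_zpowers, hz]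
  have hsq : ∀ r : R, r ^ 2 ∈ center R := fun r => by
    rw [hcz, pow_two]
    rcases hR.sq r r.2 with e | e
    · rw [show r * r = 1 from Subtype.ext e]; exact one_mem _
    · rw [show r * r = z from Subtype.ext e]; exact mem_zpowers z
  have hle : commutator R ≤ center R := by
    rw [commutator_def, Subgroup.commutator_le]
    intro a _ b _
    have e : ⁅a, b⁆ = a ^ 2 * (a⁻¹ * b) ^ 2 * b⁻¹ ^ 2 := by
      rw [commutatorElement_def, pow_two, pow_two, pow_two]; group
    rw [e]
    exact mul_mem (mul_mem (hsq _) (hsq _)) (hsq _)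
  have hne : commutator R ≠ ⊥ := fun h => by
    rw [commutator_eq_bot_iff_center_eq_top] at h
    rw [h, Subgroup.card_top, hc] at hcard
    norm_num at hcard
  have heq : commutator R = center R := eq_of_le_of_card_ge hle (by
    rw [hcard]; exact (one_lt_card_iff_ne_bot _).2 hne)
  exact ⟨⟨hp, le_antisymm (Cfsg.Lib.PGroup.frattini_le_of_commutator_le_of_pow_mem (p := 2) hle hsq)
    (heq ▸ Cfsg.Lib.PGroup.commutator_le_frattini hp), heq⟩, hcard⟩

end Cfsg.Lib.U6Three
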