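import Cfsg.Agent.Lib.U6Three.Base
import Cfsg.Agent.Lib.Core.Layer
import Cfsg.Agent.Lib.PGroup.Basic
import Cfsg.Prelude.Def_Transfer

/-!
# The data from the hypotheses on the centraliser
-/

set_option autoImplicit false
set_option linter.unusedSectionVars false
set_option linter.style.haveILetI false

namespace Cfsg.Lib.U6Three

open Subgroup
open scoped commutatorElement

theorem exists_data_of_hyp {G : Type*} [Group G] [Finite G] (Z : Subgroup G) (hZ3 : Nat.card ↥Z = 3)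
    (H : Subgroup G) (hH : H = Subgroup.centralizer (Z : Set G))
    (hQ : Cfsg.IsExtraspecial 3 ↥(Cfsg.generalizedFittingSubgroup ↥H))
    (hQord : Nat.card ↥(Cfsg.generalizedFittingSubgroup ↥H) = 3 ^ 5)
    (hZ : Subgroup.center ↥(Cfsg.generalizedFittingSubgroup ↥H) =
      (Subgroup.center ↥H).subgroupOf (Cfsg.generalizedFittingSubgroup ↥H))
    (hN : ∃ _ : (Cfsg.generalizedFittingSubgroup ↥H).Normal,
      ∃ N : Subgroup (↥H ⧸ Cfsg.generalizedFittingSubgroup ↥H),
        N.Normal ∧ Nonempty (↥N ≃* QuaternionGroup 2 × QuaternionGroup 2))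
    (hwc : Cfsg.IsWeaklyClosed Z ((Cfsg.generalizedFittingSubgroup ↥H).map H.subtype))
    (hnwc : ¬ Cfsg.IsWeaklyClosed Z H) : ∃ D : Data G, Subgroup.zpowers D.z = Z := by
  classical
  haveI : Fact (Nat.Prime 3) := ⟨Nat.prime_three⟩
  set F := Cfsg.generalizedFittingSubgroup ↥H with hF
  obtain ⟨hFn, N, hNn, ⟨eN⟩⟩ := hN
  obtain ⟨⟨hFp, hfr, hco⟩, hcard⟩ := hQ
  haveI : IsCyclic Z := isCyclic_of_prime_card hZ3
  obtain ⟨z0, hz0⟩ := IsCyclic.exists_generator (α := Z)
  set z : G := (z0 : G)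
  have hzo : orderOf z = 3 := by
    show orderOf ((z0 : Z) : G) = 3
    rw [Subgroup.orderOf_coe, orderOf_eq_card_of_forall_mem_zpowers hz0, hZ3]
  have hzZ : zpowers z = Z := by
    refine eq_of_le_of_card_ge (zpowers_le.2 z0.2) ?_
    rw [Nat.card_zpowers, hzo, hZ3]
  have hmem : ∀ g : G, g ∈ H ↔ Commute g z := by
    intro g
    subst hH
    constructor
    · intro hg; exact (mem_centralizer_iff.1 hg z z0.2).symm
    · intro hg
      refine mem_centralizer_iff.2 fun w hw => ?_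
      obtain ⟨k, rfl⟩ := mem_zpowers_iff.1 (hzZ ▸ hw : w ∈ zpowers z)
      exact (hg.zpow_right k).eq.symm
  have hzH : z ∈ H := (hmem z).2 (Commute.refl z)
  set zH : H := ⟨z, hzH⟩
  have hzc : zH ∈ center H := mem_center_iff.2 fun g => Subtype.ext ((hmem g).1 g.2).eq
  have hzF : zH ∈ F := Cfsg.Lib.Core.centralizer_generalizedFitting_le
    (mem_centralizer_iff.2 fun w _ => mem_center_iff.1 hzc w)
  have hcen : ∀ x : H, x ∈ F → (∀ y ∈ F, Commute x y) → (x : G) ∈ zpowers z := by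
    intro x hx hc
    have hz' : (⟨zH, hzF⟩ : F) ∈ center F := hZ ▸ mem_subgroupOf.2 hzc
    have heq : zpowers (⟨zH, hzF⟩ : F) = center F := by
      refine eq_of_le_of_card_ge (zpowers_le.2 hz') ?_
      rw [Nat.card_zpowers, hcard, ← Subgroup.orderOf_coe, ← Subgroup.orderOf_coe, hzo]
    have hxc : (⟨x, hx⟩ : F) ∈ center F := mem_center_iff.2 fun y => Subtype.ext (hc y y.2).symm.eq
    obtain ⟨k, hk⟩ := mem_zpowers_iff.1 (heq ▸ hxc)
    exact ⟨k, congrArg (fun u : F => ((u : H) : G)) hk⟩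
  set Q := F.map H.subtype with hQdef
  have hFcen : ∀ u : F, u ∈ center F → ((u : H) : G) ∈ zpowers z := fun u hu =>
    hcen u u.2 fun y hy => (congrArg Subtype.val (mem_center_iff.1 hu ⟨y, hy⟩)).symm
  -- the complement
  set N' := N.comap (QuotientGroup.mk' F)
  have hFN' : F ≤ N' := fun u hu => mem_comap.2 (by
    rw [QuotientGroup.mk'_apply, (QuotientGroup.eq_one_iff u).2 hu]; exact one_mem N)
  set FN := F.subgroupOf N'
  haveI : FN.Normal := normal_subgroupOf
  let θ : N' →* N := ((QuotientGroup.mk' F).comp N'.subtype).codRestrict N fun u => mem_comap.1 u.2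
  have hθ : Function.Surjective θ := by
    rintro ⟨y, hy⟩
    obtain ⟨u, rfl⟩ := QuotientGroup.mk'_surjective F y
    exact ⟨⟨u, mem_comap.2 hy⟩, rfl⟩
  have hθk : θ.ker = FN := by
    ext u
    rw [MonoidHom.mem_ker, mem_subgroupOf, ← Subtype.coe_inj]
    exact QuotientGroup.eq_one_iff _
  have hidx : FN.index = 64 := by
    rw [← hθk, index_ker, MonoidHom.range_eq_top.2 hθ, Subgroup.card_top, Nat.card_congr eN.toEquiv,
      Nat.card_prod, Nat.card_eq_fintype_card, QuaternionGroup.card]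
  obtain ⟨K, hK⟩ := exists_right_complement'_of_coprime (N := FN) (by
    rw [hidx, Nat.card_congr (subgroupOfEquivOfLe hFN').toEquiv, hQord]; norm_num)
  let f : K →* N := θ.comp K.subtype
  have hf : Function.Bijective f := by
    constructor
    · refine (injective_iff_map_eq_one f).2 fun k hk => ?_
      have : (k : N') ∈ FN ⊓ K := ⟨hθk ▸ hk, k.2⟩
      rw [disjoint_iff.1 hK.disjoint, mem_bot] at this
      exact Subtype.ext this
    · intro y
      obtain ⟨u, rfl⟩ := hθ y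
      obtain ⟨⟨⟨a, ha⟩, ⟨b, hb⟩⟩, e⟩ := hK.2 u
      refine ⟨⟨b, hb⟩, ?_⟩
      show θ b = θ u
      rw [← e, map_mul, show θ a = 1 from MonoidHom.mem_ker.1 (hθk ▸ ha), one_mul]
  let e : Quat2 ≃* K := eN.symm.trans (MulEquiv.ofBijective f hf).symm
  let ι : Quat2 →* G := H.subtype.comp (N'.subtype.comp (K.subtype.comp e.toMonoidHom))
  refine ⟨{
    z := z
    hz := hzo
    Q := Q
    card_Q := by rw [hQdef, card_map_of_injective H.subtype_injective, hQord]; norm_num
    z_mem := ⟨zH, hzF, rfl⟩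
    comm_z := by rintro _ ⟨u, -, rfl⟩; exact (hmem u).1 u.2
    norm_Q := by
      rintro g hg _ ⟨u, hu, rfl⟩
      exact ⟨⟨g, (hmem g).2 hg⟩ * u * ⟨g, (hmem g).2 hg⟩⁻¹, hFn.conj_mem u hu _, rfl⟩
    center_Q := by
      rintro _ ⟨u, hu, rfl⟩ h
      exact hcen u hu fun y hy => Subtype.ext (h _ ⟨y, hy, rfl⟩).eq
    comm_Q := by
      rintro _ ⟨u, hu, rfl⟩ _ ⟨v, hv, rfl⟩
      have hm : ⁅(⟨u, hu⟩ : F), ⟨v, hv⟩⁆ ∈ center F := by
        rw [← hco, commutator_def]; exact commutator_mem_commutator (mem_top _) (mem_top _)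
      simpa [commutatorElement_def] using hFcen _ hm
    cube_Q := by
      rintro _ ⟨u, hu, rfl⟩
      have hm : (⟨u, hu⟩ : F) ^ 3 ∈ center F := hfr ▸ Cfsg.Lib.PGroup.pow_mem_frattini hFp _
      simpa using hFcen _ hm
    cent_Q := by
      intro g hg h
      have hgF : (⟨g, (hmem g).2 hg⟩ : H) ∈ F := Cfsg.Lib.Core.centralizer_generalizedFitting_le
        (mem_centralizer_iff.2 fun w hw => Subtype.ext (h _ ⟨w, hw, rfl⟩).eq.symm)
      exact hcen _ hgF fun y hy => Subtype.ext (h _ ⟨y, hy, rfl⟩).eq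
    ι := ι
    ι_inj := fun a b hab => e.injective (K.subtype_injective (N'.subtype_injective (H.subtype_injective hab)))
    ι_z := fun p => (hmem _).1 ((e p : N') : H).2
    ι_normal := ?_
    wc := ?_
    nwc := ?_ }, hzZ⟩
  · intro g hg p
    set gH : H := ⟨g, (hmem g).2 hg⟩
    set c : H := gH * ((e p : N') : H) * gH⁻¹
    have hc : QuotientGroup.mk' F c ∈ N := by
      rw [map_mul, map_mul, map_inv]
      exact hNn.conj_mem _ (mem_comap.1 ((e p : K) : N').2) _
    obtain ⟨k, hk⟩ := hf.2 ⟨_, hc⟩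
    refine ⟨e.symm k, ?_⟩
    have h1 : (((k : N') : H))⁻¹ * c ∈ F := by
      refine QuotientGroup.eq.1 ?_
      exact congrArg Subtype.val hk
    exact ⟨_, h1, by simp [ι, c, gH]⟩
  · intro g hg
    have hle : Z.map (MulAut.conj g).toMonoidHom ≤ Q := by
      rw [← hzZ, MonoidHom.map_zpowers]
      exact zpowers_le.2 hg
    have heq := hwc.2 g hle
    rw [hzZ, ← heq]
    exact ⟨z, z0.2, rfl⟩
  · have hZH : Z ≤ H := hzZ ▸ zpowers_le.2 hzH
    obtain ⟨g, hg, hne⟩ : ∃ g : G, Z.map (MulAut.conj g).toMonoidHom ≤ H ∧ Z.map (MulAut.conj g).toMonoidHom ≠ Z := by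
      by_contra hcon
      push Not at hcon
      exact hnwc ⟨hZH, hcon⟩
    refine ⟨g, (hmem _).1 (hg ⟨z, z0.2, rfl⟩), fun h => hne ?_⟩
    refine eq_of_le_of_card_ge ?_ (card_map_of_injective (MulAut.conj g).injective).ge
    rw [← hzZ, MonoidHom.map_zpowers]
    exact zpowers_le.2 (by simpa using h)

end Cfsg.Lib.U6Three
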