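import Cfsg.Agent.Lib.PSpThree.Dispatch

/-!
# General facts used for the quotient groups
-/

set_option autoImplicit false
set_option linter.unusedSectionVars false
set_option linter.style.haveILetI false

namespace Cfsg.Lib.U6Three

open Subgroup

theorem card_map_mul {G X : Type*} [Group G] [Group X] (f : G →* X) (H : Subgroup G) :
    Nat.card (H.map f) * Nat.card (H ⊓ f.ker : Subgroup G) = Nat.card H := by
  have h := Subgroup.card_eq_card_quotient_mul_card_subgroup (f.comp H.subtype).ker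
  rw [Nat.card_congr (QuotientGroup.quotientKerEquivRange (f.comp H.subtype)).toEquiv, MonoidHom.range_comp,
    range_subtype] at h
  rw [h]
  congr 1
  exact Nat.card_congr ⟨fun x => ⟨⟨x.1, x.2.1⟩, x.2.2⟩, fun x => ⟨x.1.1, x.1.2, x.2⟩, fun _ => rfl, fun _ => rfl⟩

/-- An element conjugating a subgroup into itself normalises it. -/
theorem mem_normalizer_of_conj_mem {G : Type*} [Group G] [Finite G] {H : Subgroup G} {g : G}
    (h : ∀ x ∈ H, g * x * g⁻¹ ∈ H) : g ∈ normalizer (H : Set G) := by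
  have he : H.map (MulAut.conj g).toMonoidHom = H := Subgroup.eq_of_le_of_card_ge
    (by rintro _ ⟨x, hx, rfl⟩; exact h x hx)
    (le_of_eq (Subgroup.card_map_of_injective (MulAut.conj g).injective).symm)
  rw [mem_normalizer_iff]
  intro u
  refine ⟨h u, fun hu => ?_⟩
  obtain ⟨v, hv, e⟩ := he.ge hu
  exact mul_left_cancel (mul_right_cancel e) ▸ hv

/-- In a group with a quotient of order three, a 2-element is in the kernel. -/
theorem mem_of_four {G : Type*} [Group G] {M : Subgroup G} [M.Normal] (hM : M.index = 3) {g : G}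
    (h : g ^ 4 = 1) : g ∈ M := by
  rw [← QuotientGroup.eq_one_iff]
  refine orderOf_eq_one_iff.1 (Nat.dvd_one.1 ((by decide : Nat.gcd 4 3 = 1) ▸ Nat.dvd_gcd ?_ ?_))
  · exact orderOf_dvd_of_pow_eq_one (by rw [← QuotientGroup.mk_pow, h]; rfl)
  · exact hM ▸ (index_eq_card M ▸ orderOf_dvd_natCard (g : G ⧸ M))

/-- A commutator lies in a normal subgroup of index three. -/
theorem comm_mem_of_three {G : Type*} [Group G] {M : Subgroup G} [M.Normal] (hM : M.index = 3) (g h : G) :
    g * h * g⁻¹ * h⁻¹ ∈ M := by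
  haveI : Fact (Nat.Prime 3) := ⟨Nat.prime_three⟩
  haveI : IsCyclic (G ⧸ M) := isCyclic_of_prime_card (p := 3) (by rw [← index_eq_card, hM])
  rw [← QuotientGroup.eq_one_iff, QuotientGroup.mk_mul, QuotientGroup.mk_mul, QuotientGroup.mk_mul,
    mul_comm' (g : G ⧸ M) h]
  simp

/-- A normal subgroup containing the centralizer of the central element has index different from three. -/
theorem no_index_three {X : Type*} [Group X] [Finite X] (D : Cfsg.Lib.PSpThree.Data X) {M : Subgroup X}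
    (h : centralizer ({D.a} : Set X) ≤ M) : M.index ≠ 3 := by
  haveI : Fact (Nat.Prime 3) := ⟨Nat.prime_three⟩
  intro h3
  obtain ⟨S, rfl, m, hm⟩ := Cfsg.Lib.PSpThree.Setting.exists_case D
  obtain ⟨Q, hQ⟩ := Cfsg.Lib.PSpThree.Frame.exists_sylow S.F
  have hQM : (Q : Subgroup X) ≤ M := hQ ▸ le_trans S.P_le_C h
  have := index_dvd_of_le hQM
  rw [h3] at this
  exact Q.not_dvd_index this

/-- The part of order prime to `n` over a central cyclic subgroup of order `n`. -/
theorem exists_coprime_part {G : Type*} [Group G] [Finite G] {a : G} {K : Subgroup G} (ha : a ∈ K)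
    (hc : ∀ g ∈ K, Commute g a) {m : ℕ} (hK : Nat.card K = orderOf a * m) (hm : (orderOf a).Coprime m) :
    ∃ U : Subgroup G, U ≤ K ∧ Nat.card U = m ∧ (∀ g ∈ K, g ^ m = 1 → g ∈ U) ∧
      ∀ g ∈ K, ∃ u ∈ U, ∃ b ∈ zpowers a, g = b * u := by
  set A := (zpowers a).subgroupOf K
  have hA : Nat.card A = orderOf a := by
    rw [Nat.card_congr (subgroupOfEquivOfLe (zpowers_le.2 ha)).toEquiv, Nat.card_zpowers]
  haveI : A.Normal := ⟨fun w hw g => by
    obtain ⟨k, hk⟩ := mem_zpowers_iff.1 (mem_subgroupOf.1 hw)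
    have : Commute (g : G) (w : G) := hk ▸ (hc g g.2).zpow_right k
    rw [mem_subgroupOf, coe_mul, coe_mul, coe_inv, this.eq, mul_inv_cancel_right]
    exact mem_subgroupOf.1 hw⟩
  have hi : A.index = m := by
    have h := A.card_mul_index
    rw [hA, hK] at h
    exact Nat.eq_of_mul_eq_mul_left (orderOf_pos a) h
  obtain ⟨H, hH⟩ := Subgroup.exists_right_complement'_of_coprime (N := A) (by rw [hA, hi]; exact hm)
  have hHc : Nat.card H = m := by
    have h := hH.card_mul
    rw [hA, hK] at h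
    exact Nat.eq_of_mul_eq_mul_left (orderOf_pos a) h
  have hdec : ∀ g : K, ∃ b ∈ A, ∃ u ∈ H, g = b * u := fun g => by
    obtain ⟨⟨⟨b, hb⟩, ⟨u, hu⟩⟩, e⟩ := hH.2 g
    exact ⟨b, hb, u, hu, e.symm⟩
  refine ⟨H.map K.subtype, map_subtype_le _, by rw [card_map_of_injective K.subtype_injective, hHc],
    fun g hg hgm => ?_, fun g hg => ?_⟩
  · obtain ⟨b, hb, u, hu, e⟩ := hdec ⟨g, hg⟩
    have hum : u ^ m = 1 := by
      have := congrArg Subtype.val (pow_card_eq_one' (x := (⟨u, hu⟩ : H)))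
      rwa [hHc] at this
    have hbu : Commute b u := Subtype.ext (by
      obtain ⟨k, hk⟩ := mem_zpowers_iff.1 (mem_subgroupOf.1 hb)
      show (b : G) * u = u * b
      exact hk ▸ ((hc u u.2).zpow_right k).symm)
    have h1 : b ^ m = 1 := by
      have : (⟨g, hg⟩ : K) ^ m = 1 := Subtype.ext hgm
      rwa [e, hbu.mul_pow, hum, mul_one] at this
    have h2 : b ^ orderOf a = 1 := hA ▸ congrArg Subtype.val (pow_card_eq_one' (x := (⟨b, hb⟩ : A)))
    have hb1 : b = 1 := orderOf_eq_one_iff.1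
      (Nat.dvd_one.1 (hm ▸ Nat.dvd_gcd (orderOf_dvd_of_pow_eq_one h2) (orderOf_dvd_of_pow_eq_one h1)))
    exact ⟨u, hu, congrArg Subtype.val (e.trans (by rw [hb1, one_mul])).symm⟩
  · obtain ⟨b, hb, u, hu, e⟩ := hdec ⟨g, hg⟩
    exact ⟨u, ⟨u, hu, rfl⟩, b, mem_subgroupOf.1 hb, congrArg Subtype.val e⟩

end Cfsg.Lib.U6Three
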