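import Cfsg.Agent.Lib.U6Three.Words
import Cfsg.Agent.Lib.U6Three.Gen

/-!
# The centraliser of a noncentral element of the first half modulo the element
-/

set_option autoImplicit false
set_option linter.unusedSectionVars false
set_option linter.style.haveILetI false

namespace Cfsg.Lib.U6Three

open Subgroup
open scoped commutatorElement

namespace Setting

variable {G : Type*} [Group G] [Finite G] {D : Data G} (T : Setting D)

/-- The centraliser of the first basis vector. -/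
abbrev Ca : Subgroup G := centralizer ({T.B.a1} : Set G)

/-- The cyclic subgroup inside it. -/
abbrev Aa : Subgroup T.Ca := (zpowers T.B.a1).subgroupOf T.Ca

instance Aa_normal : T.Aa.Normal := ⟨fun w hw g => by
  obtain ⟨k, hk⟩ := mem_zpowers_iff.1 (mem_subgroupOf.1 hw)
  have hc : Commute (g : G) T.B.a1 := mem_centralizer_singleton_iff.1 g.2
  have : Commute (g : G) (w : G) := hk ▸ hc.zpow_right k
  rw [mem_subgroupOf, coe_mul, coe_mul, coe_inv, this.eq, mul_inv_cancel_right]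
  exact mem_subgroupOf.1 hw⟩

/-- The quotient. -/
abbrev Xa : Type _ := T.Ca ⧸ T.Aa

theorem mem_Ca {g : G} : g ∈ T.Ca ↔ Commute g T.B.a1 := mem_centralizer_singleton_iff

theorem mk_eq_iff {g h : T.Ca} : (g : T.Xa) = h ↔ (g : G)⁻¹ * h ∈ zpowers T.B.a1 :=
  QuotientGroup.eq.trans mem_subgroupOf

theorem Q2_le_Ca : T.S.Q2 ≤ T.Ca := fun _ hq => T.mem_Ca.2 (T.S.comm12 T.B.ha1 hq).symm

theorem J_le_Ca : T.J ≤ T.Ca := fun w hw =>
  T.mem_Ca.2 (T.h.comm_P T.B T.hx (T.h.J_le_P T.B T.hx hw) (T.cv_a1 ▸ T.cv_mem _))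

theorem z_mem_Ca : D.z ∈ T.Ca := T.mem_Ca.2 (D.comm_z _ T.B.ha1.1).symm

/-- The image of the centre. -/
def za : T.Xa := ((⟨D.z, T.z_mem_Ca⟩ : T.Ca) : T.Xa)

theorem a1_pow_Q {b : G} (hb : b ∈ zpowers T.B.a1) : b ∈ D.Q ∧ (b ∈ T.S.Q2 → b = 1) := by
  refine ⟨zpowers_le.2 T.B.ha1.1 hb, fun h2 => ?_⟩
  obtain ⟨n, rfl⟩ := mem_powers_iff_mem_zpowers.2 hb
  have e : T.B.a1 ^ n = zp T.B.a1 (n : ZMod 3) := by
    rw [zp, ZMod.val_natCast]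
    exact pow_eq_pow_mod n T.B.a1_cube
  show T.B.a1 ^ n = 1
  rw [e, T.B.shift_unique (k := (n : ZMod 3))
    (e ▸ T.S.inf_eq.le ⟨T.S.Q1.pow_mem T.B.ha1 n, h2⟩), zp_zero]

/-- Centralising the image of the centre is centralising it. -/
theorem commute_za {g : T.Ca} : Commute (g : T.Xa) T.za ↔ Commute (g : G) D.z := by
  constructor
  · intro h
    have h1 : ((g * ⟨D.z, T.z_mem_Ca⟩ * g⁻¹ : T.Ca) : T.Xa) = ((⟨D.z, T.z_mem_Ca⟩ : T.Ca) : T.Xa) := by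
      rw [QuotientGroup.mk_mul, QuotientGroup.mk_mul, QuotientGroup.mk_inv]
      exact mul_inv_eq_iff_eq_mul.2 h
    have h2 := T.mk_eq_iff.1 h1
    obtain ⟨hQ, h3⟩ := T.a1_pow_Q h2
    have hp : (g : G) * D.z * (g : G)⁻¹ ∈ D.Q := by
      have := D.Q.mul_mem D.z_mem (D.Q.inv_mem hQ)
      simpa [mul_assoc] using this
    have hpz : (g : G) * D.z * (g : G)⁻¹ ∈ D.Zc := D.pt_mem_Q ((Pt.self _).conj _) hp
    have := h3 (by
      simpa [mul_assoc] using T.S.Q2.mul_mem (T.S.Q2.inv_mem (D.Zc_le_fixC T.S.t_z hpz))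
        (D.Zc_le_fixC T.S.t_z (mem_zpowers D.z)))
    simp only [coe_mul, coe_inv, inv_mul_eq_one] at this
    exact mul_inv_eq_iff_eq_mul.1 this
  · intro h
    show _ = _
    rw [za, ← QuotientGroup.mk_mul, ← QuotientGroup.mk_mul]
    exact congrArg _ (Subtype.ext h)

theorem HN_of_Ca {g : G} (hg : g ∈ T.Ca) (hz : Commute g D.z) : g ∈ T.S.HN :=
  T.S.mem_HN_of hz T.B.ha1 T.B.a1_not_Zc (by
    rw [(T.mem_Ca.1 hg).eq, mul_inv_cancel_right]; exact T.B.ha1)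

variable {T}

theorem mat2_x : T.B.matHom2 ⟨T.x, T.HN_of_Ca (T.J_le_Ca (T.h.x_mem_J T.B T.hx)) T.hx.1⟩ ≠ 1 := fun h => by
  obtain ⟨-, hd2⟩ := T.h.diag T.B T.hx
  exact hd2 (T.B.swap.k1_eq _ (show ⁅T.x, T.B.b2⁆ * (zp T.B.a2 0)⁻¹ ∈ D.Zc by
    simpa [zp_zero] using (T.B.matHom2_eq_one.1 h).2))

theorem mat2_surj (T : Setting D) (m : SL3) : ∃ g, ∃ hg : g ∈ T.Ca, ∃ hz : Commute g D.z,
    T.B.matHom2 ⟨g, T.HN_of_Ca hg hz⟩ = m := by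
  have hxm := T.h.x_mem_J T.B T.hx
  set u := T.B.matHom2 ⟨T.x, T.HN_of_Ca (T.J_le_Ca hxm) T.hx.1⟩ with hu
  have hu3 : u ^ 3 = 1 := by
    rw [hu, ← map_pow, show (⟨T.x, T.HN_of_Ca (T.J_le_Ca hxm) T.hx.1⟩ : T.S.HN) ^ 3 = 1 from Subtype.ext T.D'.z_cube,
      map_one]
  obtain ⟨n, hn, hm⟩ := sl_quat.2.2.2.2.2 u hu3 mat2_x m
  obtain ⟨l, hl, el⟩ := T.B.swap.exists_L hn
  have hlC : l ∈ T.Ca := T.mem_Ca.2 ((T.S.swap.mem_L.1 hl).2 _ T.B.ha1).symm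
  have hlz := T.S.swap.L_z hl
  have el' : T.B.matHom2 ⟨l, T.HN_of_Ca hlC hlz⟩ = n := el
  rcases hm with e | e | e
  · exact ⟨l, hlC, hlz, e ▸ el'⟩
  · refine ⟨l * T.x, mul_mem hlC (T.J_le_Ca hxm), hlz.mul_left T.hx.1, ?_⟩
    rw [e, ← el', hu, ← map_mul]
    rfl
  · refine ⟨l * (T.x * T.x), mul_mem hlC (mul_mem (T.J_le_Ca hxm) (T.J_le_Ca hxm)),
      hlz.mul_left (T.hx.1.mul_left T.hx.1), ?_⟩
    rw [e, ← el', hu, ← map_mul, ← map_mul]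
    rfl

theorem mat2_ker (h3 : T.IsThree) {g : G} (hg : g ∈ T.Ca) (hz : Commute g D.z)
    (h : T.B.matHom2 ⟨g, T.HN_of_Ca hg hz⟩ = 1) : ∃ b ∈ zpowers T.B.a1, ∃ q ∈ T.S.Q2, g = b * q := by
  obtain ⟨e1, e2⟩ := T.B.matHom2_eq_one.1 h
  have hS : g ∈ T.B.Stab := ⟨hz, by rw [commutatorElement_eq_one_iff_commute.2 (T.mem_Ca.1 hg)]; exact D.Zc.one_mem, e1⟩
  have hQ : g ∈ D.Q := h3.mem_Q' (g := ⟨g, hS⟩) (T.B.swap.k1_eq _
    (show ⁅g, T.B.b2⁆ * (zp T.B.a2 0)⁻¹ ∈ D.Zc by simpa [zp_zero] using e2))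
  obtain ⟨c, hc, d, hd, rfl⟩ := T.S.decomp g hQ
  obtain ⟨w, hw, i, j, rfl⟩ := T.B.normal_form hc
  have hcc : Commute (w * zp T.B.a1 i * zp T.B.b1 j) T.B.a1 := by
    have := (T.mem_Ca.1 hg).mul_left (T.S.comm12 T.B.ha1 hd).symm.inv_left
    rwa [mul_inv_cancel_right] at this
  have h1 := T.B.form_nf hw i j
  rw [commutatorElement_eq_one_iff_commute.2 hcc] at h1
  obtain rfl := zp_eq_one D.hz h1.symm
  refine ⟨zp T.B.a1 i, zp_mem (mem_zpowers _) i, w * d, T.S.Q2.mul_mem (D.Zc_le_fixC T.S.t_z hw) hd, ?_⟩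
  rw [zp_zero, mul_one, ← mul_assoc, (D.comm_Q_Zc (zp_mem T.B.ha1.1 i) hw).eq]

/-- The data on the quotient. -/
theorem exists_data (h3 : T.IsThree) : ∃ X : Cfsg.Lib.PSpThree.Data T.Xa, X.a = T.za ∧
    (∀ g : T.Ca, (g : G) ∈ T.J → (g : T.Xa) ∈ X.J) ∧ (∀ y ∈ X.J, ∃ g : T.Ca, (g : G) ∈ T.J ∧ (g : T.Xa) = y) ∧
    (∀ g : T.Ca, (g : G) ∈ T.S.Q2 → (g : T.Xa) ∈ X.R) := by
  classical
  set q : T.Ca →* T.Xa := QuotientGroup.mk' T.Aa
  have hker : ∀ g : T.Ca, q g = 1 ↔ (g : G) ∈ zpowers T.B.a1 := fun g =>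
    (QuotientGroup.eq_one_iff g).trans mem_subgroupOf
  let R : Subgroup T.Xa := (T.S.Q2.subgroupOf T.Ca).map q
  let J : Subgroup T.Xa := (T.J.subgroupOf T.Ca).map q
  let Cz : Subgroup T.Ca := (centralizer ({D.z} : Set G)).subgroupOf T.Ca
  have hCz : ∀ g : Cz, Commute ((g : T.Ca) : G) D.z := fun g =>
    mem_centralizer_singleton_iff.1 (mem_subgroupOf.1 g.2)
  let ψ : Cz →* centralizer ({T.za} : Set T.Xa) := (q.comp Cz.subtype).codRestrict _ fun g =>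
    mem_centralizer_singleton_iff.2 (T.commute_za.2 (hCz g))
  have hψ : Function.Surjective ψ := by
    rintro ⟨y, hy⟩
    obtain ⟨g, rfl⟩ := QuotientGroup.mk'_surjective T.Aa y
    exact ⟨⟨g, mem_subgroupOf.2 (mem_centralizer_singleton_iff.2
      (T.commute_za.1 (mem_centralizer_singleton_iff.1 hy)))⟩, rfl⟩
  let f : Cz →* SL3 := T.B.matHom2.comp
    ((T.Ca.subtype.comp Cz.subtype).codRestrict T.S.HN fun g => T.HN_of_Ca g.1.2 (hCz g))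
  have hf : ψ.ker ≤ f.ker := fun g hg => by
    refine (T.B.mat_of_Q (g := ⟨_, T.HN_of_Ca g.1.2 (hCz g)⟩) (T.a1_pow_Q ((hker g).1 ?_)).1).2
    exact congrArg Subtype.val (MonoidHom.mem_ker.1 hg)
  let π := ψ.liftOfSurjective hψ ⟨f, hf⟩
  have hπ : ∀ g, π (ψ g) = f g := MonoidHom.liftOfRightInverse_comp_apply _ _ _ ⟨f, hf⟩
  have hR : ∀ g : T.Ca, q g ∈ R ↔ ∃ b ∈ zpowers T.B.a1, ∃ u ∈ T.S.Q2, (g : G) = b * u := by
    intro g
    constructor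
    · rintro ⟨u, hu, e⟩
      refine ⟨(g : G) * (u : G)⁻¹, (hker (g * u⁻¹)).1 (by rw [map_mul, map_inv, e, mul_inv_cancel]), u,
        mem_subgroupOf.1 hu, by group⟩
    · rintro ⟨b, hb, u, hu, e⟩
      refine ⟨⟨u, T.Q2_le_Ca hu⟩, mem_subgroupOf.2 hu, ?_⟩
      rw [← mul_inv_eq_one, ← map_inv, ← map_mul, hker]
      have : u * (g : G)⁻¹ = b⁻¹ := by rw [e]; group
      show u * (g : G)⁻¹ ∈ _
      rw [this]; exact inv_mem hb
  have hRcard : Nat.card R = 27 := by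
    have h := card_map_mul q (T.S.Q2.subgroupOf T.Ca)
    rw [show T.S.Q2.subgroupOf T.Ca ⊓ q.ker = ⊥ from (eq_bot_iff_forall _).2 fun g hg => Subtype.ext
      ((T.a1_pow_Q ((hker g).1 hg.2)).2 (mem_subgroupOf.1 hg.1)), Subgroup.card_bot, mul_one,
      Nat.card_congr (subgroupOfEquivOfLe T.Q2_le_Ca).toEquiv, T.S.card₂] at h
    exact h
  have hJcard : Nat.card J = 27 := by
    have h := card_map_mul q (T.J.subgroupOf T.Ca)
    have hI : Nat.card (T.J.subgroupOf T.Ca ⊓ q.ker : Subgroup T.Ca) = 3 := by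
      rw [inf_eq_right.2 fun g hg => mem_subgroupOf.2 (zpowers_le.2 (T.cv_a1 ▸ T.cv_mem _) ((hker g).1 hg)),
        QuotientGroup.ker_mk', Nat.card_congr (subgroupOfEquivOfLe (zpowers_le.2 (T.mem_Ca.2 (Commute.refl _)))).toEquiv,
        Nat.card_zpowers, orderOf_eq_prime T.B.a1_cube (fun e => T.B.a1_not_Zc (e ▸ D.Zc.one_mem))]
    rw [hI, Nat.card_congr (subgroupOfEquivOfLe T.J_le_Ca).toEquiv, T.h.card_J T.B T.hx] at h
    change Nat.card J * 3 = 81 at h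
    omega
  have hcommJ : ∀ u ∈ T.J, ∀ v ∈ T.J, Commute u v := fun u hu v hv => T.h.comm_P T.B T.hx (T.h.J_le_P T.B T.hx hu) hv
  refine ⟨{
    a := T.za
    ha := orderOf_eq_prime (by
      rw [za, ← QuotientGroup.mk_pow, show (⟨D.z, T.z_mem_Ca⟩ : T.Ca) ^ 3 = 1 from Subtype.ext D.z_cube]; rfl)
      fun e => D.z_ne ((T.a1_pow_Q ((hker ⟨D.z, T.z_mem_Ca⟩).1 e)).2 (D.Zc_le_fixC T.S.t_z (mem_zpowers _)))
    R := R
    R_le := by
      rintro _ ⟨g, hg, rfl⟩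
      exact mem_centralizer_singleton_iff.2 (T.commute_za.2 (D.comm_z _ (mem_subgroupOf.1 hg).1))
    R_card := hRcard
    R_exp := by
      rintro _ ⟨g, hg, rfl⟩
      rw [← map_pow, show g ^ 3 = 1 from Subtype.ext (T.S.exp_two (mem_subgroupOf.1 hg)), map_one]
    a_mem := ⟨⟨D.z, T.z_mem_Ca⟩, mem_subgroupOf.2 (D.Zc_le_fixC T.S.t_z (mem_zpowers _)), rfl⟩
    R_center := ?_
    R_comm := ?_
    R_nab := ?_
    π := π
    surj := ?_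
    ker := ?_
    J := J
    J_le := by
      rintro _ ⟨g, hg, rfl⟩
      exact mem_centralizer_singleton_iff.2 (T.commute_za.2
        (hcommJ _ (mem_subgroupOf.1 hg) _ (T.h.z_mem_J T.B T.hx)))
    J_comm := by
      rintro _ ⟨g, hg, rfl⟩ _ ⟨g', hg', rfl⟩
      rw [← map_mul, ← map_mul, show g * g' = g' * g from
        Subtype.ext (hcommJ _ (mem_subgroupOf.1 hg) _ (mem_subgroupOf.1 hg')).eq]
    J_exp := by
      rintro _ ⟨g, hg, rfl⟩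
      obtain ⟨v, hv⟩ := T.exists_cv (mem_subgroupOf.1 hg)
      rw [← map_pow, show g ^ 3 = 1 from Subtype.ext (by
        rw [coe_pow, ← hv, pow_three, ← T.cv_add, ← T.cv_add,
          show v + (v + v) = 0 from (show ∀ a : V4, a + (a + a) = 0 by decide +kernel) v, T.cv_zero, coe_one]),
        map_one]
    J_card := hJcard
    sig := ?_ }, rfl, fun g hg => ⟨g, mem_subgroupOf.2 hg, rfl⟩, ?_, fun g hg => ⟨g, mem_subgroupOf.2 hg, rfl⟩⟩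
  · rintro _ ⟨g, hg, rfl⟩ h
    have hg' := mem_subgroupOf.1 hg
    have hz : (g : G) ∈ D.Zc := T.S.swap.center_one hg' fun u hu => by
      have h1 := h _ ⟨⟨u, T.Q2_le_Ca hu⟩, mem_subgroupOf.2 hu, rfl⟩
      rw [← map_mul, ← map_mul] at h1
      have h2 := T.mk_eq_iff.1 h1.symm
      have h3' := (T.a1_pow_Q h2).2 (by
        exact mul_mem (inv_mem (mul_mem hu hg')) (mul_mem hg' hu))
      simp only [coe_mul, inv_mul_eq_one] at h3'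
      exact h3'.symm
    obtain ⟨k, hk⟩ := mem_zpowers_iff.1 hz
    refine ⟨k, ?_⟩
    show T.za ^ k = q g
    rw [za, ← QuotientGroup.mk_zpow]
    exact congrArg _ (Subtype.ext hk)
  · rintro _ ⟨g, hg, rfl⟩ _ ⟨g', hg', rfl⟩
    obtain ⟨k, hk⟩ := mem_zpowers_iff.1 (D.comm_form (mem_subgroupOf.1 hg).1 (mem_subgroupOf.1 hg').1)
    refine ⟨k, ?_⟩
    show T.za ^ k = _
    rw [za, ← QuotientGroup.mk_zpow, ← map_inv, ← map_inv, ← map_mul, ← map_mul, ← map_mul]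
    exact congrArg _ (Subtype.ext hk)
  · refine ⟨_, ⟨⟨T.B.b2, T.Q2_le_Ca T.B.hb2⟩, mem_subgroupOf.2 T.B.hb2, rfl⟩, _,
      ⟨⟨T.B.a2, T.Q2_le_Ca T.B.ha2⟩, mem_subgroupOf.2 T.B.ha2, rfl⟩, fun e => T.B.swap.notComm ?_⟩
    rw [← map_mul, ← map_mul] at e
    have h2 := (T.a1_pow_Q (T.mk_eq_iff.1 e.symm)).2
      (mul_mem (inv_mem (mul_mem T.B.ha2 T.B.hb2)) (mul_mem T.B.hb2 T.B.ha2))
    simp only [coe_mul, inv_mul_eq_one] at h2
    exact h2.symm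
  · intro m
    obtain ⟨g, hg, hz, e⟩ := mat2_surj T m
    exact ⟨ψ ⟨⟨g, hg⟩, mem_subgroupOf.2 (mem_centralizer_singleton_iff.2 hz)⟩, by rw [hπ]; exact e⟩
  · intro c
    obtain ⟨g, rfl⟩ := hψ c
    rw [hπ]
    show f g = 1 ↔ q g ∈ R
    rw [hR]
    refine ⟨fun h => mat2_ker h3 g.1.2 (hCz g) h, ?_⟩
    rintro ⟨b, hb, u, hu, e⟩
    exact (T.B.mat_of_Q (g := ⟨_, T.HN_of_Ca g.1.2 (hCz g)⟩) (by
      show ((g : T.Ca) : G) ∈ D.Q
      rw [e]; exact D.Q.mul_mem (T.a1_pow_Q hb).1 hu.1)).2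
  · intro K hK hn
    obtain ⟨K', hK'⟩ : ∃ K', K' = (K.comap q).map T.Ca.subtype := ⟨_, rfl⟩
    have ho : orderOf T.B.a1 = 3 := orderOf_eq_prime T.B.a1_cube (fun e => T.B.a1_not_Zc (e ▸ D.Zc.one_mem))
    have haK : T.B.a1 ∈ K' := hK' ▸ ⟨⟨T.B.a1, T.mem_Ca.2 (Commute.refl _)⟩, mem_comap.2 (by
      rw [(hker ⟨T.B.a1, T.mem_Ca.2 (Commute.refl _)⟩).2 (mem_zpowers _)]; exact one_mem K), rfl⟩
    have hcard : Nat.card K' = orderOf T.B.a1 * Nat.card K := by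
      rw [hK', card_map_of_injective T.Ca.subtype_injective]
      have h := card_map_mul q (K.comap q)
      rw [map_comap_eq_self_of_surjective (QuotientGroup.mk'_surjective _),
        inf_eq_right.2 fun g hg => mem_comap.2 (by rw [MonoidHom.mem_ker.1 hg]; exact one_mem K),
        QuotientGroup.ker_mk', Nat.card_congr (subgroupOfEquivOfLe (zpowers_le.2 (T.mem_Ca.2 (Commute.refl _)))).toEquiv,
        Nat.card_zpowers] at h
      rw [← h, mul_comm]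
    obtain ⟨U, hUK, hUc, hUm, hUd⟩ := exists_coprime_part haK
      (fun g hg => by rw [hK'] at hg; exact T.mem_Ca.1 (map_subtype_le _ hg)) hcard (by rw [ho]; exact hK.symm)
    have hU : U = ⊥ := by
      refine T.signalizer (hUc ▸ hK) fun j hj => ?_
      have hle : U.map (MulAut.conj j).toMonoidHom ≤ U := by
        rintro _ ⟨u, hu, rfl⟩
        show j * u * j⁻¹ ∈ U
        have hj' := T.J_le_Ca hj
        refine hUm _ ?_ ?_
        · have hu' := hUK hu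
          rw [hK'] at hu' ⊢
          obtain ⟨u', hu'', rfl⟩ := hu'
          refine ⟨⟨j, hj'⟩ * u' * ⟨j, hj'⟩⁻¹, mem_comap.2 ?_, rfl⟩
          have := hn (q ⟨j, hj'⟩) ⟨⟨j, hj'⟩, mem_subgroupOf.2 hj, rfl⟩
          rw [map_mul, map_mul, map_inv]
          exact this.le ⟨q u', mem_comap.1 hu'', rfl⟩
        · rw [conj_pow, show u ^ Nat.card K = 1 from hUc ▸ congrArg Subtype.val (pow_card_eq_one' (x := (⟨u, hu⟩ : U)))]
          group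
      have he : U.map (MulAut.conj j).toMonoidHom = U := Subgroup.eq_of_le_of_card_ge hle
        (le_of_eq (Subgroup.card_map_of_injective (MulAut.conj j).injective).symm)
      rw [mem_normalizer_iff]
      intro u
      refine ⟨fun hu => hle ⟨u, hu, rfl⟩, fun hu => ?_⟩
      obtain ⟨v, hv, e⟩ := he.ge hu
      exact mul_left_cancel (mul_right_cancel e) ▸ hv
    exact Subgroup.card_eq_one.1 (hUc ▸ hU ▸ Subgroup.card_bot)
  · rintro _ ⟨g, hg, rfl⟩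
    exact ⟨g, mem_subgroupOf.1 hg, rfl⟩

/-- The quotient has no normal subgroup of index three. -/
theorem Xa_no_three (h3 : T.IsThree) : ∀ M : Subgroup T.Xa, M.Normal → M.index ≠ 3 := by
  intro M hMn hM
  obtain ⟨X, hXa, -, -, hXR⟩ := exists_data h3
  refine no_index_three X ?_ hM
  have hQ2 : ∀ q, ∀ hq : q ∈ T.S.Q2, ((⟨q, T.Q2_le_Ca hq⟩ : T.Ca) : T.Xa) ∈ M := by
    have hz : ((⟨D.z, T.z_mem_Ca⟩ : T.Ca) : T.Xa) ∈ M := by
      have := comm_mem_of_three hM ((⟨T.B.b2, T.Q2_le_Ca T.B.hb2⟩ : T.Ca) : T.Xa)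
        ((⟨T.B.a2, T.Q2_le_Ca T.B.ha2⟩ : T.Ca) : T.Xa)
      rw [← QuotientGroup.mk_inv, ← QuotientGroup.mk_inv, ← QuotientGroup.mk_mul, ← QuotientGroup.mk_mul,
        ← QuotientGroup.mk_mul] at this
      convert this using 2
      exact Subtype.ext T.B.h2.symm
    intro q hq
    have hs : T.S.s ∈ T.Ca := T.mem_Ca.2 (D.mem_fixC.1 T.B.ha1).2.symm
    have h1 := comm_mem_of_three hM ((⟨T.S.s, hs⟩ : T.Ca) : T.Xa) ((⟨q, T.Q2_le_Ca hq⟩ : T.Ca) : T.Xa)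
    have hw := T.S.s_neg q hq
    obtain ⟨k, hk⟩ := mem_zpowers_iff.1 hw
    have h2 : (((⟨D.z, T.z_mem_Ca⟩ : T.Ca) ^ k : T.Ca) : T.Xa) ∈ M := by
      rw [QuotientGroup.mk_zpow]; exact zpow_mem hz k
    simp only [← QuotientGroup.mk_inv, ← QuotientGroup.mk_mul] at h1
    have h3' := mul_mem (inv_mem h2) h1
    rw [← QuotientGroup.mk_inv, ← QuotientGroup.mk_mul] at h3'
    have e : ((⟨D.z, T.z_mem_Ca⟩ : T.Ca) ^ k)⁻¹ * (⟨T.S.s, hs⟩ * ⟨q, T.Q2_le_Ca hq⟩ * ⟨T.S.s, hs⟩⁻¹ *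
        ⟨q, T.Q2_le_Ca hq⟩⁻¹) = ⟨q, T.Q2_le_Ca hq⟩ := Subtype.ext (by
      show (D.z ^ k)⁻¹ * (T.S.s * q * T.S.s⁻¹ * q⁻¹) = q
      rw [hk]
      have hq3 := T.S.exp_two hq
      calc (T.S.s * q * T.S.s⁻¹ * q)⁻¹ * (T.S.s * q * T.S.s⁻¹ * q⁻¹) = q⁻¹ * q⁻¹ := by group
        _ = (q ^ 3)⁻¹ * q := by group
        _ = q := by rw [hq3]; group)
    rwa [e] at h3'
  have hL : ∀ g : T.Ca, (g : G) ^ 4 = 1 → (g : T.Xa) ∈ M := fun g hg =>
    mem_of_four hM (by rw [← QuotientGroup.mk_pow, show g ^ 4 = 1 from Subtype.ext hg]; rfl)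
  have hxm := T.h.x_mem_J T.B T.hx
  have hx : ((⟨T.x, T.J_le_Ca hxm⟩ : T.Ca) : T.Xa) ∈ M := by
    obtain ⟨v, -, hv⟩ := T.exists_v 0 1
    have hvC : v ∈ T.Ca := T.mem_Ca.2 (by
      have := hv.eq (0, 1, 0, 0)
      rw [show app (vM 0 1) (0, 1, 0, 0) = (0, 1, 0, 0) by decide +kernel, T.cv_a1] at this
      exact mul_inv_eq_iff_eq_mul.1 this)
    have h1 := comm_mem_of_three hM ((⟨v, hvC⟩ : T.Ca) : T.Xa) ((⟨T.B.a2, T.Q2_le_Ca T.B.ha2⟩ : T.Ca) : T.Xa)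
    simp only [← QuotientGroup.mk_inv, ← QuotientGroup.mk_mul] at h1
    have e : v * T.B.a2 * v⁻¹ * T.B.a2⁻¹ = T.x * T.x := by
      rw [← T.cv_a2, hv.eq, show app (vM 0 1) (0, 0, 1, 0) = (0, 0, 0, 1) + (0, 0, 0, 1) + (0, 0, 1, 0) by decide +kernel,
        T.cv_add, T.cv_add, T.cv_x, mul_inv_cancel_right]
    rw [show (⟨v, hvC⟩ : T.Ca) * ⟨T.B.a2, T.Q2_le_Ca T.B.ha2⟩ * ⟨v, hvC⟩⁻¹ * ⟨T.B.a2, T.Q2_le_Ca T.B.ha2⟩⁻¹ =
      ⟨T.x, T.J_le_Ca hxm⟩ * ⟨T.x, T.J_le_Ca hxm⟩ from Subtype.ext e, QuotientGroup.mk_mul] at h1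
    have h2 := mul_mem h1 h1
    rwa [← mul_assoc, ← QuotientGroup.mk_mul, ← QuotientGroup.mk_mul, ← QuotientGroup.mk_mul,
      show (⟨T.x, T.J_le_Ca hxm⟩ : T.Ca) * ⟨T.x, T.J_le_Ca hxm⟩ * ⟨T.x, T.J_le_Ca hxm⟩ * ⟨T.x, T.J_le_Ca hxm⟩ =
        ⟨T.x, T.J_le_Ca hxm⟩ from Subtype.ext (by
        show T.x * T.x * T.x * T.x = T.x
        have e3 : T.x ^ 3 = 1 := T.D'.z_cube
        rw [pow_three, ← mul_assoc] at e3
        rw [e3, one_mul])] at h2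
  intro y hy
  obtain ⟨g, rfl⟩ := QuotientGroup.mk_surjective y
  rw [hXa] at hy
  have hz := T.commute_za.1 (mem_centralizer_singleton_iff.1 hy)
  obtain ⟨n, hn, hm⟩ := sl_quat.2.2.2.2.2 (T.B.matHom2 ⟨T.x, T.HN_of_Ca (T.J_le_Ca hxm) T.hx.1⟩) (by
    rw [← map_pow, show (⟨T.x, T.HN_of_Ca (T.J_le_Ca hxm) T.hx.1⟩ : T.S.HN) ^ 3 = 1 from Subtype.ext T.D'.z_cube,
      map_one]) mat2_x (T.B.matHom2 ⟨g, T.HN_of_Ca g.2 hz⟩)
  obtain ⟨l, hl, el⟩ := T.B.swap.exists_L hn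
  have hlC : l ∈ T.Ca := T.mem_Ca.2 ((T.S.swap.mem_L.1 hl).2 _ T.B.ha1).symm
  have hlz := T.S.swap.L_z hl
  have el' : T.B.matHom2 ⟨l, T.HN_of_Ca hlC hlz⟩ = n := el
  have key : ∀ w : T.Ca, (w : T.Xa) ∈ M → ∀ hwz : Commute (w : G) D.z,
      T.B.matHom2 ⟨g, T.HN_of_Ca g.2 hz⟩ = T.B.matHom2 ⟨w, T.HN_of_Ca w.2 hwz⟩ → (g : T.Xa) ∈ M := by
    intro w hw hwz e
    obtain ⟨b, hb, u, hu, eb⟩ := mat2_ker h3 (g := (g : G) * (w : G)⁻¹) (mul_mem g.2 (inv_mem w.2))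
      (hz.mul_left hwz.inv_left) (by
        rw [show (⟨(g : G) * (w : G)⁻¹, _⟩ : T.S.HN) = ⟨g, T.HN_of_Ca g.2 hz⟩ * ⟨w, T.HN_of_Ca w.2 hwz⟩⁻¹ from rfl,
          map_mul, map_inv, e, mul_inv_cancel])
    have hbC : b ∈ T.Ca := zpowers_le.2 (T.mem_Ca.2 (Commute.refl _)) hb
    have e2 : g = (⟨b, hbC⟩ : T.Ca) * ⟨u, T.Q2_le_Ca hu⟩ * w := Subtype.ext (by
      show (g : G) = b * u * w
      rw [← eb, inv_mul_cancel_right])
    rw [e2, QuotientGroup.mk_mul, QuotientGroup.mk_mul,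
      (QuotientGroup.eq_one_iff (⟨b, hbC⟩ : T.Ca)).2 (mem_subgroupOf.2 hb), one_mul]
    exact mul_mem (hQ2 u hu) hw
  rcases hm with e | e | e
  · exact key ⟨l, hlC⟩ (hL _ (T.S.swap.L_four hl)) hlz (e.trans el'.symm)
  · refine key (⟨l, hlC⟩ * ⟨T.x, T.J_le_Ca hxm⟩) ?_ (hlz.mul_left T.hx.1) ?_
    · rw [QuotientGroup.mk_mul]; exact mul_mem (hL ⟨l, hlC⟩ (T.S.swap.L_four hl)) hx
    · rw [e, ← el', ← map_mul]; rfl
  · refine key (⟨l, hlC⟩ * (⟨T.x, T.J_le_Ca hxm⟩ * ⟨T.x, T.J_le_Ca hxm⟩)) ?_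
      (hlz.mul_left (T.hx.1.mul_left T.hx.1)) ?_
    · rw [QuotientGroup.mk_mul, QuotientGroup.mk_mul]
      exact mul_mem (hL ⟨l, hlC⟩ (T.S.swap.L_four hl)) (mul_mem hx hx)
    · rw [e, ← el', ← map_mul, ← map_mul]; rfl

end Setting

end Cfsg.Lib.U6Three
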