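import Cfsg.Agent.Lib.U6Three.Orbit
import Cfsg.Agent.Lib.U6Three.Block

/-!
# The four points fixed by the involution and their quaternion groups
-/

set_option autoImplicit false
set_option linter.unusedSectionVars false
set_option synthInstance.maxSize 4000
set_option maxRecDepth 8000

namespace Cfsg.Lib.U6Three

open Subgroup
open scoped commutatorElement

/-- The four points of the fixed hyperplane. -/
def ptsA : List V4 := [(1, 0, 0, 0), (0, 0, 0, 1), (1, 0, 1, 1), (1, 0, 2, 1)]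

theorem ptsA_facts : (∀ w ∈ ptsA, w ∈ orb gensT (1, 0, 0, 0) 2) ∧
    (∀ w ∈ ptsA, w ≠ (1, 0, 0, 0) → ∃ j : ZMod 3, w = ptv 0 j) ∧ (∀ j : ZMod 3, ptv 0 j ∈ ptsA) ∧
    (∀ j : ZMod 3, app (uM 0 j) (app kM (1, 0, 0, 0)) = ptv 0 j) := by
  refine ⟨?_, ?_, ?_, ?_⟩ <;> decide +kernel

theorem ptsA_closed (m : Cols) (hm : m ∈ gensT) : ∀ w ∈ ptsA, app m w ∈ ptsA := by
  simp only [gensT, List.mem_cons, List.not_mem_nil, or_false] at hm
  rcases hm with rfl | rfl | rfl | rfl <;> decide +kernel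

theorem sl_fixed : (∀ m : SL3, m.1 0 0 = 1 → m.1 1 0 = 0 → m ^ 3 = 1) ∧ (∀ m : SL3, m ^ 12 = 1) ∧
    (∀ u m : SL3, u ^ 3 = 1 → u ≠ 1 → m ^ 4 = 1 → m * u = u * m → m = 1 ∨ m = -1) := by
  refine ⟨?_, ?_, ?_⟩ <;> decide +kernel

theorem mem_normalizer_set {G : Type*} [Group G] [Finite G] {P : Set G} {g : G}
    (h : ∀ x ∈ P, g * x * g⁻¹ ∈ P) : g ∈ normalizer P := by
  rw [mem_set_normalizer_iff]
  intro x
  refine ⟨h x, fun hx => ?_⟩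
  have hb : Function.Bijective (fun p : P => (⟨g * p.1 * g⁻¹, h p.1 p.2⟩ : P)) :=
    Finite.injective_iff_bijective.1 fun p q e =>
      Subtype.ext (mul_left_cancel (mul_right_cancel (congrArg Subtype.val e)))
  obtain ⟨p, hp⟩ := hb.2 ⟨_, hx⟩
  exact mul_left_cancel (mul_right_cancel (congrArg Subtype.val hp)) ▸ p.2

theorem commute_of_mod_coprime {G : Type*} [Group G] [Finite G] (D : Data G) {g q : G} (hg : Commute g D.z)
    {n : ℕ} (hn : g ^ n = 1) (hc : n.Coprime 3) (h : ⁅g, q⁆ ∈ D.Zc) : Commute g q := by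
  have key : ∀ m : ℕ, g ^ m * q * (g ^ m)⁻¹ = ⁅g, q⁆ ^ m * q := by
    intro m
    induction m with
    | zero => simp
    | succ m ih =>
      rw [pow_succ' g, show g * g ^ m * q * (g * g ^ m)⁻¹ = g * (g ^ m * q * (g ^ m)⁻¹) * g⁻¹ by group, ih,
        show g * (⁅g, q⁆ ^ m * q) * g⁻¹ = g * ⁅g, q⁆ ^ m * g⁻¹ * (g * q * g⁻¹) by group,
        (D.comm_Zc hg (D.Zc.pow_mem h m)).eq, mul_inv_cancel_right, Data.conj_eq, pow_succ (⁅g, q⁆), mul_assoc]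
  have h1 := key n
  rw [hn, one_mul, inv_one, mul_one] at h1
  exact commutatorElement_eq_one_iff_commute.1 (eq_one_of_coprime hc (mul_eq_right.1 h1.symm) (D.cube_Zc h))

namespace Basis

variable {G : Type*} [Group G] [Finite G] {D : Data G} {S : Split D} (B : Basis S)

theorem matHom_t (ta : S.t * B.a1 * S.t⁻¹ = B.a1⁻¹) : B.matHom ⟨S.t, S.L_HN S.t_mem_L⟩ = -1 := by
  have hb : B.ci (S.t * B.b1 * S.t⁻¹) = 0 ∧ B.cj (S.t * B.b1 * S.t⁻¹) = 2 := by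
    obtain ⟨w, hw, e⟩ : ∃ w ∈ D.Zc, S.t * B.b1 * S.t⁻¹ = w * zp B.a1 0 * zp B.b1 2 := by
      refine ⟨_, S.t_neg _ B.hb1, ?_⟩
      rw [zp_zero, mul_one, show (2 : ZMod 3) = -1 from rfl, ← zp_inv B.b1_cube, zp_one]
      group
    rw [e, B.ci_nf hw, B.cj_nf hw]
    exact ⟨rfl, rfl⟩
  have ha : B.ci (S.t * B.a1 * S.t⁻¹) = 2 ∧ B.cj (S.t * B.a1 * S.t⁻¹) = 0 := by
    have e : S.t * B.a1 * S.t⁻¹ = 1 * zp B.a1 2 * zp B.b1 0 := by
      rw [ta, zp_zero, one_mul, mul_one, show (2 : ZMod 3) = -1 from rfl, ← zp_inv B.a1_cube, zp_one]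
    rw [e, B.ci_nf D.Zc.one_mem, B.cj_nf D.Zc.one_mem]
    exact ⟨rfl, rfl⟩
  exact sl_neg_of _ ha.1 ha.2 hb.1 hb.2

theorem fix_first {g : S.HN} (h : ⁅(g : G), B.a1⁆ ∈ D.Zc) : (B.matHom g).1 0 0 = 1 ∧ (B.matHom g).1 1 0 = 0 := by
  have e : (g : G) * B.a1 * (g : G)⁻¹ = ⁅(g : G), B.a1⁆ * zp B.a1 1 * zp B.b1 0 := by
    rw [zp_one, zp_zero, mul_one, Data.conj_eq]
  exact ⟨(congrArg B.ci e).trans (B.ci_nf h 1 0), (congrArg B.cj e).trans (B.cj_nf h 1 0)⟩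

end Basis

namespace Split

variable {G : Type*} [Group G] [Finite G] {D : Data G} (S : Split D)

/-- Elements of order prime to three fixing an element of the second half lie in the quaternion group. -/
theorem mem_L_of_fix {q : G} (hq : q ∈ S.Q2) (hqZ : q ∉ D.Zc) {u : G} (hz : Commute u D.z) (ht : Commute u S.t)
    {n : ℕ} (hn : u ^ n = 1) (hc : n.Coprime 3) (hu : Commute u q) : u ∈ S.L := by
  obtain ⟨B0, -⟩ := S.exists_basis_of_three (P := ⊥) IsPGroup.of_bot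
    fun g hg => by rw [mem_bot.1 hg]; exact Commute.one_left _
  obtain ⟨B, -, hB⟩ := S.exists_basis B0.ha1 B0.a1_not_Zc hq hqZ
  subst hB
  have hQ2 : ∀ w ∈ S.Q2, u * w * u⁻¹ ∈ S.Q2 := fun w hw => by
    obtain ⟨hwQ, hwt⟩ := D.mem_fixC.1 hw
    exact D.mem_fixC.2 ⟨D.norm_Q u hz w hwQ, (ht.mul_left hwt).mul_left ht.inv_left⟩
  have hHN : u ∈ S.HN := S.swap.HN_swap (S.swap.mem_HN_of hz B.ha2 B.swap.a1_not_Zc (hQ2 _ B.ha2))
  set g : S.HN := ⟨u, hHN⟩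
  have hpow : ∀ f : S.HN →* SL3, f g ^ n = 1 := fun f => by
    rw [← map_pow, show g ^ n = 1 from Subtype.ext hn, map_one]
  have h2 : B.matHom2 g = 1 := by
    obtain ⟨e1, e2⟩ := B.swap.fix_first (g := ⟨u, S.HN_swap hHN⟩)
      (show ⁅u, B.a2⁆ ∈ D.Zc by rw [commutatorElement_eq_one_iff_commute.2 hu]; exact D.Zc.one_mem)
    exact eq_one_of_coprime hc (hpow _) (sl_fixed.1 _ e1 e2)
  obtain ⟨f1, f2⟩ := B.matHom2_eq_one.1 h2
  have hcomm : ∀ w ∈ S.Q2, Commute w u := fun w hw =>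
    (B.swap.Q1_pair (commute_of_mod_coprime D hz hn hc f1) (commute_of_mod_coprime D hz hn hc f2) hw).symm
  have h4 : B.matHom g ^ 4 = 1 := orderOf_dvd_iff_pow_eq_one.1 (by
    have h12 := orderOf_dvd_of_pow_eq_one (sl_fixed.2.1 (B.matHom g))
    have hn' := orderOf_dvd_of_pow_eq_one (hpow B.matHom)
    exact Nat.Coprime.dvd_of_dvd_mul_right (Nat.Coprime.coprime_dvd_left hn' hc) (show orderOf (B.matHom g) ∣ 4 * 3 from h12))
  obtain ⟨l, hl, el⟩ := B.exists_L h4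
  have hQ : u * l⁻¹ ∈ D.Q := B.mem_Q_of_mat (g := g * (⟨l, S.L_HN hl⟩ : S.HN)⁻¹)
    (by rw [map_mul, map_inv, el, mul_inv_cancel]) (by rw [map_mul, map_inv, h2, B.mat_L hl, inv_one, one_mul])
  have hw2 : u * l⁻¹ ∈ S.Q2 := D.mem_fixC.2 ⟨hQ, ht.mul_left (S.L_t hl).inv_left⟩
  have hw : u * l⁻¹ ∈ D.Zc := S.swap.center_one hw2 fun w hw =>
    ((hcomm w hw).mul_right (((S.mem_L.1 hl).2 w hw).inv_right)).symm
  have hcl : Commute (u * l⁻¹) l := (D.comm_Zc (S.L_z hl) hw).symm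
  have h1 : (u * l⁻¹) ^ (4 * n) = 1 := by
    have e := hcl.mul_pow (4 * n)
    rw [inv_mul_cancel_right, pow_mul l, S.L_four hl, one_pow, mul_one, mul_comm, pow_mul u, hn, one_pow,
      mul_comm] at e
    exact e.symm
  rwa [mul_inv_eq_one.1 (eq_one_of_coprime (Nat.Coprime.mul_left (by decide : Nat.Coprime 4 3) hc) h1 (D.cube_Zc hw))]

theorem conj_L {g : G} (hz : Commute g D.z) (ht : Commute g S.t) {l : G} (hl : l ∈ S.L) : g * l * g⁻¹ ∈ S.L := by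
  refine S.mem_L_of ((hz.mul_left (S.L_z hl)).mul_left hz.inv_left) ((ht.mul_left (S.L_t hl)).mul_left ht.inv_left)
    (by rw [conj_pow, S.L_four hl]; group) fun q hq => ?_
  obtain ⟨hqQ, hqt⟩ := D.mem_fixC.1 hq
  have hq' : g⁻¹ * q * g ∈ S.Q2 := D.mem_fixC.2 ⟨D.conj_inv_mem hz hqQ, (ht.inv_left.mul_left hqt).mul_left ht⟩
  have := ((S.mem_L.1 hl).2 _ hq').map (MulAut.conj g).toMonoidHom
  simpa [mul_assoc] using this

end Split

namespace Setting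

variable {G : Type*} [Group G] [Finite G] {D : Data G} (T : Setting D)

/-- The four points. -/
def P4 : Set G := T.cv '' {w | w ∈ ptsA}

/-- The elements commuting with the involution and permuting the four points. -/
def H4 : Subgroup G := centralizer ({T.S.t} : Set G) ⊓ (normalizer (T.J : Set G) ⊓ normalizer T.P4)

/-- The group generated by the four quaternion groups. -/
def Rt : Subgroup G := ⨆ g : T.H4, T.S.L.map (MulAut.conj (g : G)).toMonoidHom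

theorem mem_H4 {g : G} : g ∈ T.H4 ↔
    Commute g T.S.t ∧ g ∈ normalizer (T.J : Set G) ∧ g ∈ normalizer T.P4 :=
  and_congr mem_centralizer_singleton_iff Iff.rfl

theorem H4_of_act {g : G} {m : Cols} (ht : Commute g T.S.t) (hg : T.Act g m) (h : ∀ w ∈ ptsA, app m w ∈ ptsA) :
    g ∈ T.H4 := T.mem_H4.2 ⟨ht, hg.norm, mem_normalizer_set (by
      rintro _ ⟨w, hw, rfl⟩
      exact ⟨_, h w hw, (hg.eq w).symm⟩)⟩

theorem A_le_H4 {a : G} (ha : a ∈ T.J) (ht : Commute a T.S.t) : a ∈ T.H4 := T.mem_H4.2 ⟨ht, le_normalizer ha,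
  mem_normalizer_set (by
    rintro _ ⟨w, hw, rfl⟩
    rw [(T.h.comm_P T.B T.hx (T.h.J_le_P T.B T.hx ha) (T.cv_mem w)).eq, mul_inv_cancel_right]
    exact ⟨w, hw, rfl⟩)⟩

theorem last_zero_of_Q {v : V4} (h : T.cv v ∈ D.Q) : v.2.2.2 = 0 := by
  by_contra hne
  refine T.h.notin ?_
  have h2 := D.Q.mul_mem (D.Q.inv_mem (T.B.el_mem (T.ε * v.1) v.2.1 v.2.2.1)) h
  rw [cv, inv_mul_cancel_left] at h2
  have h3 := zp_mem h2 v.2.2.2⁻¹
  rwa [zp_zp T.D'.z_cube, mul_inv_cancel₀ hne, zp_one] at h3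

theorem cv_fixed {v : V4} (h : Commute (T.cv v) T.S.t) : v.2.1 = 0 := by
  have h1 := T.act_t.eq v
  rw [h.symm.eq, mul_inv_cancel_right] at h1
  exact (show ∀ v : V4, v = app tM v → v.2.1 = 0 by decide +kernel) v (T.cv_inj h1)

theorem Q2_le_H4 {q : G} (hq : q ∈ T.S.Q2) : q ∈ T.H4 := by
  obtain ⟨hqQ, hqt⟩ := D.mem_fixC.1 hq
  have hn : q ∈ normalizer (T.J : Set G) := T.h.Q_le_norm T.B T.hx hqQ
  refine T.mem_H4.2 ⟨hqt, hn, mem_normalizer_set ?_⟩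
  rintro _ ⟨w, hw, rfl⟩
  by_cases hw0 : w = (1, 0, 0, 0)
  · subst hw0
    rw [T.cv_z, ((zp_comm (D.comm_z q hqQ).symm T.ε).symm).eq, mul_inv_cancel_right]
    exact ⟨_, hw, T.cv_z⟩
  obtain ⟨j, rfl⟩ := ptsA_facts.2.1 w hw hw0
  have hpJ := T.cv_mem (ptv 0 j)
  have hy : q * T.cv (ptv 0 j) * q⁻¹ ∈ T.J := (mem_normalizer_iff.1 hn _).1 hpJ
  obtain ⟨v, hv⟩ := T.exists_cv hy
  have hpz : Commute (T.cv (ptv 0 j)) D.z :=
    T.h.comm_P T.B T.hx (T.h.J_le_P T.B T.hx hpJ) (T.h.z_mem_J T.B T.hx)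
  have hd : T.cv (v - ptv 0 j) ∈ D.Q := by
    have e : T.cv v = T.cv (v - ptv 0 j) * T.cv (ptv 0 j) := by rw [← T.cv_add, sub_add_cancel]
    have := D.Q.mul_mem hqQ (D.norm_Q _ hpz _ (D.Q.inv_mem hqQ))
    rwa [show q * (T.cv (ptv 0 j) * q⁻¹ * (T.cv (ptv 0 j))⁻¹) = (q * T.cv (ptv 0 j) * q⁻¹) * (T.cv (ptv 0 j))⁻¹ by group,
      ← hv, e, mul_inv_cancel_right] at this
  have h4 : v.2.2.2 = 1 := by simpa [ptv, sub_eq_zero] using T.last_zero_of_Q hd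
  have hpt : Commute (T.cv (ptv 0 j)) T.S.t := by
    have := T.act_t.eq (ptv 0 j)
    rw [show app tM (ptv 0 j) = ptv 0 j from (show ∀ j, app tM (ptv 0 j) = ptv 0 j by decide +kernel) j] at this
    exact (mul_inv_eq_iff_eq_mul.1 this).symm
  have hi : v.2.1 = 0 := T.cv_fixed (hv ▸ (hqt.mul_left hpt).mul_left hqt.inv_left)
  have hip := T.isPtv_of_conj (T.pt_ptv 0 j) (g := q) hv.symm
  refine ⟨v, ?_, hv⟩
  have := (show ∀ v : V4, IsPtv v → v.2.2.2 = 1 → v.2.1 = 0 → ∃ k : ZMod 3, v = ptv 0 k by decide +kernel) v hip h4 hi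
  obtain ⟨k, rfl⟩ := this
  exact ptsA_facts.2.2.1 k

theorem H4_conj_Rt {g : G} (hg : g ∈ T.H4) {r : G} (hr : r ∈ T.Rt) : g * r * g⁻¹ ∈ T.Rt := by
  have : T.Rt ≤ T.Rt.comap (MulAut.conj g).toMonoidHom := iSup_le fun h => by
    rintro _ ⟨l, hl, rfl⟩
    rw [mem_comap]
    refine mem_iSup_of_mem (⟨g, hg⟩ * h) ⟨l, hl, ?_⟩
    simp [mul_assoc]
  exact this hr

theorem H4_norm_Rt : T.H4 ≤ normalizer (T.Rt : Set G) := fun _ hg =>
  mem_normalizer_set fun _ hr => T.H4_conj_Rt hg hr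

theorem L_le_Rt : T.S.L ≤ T.Rt := fun l hl => mem_iSup_of_mem (1 : T.H4) ⟨l, hl, by simp⟩

/-- The conjugate of the quaternion group depends only on the image of the point. -/
theorem L_conj_eq {g g' : G} (hg : g ∈ T.H4) (hg' : g' ∈ T.H4)
    (e : g * T.cv (1, 0, 0, 0) * g⁻¹ = g' * T.cv (1, 0, 0, 0) * g'⁻¹) :
    T.S.L.map (MulAut.conj g).toMonoidHom = T.S.L.map (MulAut.conj g').toMonoidHom := by
  suffices ∀ g g' : G, g ∈ T.H4 → g' ∈ T.H4 →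
      g * T.cv (1, 0, 0, 0) * g⁻¹ = g' * T.cv (1, 0, 0, 0) * g'⁻¹ →
      T.S.L.map (MulAut.conj g).toMonoidHom ≤ T.S.L.map (MulAut.conj g').toMonoidHom from
    le_antisymm (this g g' hg hg' e) (this g' g hg' hg e.symm)
  intro g g' hg hg' e
  have hm : g'⁻¹ * g ∈ T.H4 := T.H4.mul_mem (T.H4.inv_mem hg') hg
  have h1 : Commute (g'⁻¹ * g) (zp D.z T.ε) := by
    rw [← T.cv_z]
    refine mul_inv_eq_iff_eq_mul.1 ?_
    rw [show g'⁻¹ * g * T.cv (1, 0, 0, 0) * (g'⁻¹ * g)⁻¹ = g'⁻¹ * (g * T.cv (1, 0, 0, 0) * g⁻¹) * g' by group, e]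
    group
  have hz : Commute (g'⁻¹ * g) D.z := by
    have := h1.pow_right (T.ε⁻¹).val
    rwa [show zp D.z T.ε ^ (T.ε⁻¹).val = zp (zp D.z T.ε) T.ε⁻¹ from rfl, zp_zp D.z_cube, mul_inv_cancel₀ T.ε_ne,
      zp_one] at this
  rintro _ ⟨l, hl, rfl⟩
  refine ⟨_, T.S.conj_L hz (T.mem_H4.1 hm).1 hl, ?_⟩
  simp [mul_assoc]

variable {T}

theorem gensT_H4 (h3 : T.IsThree) (m : Cols) (hm : m ∈ gensT) : ∃ g ∈ T.H4, T.Act g m := by
  obtain ⟨g, hg, ha⟩ := gensT_act h3 m hm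
  exact ⟨g, T.H4_of_act (mem_centralizer_singleton_iff.1 hg) ha (ptsA_closed m hm), ha⟩

theorem exists_pt_map (h3 : T.IsThree) {w : V4} (hw : w ∈ ptsA) :
    ∃ g ∈ T.H4, g * T.cv (1, 0, 0, 0) * g⁻¹ = T.cv w := by
  obtain ⟨g, hg, -, e⟩ := exists_of_orb (gensT_H4 h3) (1, 0, 0, 0) 2 w (ptsA_facts.1 w hw)
  exact ⟨g, hg, e⟩

theorem pt_of_H4 (T : Setting D) {g : G} (hg : g ∈ T.H4) :
    ∃ w ∈ ptsA, g * T.cv (1, 0, 0, 0) * g⁻¹ = T.cv w := by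
  obtain ⟨w, hw, e⟩ := (mem_set_normalizer_iff.1 (T.mem_H4.1 hg).2.2 _).1
    ⟨(1, 0, 0, 0), by simp [ptsA], rfl⟩
  exact ⟨w, hw, e.symm⟩

theorem block_L (T : Setting D) : IsBlock T.S.t T.S.L := by
  have hm : ∀ l (hl : l ∈ T.S.L), T.B.matHom ⟨l, T.S.L_HN hl⟩ ^ 4 = 1 := fun l hl => by
    rw [← map_pow, show (⟨l, T.S.L_HN hl⟩ : T.S.HN) ^ 4 = 1 from Subtype.ext (T.S.L_four hl), map_one]
  have h1 : T.B.matHom ⟨1, T.S.L_HN T.S.L.one_mem⟩ = 1 := map_one T.B.matHom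
  have cases : ∀ l (hl : l ∈ T.S.L), (T.B.matHom ⟨l, T.S.L_HN hl⟩ = 1 ∨ T.B.matHom ⟨l, T.S.L_HN hl⟩ = -1) →
      l = 1 ∨ l = T.S.t := fun l hl h => h.imp
    (fun e => T.S.L_inj T.B hl T.S.L.one_mem (e.trans h1.symm))
    (fun e => T.S.L_inj T.B hl T.S.t_mem_L (e.trans (T.B.matHom_t T.ta).symm))
  refine ⟨T.S.t_mem_L, fun l hl => (T.S.L_t hl).symm, fun l hl => cases _ (T.S.L.mul_mem hl hl) (sl_quat.1 _ ?_),
    fun l hl hc => cases l hl (sl_quat.2.2.2.2.1 _ fun m hm' => ?_)⟩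
  · rw [show (⟨l * l, _⟩ : T.S.HN) = ⟨l, T.S.L_HN hl⟩ * ⟨l, T.S.L_HN hl⟩ from rfl, map_mul, ← pow_two,
      ← pow_mul]
    exact hm l hl
  · obtain ⟨k, hk, e⟩ := T.B.exists_L hm'
    rw [← e]
    have hc' : Commute (⟨l, T.S.L_HN hl⟩ : T.S.HN) ⟨k, T.S.L_HN hk⟩ := Subtype.ext (hc k hk).eq
    exact hc'.map T.B.matHom

end Setting

end Cfsg.Lib.U6Three
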