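import Cfsg.Agent.Lib.U6Three.Cross

/-!
# The product of the four quaternion groups
-/

set_option autoImplicit false
set_option linter.unusedSectionVars false
set_option linter.style.haveILetI false

namespace Cfsg.Lib.U6Three

open Subgroup

theorem IsBlock.map {G : Type*} [Group G] {t : G} {A : Subgroup G} (hA : IsBlock t A) {g : G} (hg : Commute g t) :
    IsBlock t (A.map (MulAut.conj g).toMonoidHom) := by
  have ht : ∀ a, g * a * g⁻¹ = t → a = t := fun a e =>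
    mul_left_cancel (mul_right_cancel (e.trans (by rw [hg.eq, mul_inv_cancel_right] : t = g * t * g⁻¹)))
  refine ⟨⟨t, hA.mem, by show g * t * g⁻¹ = t; rw [hg.eq, mul_inv_cancel_right]⟩, ?_, ?_, ?_⟩
  · rintro _ ⟨a, ha, rfl⟩
    have := (hA.comm a ha).map (MulAut.conj g).toMonoidHom
    rwa [show (MulAut.conj g).toMonoidHom t = t by show g * t * g⁻¹ = t; rw [hg.eq, mul_inv_cancel_right]] at this
  · rintro _ ⟨a, ha, rfl⟩
    rw [← map_mul]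
    rcases hA.sq a ha with e | e <;> rw [e]
    · exact Or.inl (map_one _)
    · exact Or.inr (by show g * t * g⁻¹ = t; rw [hg.eq, mul_inv_cancel_right])
  · rintro _ ⟨a, ha, rfl⟩ hc
    rcases hA.cen a ha (fun b hb => by
      have h := hc _ ⟨b, hb, rfl⟩
      have h2 : Commute (g * a * g⁻¹) (g * b * g⁻¹) := h
      have h3 := h2.map (MulAut.conj g⁻¹).toMonoidHom
      simpa [mul_assoc] using h3) with rfl | rfl
    · exact Or.inl (map_one _)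
    · exact Or.inr (by show g * a * g⁻¹ = a; rw [hg.eq, mul_inv_cancel_right])

namespace Setting

variable {G : Type*} [Group G] [Finite G] {D : Data G} {T : Setting D}

/-- The conjugate of the quaternion group by an element. -/
abbrev Lc (T : Setting D) (g : G) : Subgroup G := T.S.L.map (MulAut.conj g).toMonoidHom

theorem Lc_le (T : Setting D) {g : G} (hg : g ∈ T.H4) : T.Lc g ≤ T.Rt := fun y hy =>
  mem_iSup_of_mem (⟨g, hg⟩ : T.H4) hy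

theorem Lc_commute (h3 : T.IsThree) (hN : T.NCond) {g g' : G} (hg : g ∈ T.H4) (hg' : g' ∈ T.H4)
    (hne : g * T.cv (1, 0, 0, 0) * g⁻¹ ≠ g' * T.cv (1, 0, 0, 0) * g'⁻¹) :
    ∀ a ∈ T.Lc g, ∀ b ∈ T.Lc g', Commute a b := by
  obtain ⟨k, hk, hkt⟩ := exists_k h3
  have hkH := T.H4_of_act hkt hk (ptsA_closed kM (by simp [gensT]))
  have hh : g⁻¹ * g' ∈ T.H4 := T.H4.mul_mem (T.H4.inv_mem hg) hg'
  obtain ⟨w, hw, e⟩ := T.pt_of_H4 hh
  have hw0 : w ≠ (1, 0, 0, 0) := fun h => hne (by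
    rw [show g * T.cv (1, 0, 0, 0) * g⁻¹ = g * (g⁻¹ * g' * T.cv (1, 0, 0, 0) * (g⁻¹ * g')⁻¹) * g⁻¹ by rw [e, h]]
    group)
  obtain ⟨j, rfl⟩ := ptsA_facts.2.1 w hw hw0
  obtain ⟨q, hq, hqa⟩ := exists_u_Q2 h3 j
  have hqH := T.Q2_le_H4 hq
  have e2 : q * k * T.cv (1, 0, 0, 0) * (q * k)⁻¹ = T.cv (ptv 0 j) := by
    rw [(T.act_cmp hqa hk).eq, ← ptsA_facts.2.2.2 j]
    congr 1
    simp [app, cmp]
  have he := T.L_conj_eq hh (T.H4.mul_mem hqH hkH) (e.trans e2.symm)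
  rintro _ ⟨l, hl, rfl⟩ _ ⟨l', hl', rfl⟩
  obtain ⟨m, hm, em⟩ : (MulAut.conj (g⁻¹ * g')).toMonoidHom l' ∈ T.Lc (q * k) := he.le ⟨l', hl', rfl⟩
  change q * k * m * (q * k)⁻¹ = g⁻¹ * g' * l' * (g⁻¹ * g')⁻¹ at em
  obtain ⟨hqQ, hqt⟩ := D.mem_fixC.1 hq
  have hl2 : q⁻¹ * l * q ∈ T.S.L := by
    have := T.S.conj_L (D.comm_z q hqQ).inv_left hqt.inv_left hl
    rwa [inv_inv] at this
  have h := ((commute_L_k h3 hN hk hkt hl2 hm).map (MulAut.conj q).toMonoidHom).map (MulAut.conj g).toMonoidHom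
  have e1 : g * (q * (q⁻¹ * l * q) * q⁻¹) * g⁻¹ = g * l * g⁻¹ := by group
  have e3 : g * (q * (k * m * k⁻¹) * q⁻¹) * g⁻¹ = g' * l' * g'⁻¹ := by
    rw [show q * (k * m * k⁻¹) * q⁻¹ = q * k * m * (q * k)⁻¹ by group, em]; group
  simp only [MulEquiv.toMonoidHom_eq_coe, MonoidHom.coe_coe, MulAut.conj_apply] at h
  show Commute (g * l * g⁻¹) (g' * l' * g'⁻¹)
  rwa [e1, e3] at h

/-- The group is extraspecial of order `2⁹`. -/
theorem Rt_block (h3 : T.IsThree) (hN : T.NCond) : IsBlock T.S.t T.Rt ∧ Nat.card T.Rt = 2 ^ 9 := by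
  have ht1 : T.S.t ≠ 1 := fun e => by
    have hc := T.ta
    rw [e, one_mul, inv_one, mul_one] at hc
    exact T.B.a1_not_Zc (D.mem_of_sq_mem T.B.ha1.1 (by nth_rewrite 2 [hc]; rw [mul_inv_cancel]; exact D.Zc.one_mem))
  obtain ⟨f, hf, hfe⟩ : ∃ f : {w // w ∈ ptsA} → G, (∀ w, f w ∈ T.H4) ∧
      ∀ w, f w * T.cv (1, 0, 0, 0) * (f w)⁻¹ = T.cv w.1 := by
    choose f h1 h2 using fun w : {w // w ∈ ptsA} => exists_pt_map h3 w.2
    exact ⟨f, h1, h2⟩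
  obtain ⟨w0, hw0⟩ : ∃ w : {w // w ∈ ptsA}, w.1 = (1, 0, 0, 0) := ⟨⟨_, by simp [ptsA]⟩, rfl⟩
  obtain ⟨w1, hw1⟩ : ∃ w : {w // w ∈ ptsA}, w.1 = (0, 0, 0, 1) := ⟨⟨_, by simp [ptsA]⟩, rfl⟩
  obtain ⟨w2, hw2⟩ : ∃ w : {w // w ∈ ptsA}, w.1 = (1, 0, 1, 1) := ⟨⟨_, by simp [ptsA]⟩, rfl⟩
  obtain ⟨w3, hw3⟩ : ∃ w : {w // w ∈ ptsA}, w.1 = (1, 0, 2, 1) := ⟨⟨_, by simp [ptsA]⟩, rfl⟩
  have hall : ∀ w : {w // w ∈ ptsA}, w = w0 ∨ w = w1 ∨ w = w2 ∨ w = w3 := fun w => by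
    have := w.2
    simp only [ptsA, List.mem_cons, List.not_mem_nil, or_false] at this
    rcases this with h | h | h | h
    exacts [Or.inl (Subtype.ext (h.trans hw0.symm)), Or.inr (Or.inl (Subtype.ext (h.trans hw1.symm))),
      Or.inr (Or.inr (Or.inl (Subtype.ext (h.trans hw2.symm)))), Or.inr (Or.inr (Or.inr (Subtype.ext (h.trans hw3.symm))))]
  have hcomm : ∀ v w : {w // w ∈ ptsA}, v.1 ≠ w.1 → ∀ a ∈ T.Lc (f v), ∀ b ∈ T.Lc (f w), Commute a b :=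
    fun v w h => Lc_commute h3 hN (hf v) (hf w) (by rw [hfe, hfe]; exact fun e => h (T.cv_inj e))
  have hblk : ∀ w, IsBlock T.S.t (T.Lc (f w)) := fun w => T.block_L.map (T.mem_H4.1 (hf w)).1
  have hcard : ∀ w, Nat.card (T.Lc (f w)) = 8 := fun w => by
    rw [card_map_of_injective (MulAut.conj (f w)).injective, T.S.card_L]
  have hR : T.Rt = T.Lc (f w0) ⊔ T.Lc (f w1) ⊔ T.Lc (f w2) ⊔ T.Lc (f w3) := by
    refine le_antisymm (iSup_le fun g => ?_) (sup_le (sup_le (sup_le (T.Lc_le (hf _)) (T.Lc_le (hf _)))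
      (T.Lc_le (hf _))) (T.Lc_le (hf _)))
    obtain ⟨w, hw, e⟩ := T.pt_of_H4 g.2
    rw [T.L_conj_eq g.2 (hf ⟨w, hw⟩) (by rw [hfe]; exact e)]
    rcases hall ⟨w, hw⟩ with h | h | h | h <;> rw [h]
    · exact le_sup_of_le_left (le_sup_of_le_left le_sup_left)
    · exact le_sup_of_le_left (le_sup_of_le_left le_sup_right)
    · exact le_sup_of_le_left le_sup_right
    · exact le_sup_right
  have hne : ∀ v w : {w // w ∈ ptsA}, ∀ a b : V4, v.1 = a → w.1 = b → a ≠ b → v.1 ≠ w.1 :=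
    fun v w a b h h' h'' e => h'' (h.symm.trans (e.trans h'))
  obtain ⟨b01, c01⟩ := (hblk w0).sup T.S.t_sq ht1 (hblk w1) (hcomm w0 w1 (hne _ _ _ _ hw0 hw1 (by decide)))
  have h012 : ∀ a ∈ T.Lc (f w0) ⊔ T.Lc (f w1), ∀ b ∈ T.Lc (f w2), Commute a b := fun a ha b hb => by
    have : T.Lc (f w0) ⊔ T.Lc (f w1) ≤ centralizer ({b} : Set G) := sup_le
      (fun c hc => mem_centralizer_singleton_iff.2 (hcomm w0 w2 (hne _ _ _ _ hw0 hw2 (by decide)) c hc b hb))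
      (fun c hc => mem_centralizer_singleton_iff.2 (hcomm w1 w2 (hne _ _ _ _ hw1 hw2 (by decide)) c hc b hb))
    exact mem_centralizer_singleton_iff.1 (this ha)
  obtain ⟨b012, c012⟩ := b01.sup T.S.t_sq ht1 (hblk w2) h012
  have h0123 : ∀ a ∈ T.Lc (f w0) ⊔ T.Lc (f w1) ⊔ T.Lc (f w2), ∀ b ∈ T.Lc (f w3), Commute a b := fun a ha b hb => by
    have : T.Lc (f w0) ⊔ T.Lc (f w1) ⊔ T.Lc (f w2) ≤ centralizer ({b} : Set G) := sup_le (sup_le
      (fun c hc => mem_centralizer_singleton_iff.2 (hcomm w0 w3 (hne _ _ _ _ hw0 hw3 (by decide)) c hc b hb))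
      (fun c hc => mem_centralizer_singleton_iff.2 (hcomm w1 w3 (hne _ _ _ _ hw1 hw3 (by decide)) c hc b hb)))
      (fun c hc => mem_centralizer_singleton_iff.2 (hcomm w2 w3 (hne _ _ _ _ hw2 hw3 (by decide)) c hc b hb))
    exact mem_centralizer_singleton_iff.1 (this ha)
  obtain ⟨b0123, c0123⟩ := b012.sup T.S.t_sq ht1 (hblk w3) h0123
  rw [hR]
  refine ⟨b0123, ?_⟩
  rw [hcard, hcard] at c01
  rw [hcard] at c012 c0123
  omega

end Setting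

end Cfsg.Lib.U6Three
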