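import Cfsg.Agent.Lib.U6Three.Surface

/-!
# There are exactly ten points
-/

set_option autoImplicit false
set_option linter.unusedSectionVars false
set_option linter.style.haveILetI false
set_option maxHeartbeats 800000

namespace Cfsg.Lib.U6Three

open Subgroup
open scoped commutatorElement

theorem class_cases : ∀ c1 c2 u v : ZMod 3, c1 ≠ 0 → c2 ≠ 0 → u ≠ 0 → v ≠ 0 →
    (u = c1 ∧ v = c2) ∨ (u = -c1 ∧ v = -c2) ∨ (u = c1 ∧ v = -c2) ∨ (u = -c1 ∧ v = c2) := by decide

theorem class_distinct : ∀ c1 c2 : ZMod 3, c1 ≠ 0 → c2 ≠ 0 → ([1, Multiplicative.ofAdd (c1, c2),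
    Multiplicative.ofAdd (-c1, -c2), Multiplicative.ofAdd (c1, -c2), Multiplicative.ofAdd (-c1, c2)] :
      List (Multiplicative (ZMod 3 × ZMod 3))).Nodup := by decide

theorem count_values : ∀ a ∈ ([9, 18] : List ℕ), ∀ b ∈ ([0, 9, 18] : List ℕ),
    (a = 9 ∧ b = 0) ∨ 7 ∣ 2 + 2 * a + 2 * b ∨ 19 ∣ 2 + 2 * a + 2 * b ∨ 37 ∣ 2 + 2 * a + 2 * b := by decide

namespace Basis

variable {G : Type*} [Group G] [Finite G] {D : Data G} {S : Split D} (B : Basis S)

theorem kappa_inv_mk {g : G} (hg : g ∈ B.Stab) (hg' : g⁻¹ ∈ B.Stab) :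
    B.kappa ⟨g⁻¹, hg'⟩ = (B.kappa ⟨g, hg⟩)⁻¹ := by
  rw [← map_inv]; exact congrArg _ (Subtype.ext rfl)

theorem kappa_mul_mk {g k : G} (hg : g ∈ B.Stab) (hk : k ∈ B.Stab) (hgk : g * k ∈ B.Stab) :
    B.kappa ⟨g * k, hgk⟩ = B.kappa ⟨g, hg⟩ * B.kappa ⟨k, hk⟩ := by
  rw [← map_mul]; exact congrArg _ (Subtype.ext rfl)

theorem kappa_congr {g k : G} (hg : g ∈ B.Stab) (hk : k ∈ B.Stab) (e : g = k) :
    B.kappa ⟨g, hg⟩ = B.kappa ⟨k, hk⟩ := by
  subst e; rfl

end Basis

attribute [local irreducible] Basis.kappa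

namespace Pair

variable {G : Type*} [Group G] [Finite G] {D D' : Data G} (h : Pair D D') {S : Split D} (B : Basis S)
  (hx : D'.z ∈ B.Stab)

include h hx

/-- The points of the centraliser. -/
abbrev Pts : Type _ := {y : G // y ∈ centralizer (h.J B hx : Set G) ∧ Pt D.z y}

theorem pts_inv (y : h.Pts B hx) : y.1⁻¹ ∈ centralizer (h.J B hx : Set G) ∧ Pt D.z y.1⁻¹ :=
  ⟨inv_mem y.2.1, y.2.2.inv⟩

/-- Each point carries a 3-group fixing only it and its inverse. -/
theorem exists_fixer (p : h.Pts B hx) : ∃ T : Subgroup G, IsPGroup 3 T ∧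
    T ≤ normalizer (centralizer (h.J B hx : Set G) : Set G) ∧ (∀ t ∈ T, Commute t p.1) ∧
    ∀ y : h.Pts B hx, (∀ t ∈ T, Commute t y.1) → y.1 = p.1 ∨ y.1 = p.1⁻¹ := by
  have hne : ∀ y : h.Pts B hx, y.1 ≠ 1 := fun y e => by
    obtain ⟨g, hg | hg⟩ := y.2.2 <;> rw [e] at hg
    · exact D.z_ne (conj_eq_one_iff.1 hg)
    · exact D.z_ne (conj_eq_one_iff.1 (by rw [hg, inv_one]))
  have hPz : ∀ {u : G}, u ∈ centralizer (h.J B hx : Set G) → Commute u D.z := fun hu => (h.P_le_Stab B hx hu).1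
  by_cases hp : p.1 ∈ D.Q
  · refine ⟨D.Q, D.Q_pgroup, (h.Q_le_norm B hx).trans h.norm_le_norm_P, fun t ht =>
      D.comm_Q_Zc ht (D.pt_mem_Q p.2.2 hp), fun y hy => ?_⟩
    have hyZ := D.cent_Q y.1 (hPz y.2.1) fun q hq => (hy q hq).symm
    rcases D.cases_Zc hyZ with e | e | e
    · exact absurd e (hne y)
    all_goals rcases D.cases_Zc (D.pt_mem_Q p.2.2 hp) with e' | e' | e'
    all_goals first
      | exact absurd e' (hne p)
      | exact Or.inl (e.trans e'.symm)
      | exact Or.inr (by rw [e, e', inv_inv])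
      | exact Or.inr (by rw [e, e'])
  · obtain ⟨D'', hD'', h'⟩ := D.pair_of_pt p.2.2 (hPz p.2.1) hp
    refine ⟨D''.Q, D''.Q_pgroup, h.Qy_le_norm B hx h' (by rw [hD'']; exact p.2.1), fun t ht =>
      hD'' ▸ D''.comm_z t ht, fun y hy => ?_⟩
    have hyZ := D''.cent_Q y.1 (by rw [hD'']; exact h.P_commutative B hx y.2.1 p.2.1) fun q hq => (hy q hq).symm
    rcases D''.cases_Zc hyZ with e | e | e
    · exact absurd e (hne y)
    · exact Or.inl (e.trans hD'')
    · exact Or.inr (by rw [e, hD''])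

/-- The number of points is prime to 7, 19 and 37. -/
theorem not_dvd_pts {r : ℕ} (hr : r ∈ ([7, 19, 37] : List ℕ)) : ¬ r ∣ Nat.card (h.Pts B hx) := by
  classical
  haveI : Fact (Nat.Prime 3) := ⟨Nat.prime_three⟩
  have hrp : r.Prime := by
    simp only [List.mem_cons, List.not_mem_nil, or_false] at hr
    rcases hr with rfl | rfl | rfl <;> norm_num
  have hr2 : r ≠ 2 := by
    simp only [List.mem_cons, List.not_mem_nil, or_false] at hr
    omega
  haveI : Fact r.Prime := ⟨hrp⟩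
  set P := centralizer (h.J B hx : Set G) with hPdef
  set N := normalizer (P : Set G) with hNdef
  have hNP : ∀ n : N, ∀ u ∈ P, (n : G) * u * (n : G)⁻¹ ∈ P := fun n u hu => (mem_normalizer_iff.1 n.2 u).1 hu
  letI : MulAction N (h.Pts B hx) :=
    { smul := fun n y => ⟨(n : G) * y.1 * (n : G)⁻¹, hNP n _ y.2.1, y.2.2.conj n⟩
      one_smul := fun y => Subtype.ext (by show ((1 : N) : G) * y.1 * ((1 : N) : G)⁻¹ = y.1; simp)
      mul_smul := fun n m y => Subtype.ext (by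
        show ((n * m : N) : G) * y.1 * ((n * m : N) : G)⁻¹ = (n : G) * ((m : G) * y.1 * (m : G)⁻¹) * (n : G)⁻¹
        push_cast; group) }
  have hsm : ∀ (n : N) (y : h.Pts B hx), (n • y).1 = (n : G) * y.1 * (n : G)⁻¹ := fun _ _ => rfl
  set p0 : h.Pts B hx := ⟨D.z, h.J_le_P B hx (h.z_mem_J B hx), Pt.self _⟩ with hp0
  set O := MulAction.orbit N p0
  -- each point or its inverse lies in the orbit
  have hmod : ∀ p : h.Pts B hx, (∀ y ∈ O, y.1 ≠ p.1 ∧ y.1 ≠ p.1⁻¹) → 3 ∣ Nat.card O := by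
    intro p hp
    obtain ⟨T, hT, hTN, -, hfix⟩ := h.exists_fixer B hx p
    let T' := T.subgroupOf N
    have hT' : IsPGroup 3 T' := hT.of_equiv (Subgroup.subgroupOfEquivOfLe hTN).symm
    have := hT'.card_modEq_card_fixedPoints O
    rw [show Nat.card (MulAction.fixedPoints T' O) = 0 by
      rw [Nat.card_eq_zero]; left
      refine ⟨fun ⟨y, hy⟩ => ?_⟩
      rcases hfix y.1 (fun t ht => by
        have e := congrArg (fun w : O => w.1.1) (hy ⟨⟨t, hTN ht⟩, mem_subgroupOf.2 ht⟩)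
        exact mul_inv_eq_iff_eq_mul.1 e) with e | e
      exacts [(hp y.1 y.2).1 e, (hp y.1 y.2).2 e]] at this
    exact Nat.modEq_zero_iff_dvd.1 this
  have hnot3 : ¬ 3 ∣ Nat.card O := by
    obtain ⟨T, hT, hTN, hTp, hfix⟩ := h.exists_fixer B hx p0
    let T' := T.subgroupOf N
    have hT' : IsPGroup 3 T' := hT.of_equiv (Subgroup.subgroupOfEquivOfLe hTN).symm
    have := hT'.card_modEq_card_fixedPoints O
    intro hd
    have h1 : Nat.card (MulAction.fixedPoints T' O) ≤ 2 := by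
      let f : MulAction.fixedPoints T' O → Bool := fun y => decide (y.1.1.1 = D.z)
      refine le_trans (Nat.card_le_card_of_injective f fun a b e => ?_) (by simp)
      have hcase : ∀ y : MulAction.fixedPoints T' O, y.1.1.1 = D.z ∨ y.1.1.1 = D.z⁻¹ := fun y => hfix y.1.1 fun t ht => by
        have e := congrArg (fun w : O => w.1.1) (y.2 ⟨⟨t, hTN ht⟩, mem_subgroupOf.2 ht⟩)
        exact mul_inv_eq_iff_eq_mul.1 e
      refine Subtype.ext (Subtype.ext (Subtype.ext ?_))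
      rcases hcase a with ha | ha <;> rcases hcase b with hb | hb
      · rw [ha, hb]
      · by_contra hne
        simp only [f, ha, decide_true] at e
        exact hne (by rw [ha, of_decide_eq_true e.symm])
      · by_contra hne
        simp only [f, hb, decide_true] at e
        exact hne (by rw [hb, of_decide_eq_true e])
      · rw [ha, hb]
    have h0 : 0 < Nat.card (MulAction.fixedPoints T' O) := by
      refine Nat.card_pos_iff.2 ⟨⟨⟨⟨p0, MulAction.mem_orbit_self p0⟩, fun t => ?_⟩⟩, inferInstance⟩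
      refine Subtype.ext (Subtype.ext ?_)
      show ((t : N) : G) * D.z * ((t : N) : G)⁻¹ = D.z
      exact mul_inv_eq_iff_eq_mul.2 (hTp _ (mem_subgroupOf.1 t.2))
    have h3 := Nat.modEq_zero_iff_dvd.1 (this.symm.trans (Nat.modEq_zero_iff_dvd.2 hd))
    have := Nat.le_of_dvd h0 h3
    omega
  have hcover : ∀ p : h.Pts B hx, p ∈ O ∨ ∃ y ∈ O, y.1 = p.1⁻¹ := by
    intro p
    by_contra hc
    push Not at hc
    exact hnot3 (hmod p fun y hy => ⟨fun e => hc.1 (Subtype.ext e ▸ hy), hc.2 y hy⟩)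
  have hsize : Nat.card (h.Pts B hx) = Nat.card O ∨ Nat.card (h.Pts B hx) = 2 * Nat.card O := by
    let inv' : h.Pts B hx → h.Pts B hx := fun y => ⟨y.1⁻¹, h.pts_inv B hx y⟩
    by_cases hz : (inv' p0) ∈ O
    · left
      have : ∀ p, p ∈ O := fun p => by
        rcases hcover p with hp | ⟨y, hy, e⟩
        · exact hp
        · obtain ⟨n, hn⟩ := MulAction.mem_orbit_iff.1 hy
          have hp : p = n • inv' p0 := Subtype.ext (by
            rw [hsm]
            show p.1 = (n : G) * (D.z)⁻¹ * (n : G)⁻¹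
            rw [← conj_inv, show (n : G) * D.z * (n : G)⁻¹ = y.1 from congrArg Subtype.val hn, e, inv_inv])
          rw [hp]
          exact MulAction.mem_orbit_of_mem_orbit n hz
      exact (Nat.card_congr (Equiv.subtypeUnivEquiv this)).symm
    · right
      rw [two_mul, ← Nat.card_sum]
      refine (Nat.card_congr (Equiv.ofBijective (fun s : O ⊕ O => s.elim (fun y => y.1) (fun y => inv' y.1)) ⟨?_, ?_⟩)).symm
      · have hdis : ∀ a b : O, a.1 ≠ inv' b.1 := fun a b e => hz (by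
          obtain ⟨n, hn⟩ := MulAction.mem_orbit_iff.1 b.2
          have : inv' p0 = n⁻¹ • a.1 := Subtype.ext (by
            rw [hsm, e]
            show D.z⁻¹ = ((n⁻¹ : N) : G) * (b.1.1)⁻¹ * ((n⁻¹ : N) : G)⁻¹
            rw [← congrArg Subtype.val hn, hsm]
            push_cast; group; rfl)
          rw [this]; exact MulAction.mem_orbit_of_mem_orbit _ a.2)
        rintro (a | a) (b | b) e
        · exact congrArg Sum.inl (Subtype.ext e)
        · exact absurd e (hdis a b)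
        · exact absurd e.symm (hdis b a)
        · exact congrArg Sum.inr (Subtype.ext (Subtype.ext (inv_inj.1 (congrArg Subtype.val e))))
      · intro p
        rcases hcover p with hp | ⟨y, hy, e⟩
        · exact ⟨Sum.inl ⟨p, hp⟩, rfl⟩
        · exact ⟨Sum.inr ⟨y, hy⟩, Subtype.ext (by show y.1⁻¹ = p.1; rw [e, inv_inv])⟩
  -- elements of order a power of r fix the orbit
  have hr_orbit : ¬ r ∣ Nat.card O := by
    intro hd
    set K := MulAction.stabilizer N p0
    have hidx : K.index = Nat.card O := (MulAction.index_stabilizer N p0).trans (Set.ncard_def _ ▸ rfl)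
    obtain ⟨R⟩ : Nonempty (Sylow r N) := inferInstance
    have hR : (R : Subgroup N) ≤ K := by
      intro g hg
      have hgr : IsPGroup r (zpowers g) := R.2.to_le (zpowers_le.2 hg)
      letI : MulAction (zpowers g) P :=
        { smul := fun n u => ⟨((n : N) : G) * u.1 * ((n : N) : G)⁻¹, hNP n _ u.2⟩
          one_smul := fun u => Subtype.ext (by simp [HSMul.hSMul])
          mul_smul := fun n m u => Subtype.ext (by
            show ((n * m : zpowers g) : N).1 * u.1 * ((n * m : zpowers g) : N).1⁻¹ =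
              ((n : N) : G) * (((m : N) : G) * u.1 * ((m : N) : G)⁻¹) * ((n : N) : G)⁻¹
            push_cast; group) }
      have hmodP := hgr.card_modEq_card_fixedPoints P
      let C := P ⊓ centralizer ({(g : G)} : Set G)
      obtain ⟨d, hd6, hd⟩ := h.card_P_le B hx
      have hC : Nat.card (MulAction.fixedPoints (zpowers g) P) = Nat.card C := Nat.card_congr
        { toFun := fun u => ⟨u.1.1, u.1.2, mem_centralizer_singleton_iff.2 (by
            have e := congrArg Subtype.val (u.2 ⟨g, mem_zpowers g⟩)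
            exact (mul_inv_eq_iff_eq_mul.1 e).symm)⟩
          invFun := fun u => ⟨⟨u.1, u.2.1⟩, fun n => Subtype.ext (by
            obtain ⟨m, hm⟩ := mem_zpowers_iff.1 n.2
            show ((n : N) : G) * u.1 * ((n : N) : G)⁻¹ = u.1
            have hcg : Commute u.1 (g : G) := mem_centralizer_singleton_iff.1 u.2.2
            rw [show ((n : N) : G) = (g : G) ^ m by rw [← hm]; push_cast; rfl,
              (hcg.zpow_right m).symm.eq,
              mul_inv_cancel_right])⟩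
          left_inv := fun u => rfl
          right_inv := fun u => rfl }
      obtain ⟨c, hc⟩ := ((h.P_pgroup B hx).to_le (inf_le_left : C ≤ P)).exists_card_eq
      have hcd : c ≤ d := by
        have := Nat.le_of_dvd (by rw [hd]; positivity) (Subgroup.card_dvd_of_le (inf_le_left : C ≤ P))
        rw [hc, hd] at this
        exact (Nat.pow_le_pow_iff_right (by norm_num)).1 this
      rw [hC, hd, hc] at hmodP
      have hcd' := prime_gap r hr c (by omega) d hd6 hmodP
      have hCP : C = P := Subgroup.eq_of_le_of_card_ge inf_le_left (by rw [hd, hc, hcd'])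
      refine MulAction.mem_stabilizer_iff.2 (Subtype.ext ?_)
      rw [hsm]
      have := (hCP.ge (show D.z ∈ P from p0.2.1)).2
      show (g : G) * D.z * (g : G)⁻¹ = D.z
      exact mul_inv_eq_iff_eq_mul.2 (mem_centralizer_singleton_iff.1 this).symm
    exact R.not_dvd_index ((hidx ▸ hd).trans (Subgroup.index_dvd_of_le hR))
  rcases hsize with e | e <;> rw [e]
  · exact hr_orbit
  · intro hd
    rcases (hrp.dvd_mul.1 hd) with h2 | h2
    · exact hr2 ((Nat.prime_dvd_prime_iff_eq hrp Nat.prime_two).1 h2)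
    · exact hr_orbit h2

/-- The points with a given image. -/
abbrev Fib (c : Multiplicative (ZMod 3 × ZMod 3)) : Type _ :=
  {y : h.Pts B hx // B.kappa ⟨y.1, h.P_le_Stab B hx y.2.1⟩ = c}

theorem fib_inv (c : Multiplicative (ZMod 3 × ZMod 3)) : Nat.card (h.Fib B hx c⁻¹) = Nat.card (h.Fib B hx c) := by
  refine Nat.card_congr
    { toFun := fun y => ⟨⟨y.1.1⁻¹, h.pts_inv B hx y.1⟩, ?_⟩
      invFun := fun y => ⟨⟨y.1.1⁻¹, h.pts_inv B hx y.1⟩, ?_⟩
      left_inv := fun y => Subtype.ext (Subtype.ext (inv_inv _))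
      right_inv := fun y => Subtype.ext (Subtype.ext (inv_inv _)) }
  · rw [B.kappa_inv_mk (h.P_le_Stab B hx y.1.2.1), y.2, inv_inv]
  · rw [B.kappa_inv_mk (h.P_le_Stab B hx y.1.2.1), y.2]

theorem el_add_zp {y : G} (k m i j : ZMod 3) : zp D.z k * (B.el m i j * y) = B.el (k + m) i j * y := by
  rw [Basis.el, Basis.el, zp_add D.z_cube]; group

/-- A class of points has nine or eighteen elements, parametrised by the orbit and the central shifts. -/
theorem card_fib (y : h.Pts B hx) (hy : y.1 ∉ D.Q) :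
    Nat.card (h.Fib B hx (B.kappa ⟨y.1, h.P_le_Stab B hx y.2.1⟩)) ∈ ([9, 18] : List ℕ) ∧
      (Nat.card (h.Fib B hx (B.kappa ⟨y.1, h.P_le_Stab B hx y.2.1⟩)) = 9 →
        ∃ f g : ZMod 3 → ZMod 3, f 0 = 0 ∧ g 0 = 0 ∧ Quad f ∧ Quad g ∧
          (∀ i j, ∃ q ∈ D.Q, q * y.1 * q⁻¹ = B.el (f i + g j) i j * y.1) ∧
          ∀ w : h.Fib B hx (B.kappa ⟨y.1, h.P_le_Stab B hx y.2.1⟩), ∃ i j, w.1.1 = B.el (f i + g j) i j * y.1) := by
  classical
  obtain ⟨D'', hD'', h'⟩ := D.pair_of_pt y.2.2 (h.P_le_Stab B hx y.2.1).1 hy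
  have hyS : D''.z ∈ B.Stab := by rw [hD'']; exact h.P_le_Stab B hx y.2.1
  obtain ⟨f, g, f0, g0, hf, hg, horb⟩ := h'.orbit B hyS
  set K := {k : ZMod 3 // Pt D.z (zp D.z k * y.1)}
  have hK1 : 0 < Nat.card K := Nat.card_pos_iff.2 ⟨⟨⟨0, by rw [zp_zero, one_mul]; exact y.2.2⟩⟩, inferInstance⟩
  have hK2 : Nat.card K ≤ 2 := by
    by_contra hlt
    have hall : ∀ k, Pt D.z (zp D.z k * D''.z) := by
      by_contra hne
      push Not at hne
      obtain ⟨k0, hk0⟩ := hne
      refine hlt ?_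
      have hlt' : Fintype.card K < Fintype.card (ZMod 3) := Fintype.card_subtype_lt (x := k0) (by rwa [← hD''])
      rw [Nat.card_eq_fintype_card]
      rw [ZMod.card] at hlt'
      omega
    exact h'.not_full_of_coset B hyS hall (h'.full B hyS).1 (h'.full B hyS).2
  have key : ∀ k i j, Pt D.z (B.el (k + (f i + g j)) i j * y.1) ↔ Pt D.z (zp D.z k * y.1) := by
    intro k i j
    obtain ⟨q, hq, e⟩ := horb i j
    rw [hD''] at e
    have e' : q * (zp D.z k * y.1) * q⁻¹ = B.el (k + (f i + g j)) i j * y.1 := by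
      rw [show q * (zp D.z k * y.1) * q⁻¹ = (q * zp D.z k * q⁻¹) * (q * y.1 * q⁻¹) by group,
        ((zp_comm (D.comm_z q hq).symm k).symm).eq, mul_inv_cancel_right, e, h.el_add_zp B hx]
    constructor
    · intro hp
      have := hp.conj q⁻¹
      rwa [← e', show q⁻¹ * (q * (zp D.z k * y.1) * q⁻¹) * q⁻¹⁻¹ = zp D.z k * y.1 by group] at this
    · intro hp
      exact e' ▸ hp.conj q
  have helP : ∀ k i j, B.el k i j ∈ centralizer (h.J B hx : Set G) := fun k i j =>
    h.J_le_P B hx (h.el_mem_J B hx k i j)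
  have hkel : ∀ k i j, B.kappa ⟨B.el k i j, h.P_le_Stab B hx (helP k i j)⟩ = 1 := fun k i j =>
    B.kappa_eq_one.2 (B.el_mem k i j)
  let φ : K × ZMod 3 × ZMod 3 → h.Fib B hx (B.kappa ⟨y.1, h.P_le_Stab B hx y.2.1⟩) := fun v =>
    ⟨⟨B.el (v.1.1 + (f v.2.1 + g v.2.2)) v.2.1 v.2.2 * y.1, mul_mem (helP _ _ _) y.2.1, (key _ _ _).2 v.1.2⟩,
      by rw [B.kappa_mul_mk (h.P_le_Stab B hx (helP _ _ _)) (h.P_le_Stab B hx y.2.1), hkel, one_mul]⟩
  have hinj : Function.Injective φ := by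
    rintro ⟨⟨k, hk⟩, i, j⟩ ⟨⟨k', hk'⟩, i', j'⟩ e
    have e1 : B.el (k + (f i + g j)) i j = B.el (k' + (f i' + g j')) i' j' :=
      mul_right_cancel (congrArg (fun w => w.1.1) e)
    have e2 := h.vec_inj B hx (a₁ := Multiplicative.ofAdd (k + (f i + g j), i, j, 0))
      (a₂ := Multiplicative.ofAdd (k' + (f i' + g j'), i', j', 0))
      (by rw [h.vec_apply, h.vec_apply]; simp [e1, zp_zero])
    have e3 := Multiplicative.ofAdd.injective e2
    simp only [Prod.mk.injEq, and_true] at e3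
    obtain ⟨ek, rfl, rfl⟩ := e3
    obtain rfl : k = k' := add_right_cancel ek
    rfl
  have hsurj : Function.Surjective φ := by
    intro w
    have hq : w.1.1 * y.1⁻¹ ∈ D.Q := B.kappa_eq_one.1 (show B.kappa
      (⟨w.1.1, h.P_le_Stab B hx w.1.2.1⟩ * ⟨y.1, h.P_le_Stab B hx y.2.1⟩⁻¹) = 1 by
        rw [map_mul, map_inv, w.2, mul_inv_cancel])
    obtain ⟨k, i, j, e⟩ := h.mem_el B hx hq (by
      rw [commutatorElement_eq_one_iff_commute.2
        ((h.mem_cent_J B hx).1 (mul_mem w.1.2.1 (inv_mem y.2.1))).2.symm]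
      exact D.Zc.one_mem)
    have ew : w.1.1 = B.el k i j * y.1 := by rw [← e, inv_mul_cancel_right]
    refine ⟨(⟨k - (f i + g j), (key _ i j).1 (by rw [sub_add_cancel, ← ew]; exact w.1.2.2)⟩, i, j), ?_⟩
    refine Subtype.ext (Subtype.ext ?_)
    show B.el (k - (f i + g j) + (f i + g j)) i j * y.1 = w.1.1
    rw [sub_add_cancel, ew]
  have hcard := Nat.card_congr (Equiv.ofBijective φ ⟨hinj, hsurj⟩)
  rw [Nat.card_prod, Nat.card_prod, Nat.card_zmod] at hcard
  refine ⟨?_, fun h9 => ⟨f, g, f0, g0, hf, hg, hD'' ▸ horb, fun w => ?_⟩⟩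
  · rw [← hcard]
    rcases (show Nat.card K = 1 ∨ Nat.card K = 2 by omega) with e | e <;> rw [e] <;> simp
  · have hK : Nat.card K = 1 := by omega
    obtain ⟨v, hv⟩ := hsurj w
    haveI : Subsingleton K := (Nat.card_eq_one_iff_unique.1 hK).1
    refine ⟨v.2.1, v.2.2, ?_⟩
    have h0 : v.1 = (⟨0, by rw [zp_zero, one_mul]; exact y.2.2⟩ : K) := Subsingleton.elim _ _
    rw [← hv]
    show B.el (v.1.1 + _) _ _ * y.1 = _
    rw [h0, zero_add]

/-- Every point of the centraliser lies in the centre or in the orbit of the second point. -/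
theorem points : ∃ f g : ZMod 3 → ZMod 3, f 0 = 0 ∧ g 0 = 0 ∧ Quad f ∧ Quad g ∧
    (∀ i j, ∃ q ∈ D.Q, q * D'.z * q⁻¹ = B.el (f i + g j) i j * D'.z) ∧
    ∀ y ∈ centralizer (h.J B hx : Set G), Pt D.z y → y ∈ D.Zc ∨
      ∃ i j, y = B.el (f i + g j) i j * D'.z ∨ y = (B.el (f i + g j) i j * D'.z)⁻¹ := by
  classical
  set p : h.Pts B hx := ⟨D'.z, h.J_le_P B hx (h.x_mem_J B hx), h.pt⟩
  obtain ⟨hd1, hd2⟩ := h.diag B hx
  set c1 := B.k1 ⟨_, hx⟩
  set c2 := B.k2 ⟨_, hx⟩
  have hkp : B.kappa ⟨p.1, h.P_le_Stab B hx p.2.1⟩ = Multiplicative.ofAdd (c1, c2) :=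
    B.kappa_def ⟨_, hx⟩
  set cp : Multiplicative (ZMod 3 × ZMod 3) := Multiplicative.ofAdd (c1, c2)
  set cm : Multiplicative (ZMod 3 × ZMod 3) := Multiplicative.ofAdd (c1, -c2)
  have hcase : ∀ y : h.Pts B hx, B.kappa ⟨y.1, h.P_le_Stab B hx y.2.1⟩ ∈
      ({1, cp, cp⁻¹, cm, cm⁻¹} : Finset (Multiplicative (ZMod 3 × ZMod 3))) := by
    intro y
    by_cases hy : y.1 ∈ D.Q
    · rw [B.kappa_eq_one.2 (show (⟨y.1, h.P_le_Stab B hx y.2.1⟩ : B.Stab).1 ∈ D.Q from hy)]; simp
    obtain ⟨D'', hD'', h'⟩ := D.pair_of_pt y.2.2 (h.P_le_Stab B hx y.2.1).1 hy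
    have hyS : D''.z ∈ B.Stab := by rw [hD'']; exact h.P_le_Stab B hx y.2.1
    obtain ⟨u1, u2⟩ := h'.diag B hyS
    rw [show (⟨D''.z, hyS⟩ : B.Stab) = ⟨y.1, h.P_le_Stab B hx y.2.1⟩ from Subtype.ext hD''] at u1 u2
    rw [B.kappa_def]
    rcases class_cases c1 c2 _ _ hd1 hd2 u1 u2 with ⟨e1, e2⟩ | ⟨e1, e2⟩ | ⟨e1, e2⟩ | ⟨e1, e2⟩ <;>
      rw [e1, e2] <;> simp [cp, cm, ← ofAdd_neg]
  have hsum : Nat.card (h.Pts B hx) =
      2 + 2 * Nat.card (h.Fib B hx cp) + 2 * Nat.card (h.Fib B hx cm) := by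
    have h1 : Nat.card (h.Fib B hx 1) = 2 := by
      let fz : Bool → h.Fib B hx 1 := fun b => cond b
        ⟨⟨D.z, h.J_le_P B hx (h.z_mem_J B hx), Pt.self _⟩, B.kappa_eq_one.2 D.z_mem⟩
        ⟨⟨D.z⁻¹, inv_mem (h.J_le_P B hx (h.z_mem_J B hx)), (Pt.self _).inv⟩, B.kappa_eq_one.2 (D.Q.inv_mem D.z_mem)⟩
      have hb : Function.Bijective fz := by
        refine ⟨fun a b e => ?_, fun w => ?_⟩
        · have hne : D.z ≠ D.z⁻¹ := fun e => D.z_ne (eq_one_of_sq_cube (mul_eq_one_iff_eq_inv.2 e) D.z_cube)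
          cases a <;> cases b <;> first | rfl | exact absurd (congrArg (fun w => w.1.1) e) (by simpa [fz] using hne) |
            exact absurd (congrArg (fun w => w.1.1) e).symm (by simpa [fz] using hne)
        · rcases D.cases_Zc (D.pt_mem_Q w.1.2.2 (B.kappa_eq_one.1 w.2)) with e | e | e
          · exfalso
            obtain ⟨g, hg | hg⟩ := w.1.2.2 <;> rw [e] at hg
            · exact D.z_ne (conj_eq_one_iff.1 hg)
            · exact D.z_ne (conj_eq_one_iff.1 (by rw [hg, inv_one]))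
          · exact ⟨true, Subtype.ext (Subtype.ext e.symm)⟩
          · exact ⟨false, Subtype.ext (Subtype.ext e.symm)⟩
      rw [← Nat.card_congr (Equiv.ofBijective fz hb)]; simp
    rw [← Nat.card_congr (Equiv.sigmaFiberEquiv
      (fun y : h.Pts B hx => B.kappa ⟨y.1, h.P_le_Stab B hx y.2.1⟩)), Nat.card_sigma]
    rw [← Finset.sum_subset (Finset.subset_univ ({1, cp, cp⁻¹, cm, cm⁻¹} : Finset _)) (fun c _ hc => by
      rw [Nat.card_eq_zero]; left; exact ⟨fun w => hc (w.2 ▸ hcase w.1)⟩)]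
    have hnd := class_distinct c1 c2 hd1 hd2
    have e1 : cp⁻¹ = Multiplicative.ofAdd (-c1, -c2) := rfl
    have e2 : cm⁻¹ = Multiplicative.ofAdd (-c1, c2) := by simp [cm, ← ofAdd_neg]
    rw [show ({1, cp, cp⁻¹, cm, cm⁻¹} : Finset (Multiplicative (ZMod 3 × ZMod 3))) =
      [1, cp, cp⁻¹, cm, cm⁻¹].toFinset by simp, List.sum_toFinset _ (by rw [e1, e2]; exact hnd)]
    simp only [List.map_cons, List.map_nil, List.sum_cons, List.sum_nil, add_zero]
    change Nat.card (h.Fib B hx 1) + (Nat.card (h.Fib B hx cp) + (Nat.card (h.Fib B hx cp⁻¹) +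
      (Nat.card (h.Fib B hx cm) + Nat.card (h.Fib B hx cm⁻¹)))) = _
    rw [h1, h.fib_inv B hx, h.fib_inv B hx]
    ring
  have hp' : p.1 ∉ D.Q := h.notin
  have hfp := h.card_fib B hx p hp'
  rw [hkp] at hfp
  have hfm : Nat.card (h.Fib B hx cm) ∈ ([0, 9, 18] : List ℕ) := by
    rcases isEmpty_or_nonempty (h.Fib B hx cm) with he | ⟨⟨w, hw⟩⟩
    · simp [Nat.card_of_isEmpty]
    · have := (h.card_fib B hx w (fun hq => by
        have e : B.kappa ⟨w.1, h.P_le_Stab B hx w.2.1⟩ = 1 := B.kappa_eq_one.2 hq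
        rw [e] at hw
        exact hd1 (congrArg (fun m => (Multiplicative.toAdd m).1) hw).symm)).1
      rw [hw] at this
      exact List.mem_cons_of_mem 0 this
  rcases count_values _ hfp.1 _ hfm with ⟨h9, h0⟩ | hd | hd | hd
  · obtain ⟨f, g, f0, g0, hf, hg, horb, hall⟩ := hfp.2 h9
    refine ⟨f, g, f0, g0, hf, hg, horb, fun y hy hpt => ?_⟩
    by_cases hyQ : y ∈ D.Q
    · exact Or.inl (D.pt_mem_Q hpt hyQ)
    refine Or.inr ?_
    have hk := hcase ⟨y, hy, hpt⟩
    simp only [Finset.mem_insert, Finset.mem_singleton] at hk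
    have hcp : ∀ w : h.Pts B hx, B.kappa ⟨w.1, h.P_le_Stab B hx w.2.1⟩ = cp →
        ∃ i j, w.1 = B.el (f i + g j) i j * D'.z := fun w hw => hall ⟨w, hw⟩
    haveI he : IsEmpty (h.Fib B hx cm) := by
      rcases Nat.card_eq_zero.1 h0 with he | he
      · exact he
      · exact absurd he (not_infinite_iff_finite.2 inferInstance)
    rcases hk with hk | hk | hk | hk | hk
    · exact absurd (B.kappa_eq_one.1 hk) hyQ
    · obtain ⟨i, j, e⟩ := hcp ⟨y, hy, hpt⟩ hk
      exact ⟨i, j, Or.inl e⟩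
    · obtain ⟨i, j, e⟩ := hcp ⟨y⁻¹, inv_mem hy, hpt.inv⟩
        (by rw [B.kappa_inv_mk (h.P_le_Stab B hx hy), hk, inv_inv])
      refine ⟨i, j, Or.inr ?_⟩
      rw [← e, inv_inv]
    · exact he.elim ⟨⟨y, hy, hpt⟩, hk⟩
    · exact he.elim ⟨⟨y⁻¹, inv_mem hy, hpt.inv⟩, by rw [B.kappa_inv_mk (h.P_le_Stab B hx hy), hk, inv_inv]⟩
  all_goals exfalso; rw [← hsum] at hd
  · exact h.not_dvd_pts B hx (r := 7) (by simp) hd
  · exact h.not_dvd_pts B hx (r := 19) (by simp) hd
  · exact h.not_dvd_pts B hx (r := 37) (by simp) hd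

end Pair

end Cfsg.Lib.U6Three
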