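import Cfsg.Agent.Lib.U6Three.Small
import Cfsg.Agent.Lib.U6Three.Comp
import Cfsg.Agent.Lib.U62Comm.Struct

/-!
# The centraliser of a vector of the second half: the two components
-/

set_option autoImplicit false
set_option linter.unusedSectionVars false
set_option linter.style.haveILetI false

namespace Cfsg.Lib.U6Three

open Subgroup

theorem aM_fix : app aM (0, 0, 1, 0) = (0, 0, 1, 0) ∧ app aM (1, 0, 0, 0) = (0, 0, 0, 1) ∧
    app kM (1, 0, 0, 0) = (0, 0, 0, 1) ∧ app kM (1, 0, 2, 0) = (0, 0, 1, 0) := by decide +kernel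

namespace Setting

variable {G : Type*} [Group G] [Finite G] {D : Data G} (T : Setting D)

/-- Some element centralising the first line inverts the centre. -/
def Inv : Prop := ∃ g : G, Commute g T.B.a1 ∧ g * D.z * g⁻¹ = D.z⁻¹

/-- The hypothesis on the elements of the second kind. -/
def NCond : Prop := T.swap.Inv → centralizer ({T.B.a1 * T.B.a2} : Set G) ≤ normalizer (T.J : Set G)

theorem not_inverted_of (h : ¬ T.Inv) : ∀ g : T.Xa, g * T.za * g⁻¹ ≠ T.za⁻¹ := by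
  intro c e
  obtain ⟨g, rfl⟩ := QuotientGroup.mk_surjective c
  rw [za, ← QuotientGroup.mk_inv, ← QuotientGroup.mk_inv, ← QuotientGroup.mk_mul, ← QuotientGroup.mk_mul] at e
  have h2 := T.mk_eq_iff.1 e
  obtain ⟨hQ, h3⟩ := T.a1_pow_Q h2
  have hp : (g : G) * D.z * (g : G)⁻¹ ∈ D.Q := by
    have := D.Q.inv_mem (D.Q.mul_mem hQ D.z_mem)
    simpa [mul_assoc] using this
  have hpz := D.pt_mem_Q ((Pt.self _).conj _) hp
  have := h3 (by
    simpa [mul_assoc] using T.S.Q2.mul_mem (T.S.Q2.inv_mem (D.Zc_le_fixC T.S.t_z hpz))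
      (T.S.Q2.inv_mem (D.Zc_le_fixC T.S.t_z (mem_zpowers D.z))))
  simp only [coe_mul, coe_inv, inv_mul_eq_one] at this
  exact h ⟨g, T.mem_Ca.1 g.2, this⟩

variable {T}

/-- The data in the quotient by the second line, with what the two component theorems need. -/
theorem exists_swap_data (h3 : T.IsThree) (hN : T.NCond) :
    ∃ X : Cfsg.Lib.PSpThree.Data T.swap.Xa, X.a = T.swap.za ∧ (∀ M : Subgroup T.swap.Xa, M.Normal → M.index ≠ 3) ∧
      ((∀ g : T.swap.Xa, g * X.a * g⁻¹ ≠ X.a⁻¹) ∨ ∀ y ∈ X.J, y ≠ 1 →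
        (∀ g : T.swap.Xa, g * X.a * g⁻¹ ≠ y ∧ g * X.a * g⁻¹ ≠ y⁻¹) →
          centralizer ({y} : Set T.swap.Xa) ≤ normalizer (X.J : Set T.swap.Xa)) ∧
      (∀ g : T.swap.Ca, (g : G) ∈ T.J → (g : T.swap.Xa) ∈ X.J) := by
  obtain ⟨X, hXa, hX, hX', -⟩ := exists_data h3.swap
  refine ⟨X, hXa, Xa_no_three h3.swap, ?_, fun g hg => hX g (T.swap_J ▸ hg)⟩
  by_cases hI : T.swap.Inv
  · refine Or.inr (Xa_small h3.swap ?_ X hXa hX hX')
    have := hN hI
    rw [T.swap_J]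
    show centralizer ({T.B.a2 * T.B.a1} : Set G) ≤ _
    rwa [← T.B.comm_a.eq]
  · exact Or.inl fun g => hXa.symm ▸ T.swap.not_inverted_of hI g

/-- An element of `C(a₂)` carrying the centre to the second point, in the quotient. -/
theorem exists_za_conj (T : Setting D) (hxC : T.x ∈ T.swap.Ca) :
    ∃ g : T.swap.Xa, g * T.swap.za * g⁻¹ = ((⟨T.x, hxC⟩ : T.swap.Ca) : T.swap.Xa) ∨
      g * T.swap.za * g⁻¹ = ((⟨T.x, hxC⟩ : T.swap.Ca) : T.swap.Xa)⁻¹ := by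
  obtain ⟨g, hg⟩ := T.exists_a
  have hgC : g ∈ T.swap.Ca := T.swap.mem_Ca.2 (by
    have := hg.eq (0, 0, 1, 0)
    rw [aM_fix.1, T.cv_a2] at this
    exact mul_inv_eq_iff_eq_mul.1 this)
  have hz := hg.eq (1, 0, 0, 0)
  rw [aM_fix.2.1, T.cv_x, T.cv_z] at hz
  refine ⟨((⟨g, hgC⟩ : T.swap.Ca) : T.swap.Xa), ?_⟩
  rw [za, ← QuotientGroup.mk_inv, ← QuotientGroup.mk_inv, ← QuotientGroup.mk_mul, ← QuotientGroup.mk_mul]
  rcases (show ∀ e : ZMod 3, e ≠ 0 → e = 1 ∨ e = -1 by decide) T.ε T.ε_ne with e | e <;> rw [e] at hz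
  · rw [zp_one] at hz
    exact Or.inl (congrArg _ (Subtype.ext hz))
  · rw [← zp_inv D.z_cube, zp_one] at hz
    refine Or.inr (congrArg _ (Subtype.ext ?_))
    show g * D.z * g⁻¹ = T.x⁻¹
    rw [← hz]; group

theorem x_not_za (T : Setting D) (hxC : T.x ∈ T.swap.Ca) :
    ((⟨T.x, hxC⟩ : T.swap.Ca) : T.swap.Xa) ∉ zpowers T.swap.za := by
  intro h
  obtain ⟨k, hk⟩ := mem_zpowers_iff.1 h
  rw [za, ← QuotientGroup.mk_zpow] at hk
  have h2 := (T.swap.a1_pow_Q (T.swap.mk_eq_iff.1 hk)).1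
  refine T.h.notin ?_
  have := D.Q.mul_mem (D.Q.zpow_mem D.z_mem k) h2
  rwa [coe_zpow, ← mul_assoc, mul_inv_cancel, one_mul] at this

/-- The images of elements of `C(t)` in the quotient. -/
theorem commute_t_iff (T : Setting D) (htC : T.S.t ∈ T.swap.Ca) {g : T.swap.Ca} :
    Commute (g : T.swap.Xa) ((⟨T.S.t, htC⟩ : T.swap.Ca) : T.swap.Xa) ↔ Commute (g : G) T.S.t := by
  constructor
  · intro h
    have h1 := T.swap.mk_eq_iff.1 (h : ((g * ⟨T.S.t, htC⟩ : T.swap.Ca) : T.swap.Xa) = _)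
    obtain ⟨w, hw⟩ : ∃ w, ((g : G) * T.S.t)⁻¹ * (T.S.t * g) = w := ⟨_, rfl⟩
    change ((g : G) * T.S.t)⁻¹ * (T.S.t * g) ∈ zpowers T.B.a2 at h1
    rw [hw] at h1
    have hc : ∀ u : G, Commute u T.B.a2 → Commute u w := fun u hu => by
      obtain ⟨k, rfl⟩ := mem_zpowers_iff.1 h1
      exact hu.zpow_right k
    have hg := hc g (T.swap.mem_Ca.1 g.2)
    have hti := inv_eq_of_mul_eq_one_right T.S.t_sq
    have e : (g : G)⁻¹ * T.S.t * g = T.S.t * w := by rw [← hw]; group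
    have e2 : w * w = 1 := by
      have h2 : (T.S.t * w) * (T.S.t * w) = 1 := by
        rw [← e, show (g : G)⁻¹ * T.S.t * g * ((g : G)⁻¹ * T.S.t * g) = (g : G)⁻¹ * (T.S.t * T.S.t) * g by group,
          T.S.t_sq]
        group
      rwa [show T.S.t * w * (T.S.t * w) = T.S.t * (w * T.S.t) * w by group,
        ← (hc T.S.t (T.swap.mem_Ca.1 htC)).eq, ← mul_assoc, T.S.t_sq, one_mul] at h2
    have e3 : w ^ 3 = 1 := by
      obtain ⟨k, rfl⟩ := mem_zpowers_iff.1 h1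
      rw [← zpow_natCast, ← zpow_mul, mul_comm, zpow_mul, zpow_natCast, T.B.a2_cube, one_zpow]
    rw [eq_one_of_sq_cube e2 e3, mul_one] at e
    show (g : G) * T.S.t = T.S.t * g
    conv_lhs => rw [← e]
    group
  · intro h
    show _ = _
    rw [← QuotientGroup.mk_mul, ← QuotientGroup.mk_mul]
    exact congrArg _ (Subtype.ext h)

theorem commute_L_k (h3 : T.IsThree) (hN : T.NCond) {k : G} (hk : T.Act k kM) (hkt : Commute k T.S.t)
    {l l' : G} (hl : l ∈ T.S.L) (hl' : l' ∈ T.S.L) : Commute l (k * l' * k⁻¹) := by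
  obtain ⟨X, hXa, hM, hsm, hXJ⟩ := exists_swap_data h3 hN
  have hcz : ∀ g ∈ T.S.L, Commute g T.B.a2 := fun g hg => ((T.S.mem_L.1 hg).2 _ T.B.ha2).symm
  have hka : k * T.cv (1, 0, 2, 0) * k⁻¹ = T.B.a2 := by rw [hk.eq, aM_fix.2.2.2, T.cv_a2]
  have hkx : k * T.cv (1, 0, 0, 0) * k⁻¹ = T.x := by rw [hk.eq, aM_fix.2.2.1, T.cv_x]
  have hq : T.cv (1, 0, 2, 0) ∈ T.S.Q2 := by
    refine D.mem_fixC.2 ⟨by rw [T.cv_el]; exact T.B.el_mem _ _ _, ?_⟩
    have := T.el_conj 1 0 2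
    rw [neg_zero] at this
    exact (mul_inv_eq_iff_eq_mul.1 this).symm
  have hwa : Commute (k * l' * k⁻¹) T.B.a2 := by
    rw [← hka]
    have := ((T.S.mem_L.1 hl').2 _ hq).symm.map (MulAut.conj k).toMonoidHom
    simpa [mul_assoc] using this
  have hwx : Commute (k * l' * k⁻¹) T.x := by
    rw [← hkx, T.cv_z]
    have := (zp_comm (T.S.L_z hl').symm T.ε).symm.map (MulAut.conj k).toMonoidHom
    simpa [mul_assoc] using this
  have hwt : Commute (k * l' * k⁻¹) T.S.t :=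
    (hkt.mul_left (T.S.L_t hl')).mul_left hkt.inv_left
  have hw4 : (k * l' * k⁻¹) ^ 4 = 1 := by rw [conj_pow, T.S.L_four hl']; group
  have htC : T.S.t ∈ T.swap.Ca := T.swap.mem_Ca.2 (D.mem_fixC.1 T.B.ha2).2.symm
  have hxC : T.x ∈ T.swap.Ca := T.swap.J_le_Ca (T.swap_J ▸ T.h.x_mem_J T.B T.hx)
  set u : T.swap.Ca := ⟨l, T.swap.mem_Ca.2 (hcz l hl)⟩
  set w : T.swap.Ca := ⟨k * l' * k⁻¹, T.swap.mem_Ca.2 hwa⟩
  have hmk : ∀ {a b : T.swap.Ca}, Commute (a : G) b → Commute (a : T.swap.Xa) b := fun {a b} h => by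
    show _ = _
    rw [← QuotientGroup.mk_mul, ← QuotientGroup.mk_mul]
    exact congrArg _ (Subtype.ext h)
  have h : Commute (u : T.swap.Xa) (w : T.swap.Xa) := by
    refine Cfsg.Lib.U62Comm.commute_components X hM hsm (t := ((⟨T.S.t, htC⟩ : T.swap.Ca) : T.swap.Xa))
      (x := ((⟨T.x, hxC⟩ : T.swap.Ca) : T.swap.Xa)) ?_ ?_ ?_ (hXJ _ (T.h.x_mem_J T.B T.hx)) ?_ ?_
      (hmk T.tx) ?_ ((T.commute_t_iff htC).2 (T.S.L_t hl)) ?_ (hmk hwx) ((T.commute_t_iff htC).2 hwt) ?_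
    · rw [← QuotientGroup.mk_mul, show (⟨T.S.t, htC⟩ : T.swap.Ca) * ⟨T.S.t, htC⟩ = 1 from Subtype.ext T.S.t_sq]; rfl
    · intro e
      have h2 := mem_subgroupOf.1 ((QuotientGroup.eq_one_iff _).1 e)
      obtain ⟨hQ, -⟩ := T.swap.a1_pow_Q h2
      have ht1 := D.eq_one_of_sq hQ T.S.t_sq
      have hc := T.ta
      rw [show T.S.t = 1 from ht1, one_mul, inv_one, mul_one] at hc
      exact T.B.a1_not_Zc (D.mem_of_sq_mem T.B.ha1.1 (by
        nth_rewrite 2 [hc]; rw [mul_inv_cancel]; exact D.Zc.one_mem))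
    · rw [hXa]; exact T.swap.commute_za.2 T.S.t_z
    · rw [hXa]; exact T.exists_za_conj hxC
    · rw [hXa]; exact T.x_not_za hxC
    · rw [hXa]; exact T.swap.commute_za.2 (T.S.L_z hl)
    · rw [← QuotientGroup.mk_pow, show u ^ 4 = 1 from Subtype.ext (T.S.L_four hl)]; rfl
    · rw [← QuotientGroup.mk_pow, show w ^ 4 = 1 from Subtype.ext hw4]; rfl
  have h1 := T.swap.mk_eq_iff.1 (h : ((u * w : T.swap.Ca) : T.swap.Xa) = ((w * u : T.swap.Ca) : T.swap.Xa))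
  obtain ⟨b, hb⟩ : ∃ b, (l * (k * l' * k⁻¹))⁻¹ * (k * l' * k⁻¹ * l) = b := ⟨_, rfl⟩
  change (l * (k * l' * k⁻¹))⁻¹ * (k * l' * k⁻¹ * l) ∈ zpowers T.B.a2 at h1
  rw [hb] at h1
  have hwb : Commute (k * l' * k⁻¹) b := by
    obtain ⟨i, rfl⟩ := mem_zpowers_iff.1 h1; exact hwa.zpow_right i
  have e : l⁻¹ * (k * l' * k⁻¹) * l = (k * l' * k⁻¹) * b := by rw [← hb]; group
  have hb3 : b ^ 3 = 1 := by
    obtain ⟨i, rfl⟩ := mem_zpowers_iff.1 h1
    rw [← zpow_natCast, ← zpow_mul, mul_comm, zpow_mul, zpow_natCast, T.B.a2_cube, one_zpow]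
  have hb4 : b ^ 4 = 1 := by
    have := congrArg (fun y => y ^ 4) e
    simp only [hwb.mul_pow, hw4, one_mul] at this
    rw [← this]
    have h2 := conj_pow (a := l⁻¹) (b := k * l' * k⁻¹) (i := 4)
    rw [inv_inv] at h2
    rw [h2, hw4, mul_one, inv_mul_cancel]
  rw [eq_one_of_coprime (by decide : Nat.Coprime 4 3) hb4 hb3, mul_one] at e
  show l * (k * l' * k⁻¹) = k * l' * k⁻¹ * l
  conv_lhs => rw [← e]
  group

end Setting

end Cfsg.Lib.U6Three
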