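import Cfsg.Agent.Lib.U6Three.Points

/-!
# Two commuting conjugates of the centre: the plane of fixed points has order 27
-/

set_option autoImplicit false
set_option linter.unusedSectionVars false

namespace Cfsg.Lib.U6Three

open Subgroup
open scoped commutatorElement

theorem zp_step {P : ZMod 3 → Prop} {c : ZMod 3} (hc : c ≠ 0) (h0 : P 0) (h : ∀ i, P i → P (i - c)) (i : ZMod 3) :
    P i := by
  have hn : ∀ n : ℕ, P ((n : ZMod 3) * -c) := by
    intro n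
    induction n with
    | zero => simpa using h0
    | succ n ih => rw [show ((n + 1 : ℕ) : ZMod 3) * -c = (n : ZMod 3) * -c - c by push_cast; ring]; exact h _ ih
  have := hn (i * (-c)⁻¹).val
  rwa [ZMod.natCast_zmod_val, inv_mul_cancel_right₀ (neg_ne_zero.2 hc)] at this

namespace Basis

variable {G : Type*} [Group G] [Finite G] {D : Data G} {S : Split D} (B : Basis S)

/-- The elements of the plane. -/
def el (k i j : ZMod 3) : G := zp D.z k * zp B.a1 i * zp B.a2 j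

theorem comm_a : Commute B.a1 B.a2 := S.comm12 B.ha1 B.ha2

theorem el_mem (k i j : ZMod 3) : B.el k i j ∈ D.Q :=
  D.Q.mul_mem (D.Q.mul_mem (zp_mem D.z_mem k) (zp_mem B.ha1.1 i)) (zp_mem B.ha2.1 j)

theorem el_zero : B.el 0 0 0 = 1 := by simp [el, zp_zero]

theorem el_eq_one {k i j : ZMod 3} (h : B.el k i j = 1) : k = 0 ∧ i = 0 ∧ j = 0 :=
  B.ind B.ha2 B.swap.a1_not_Zc k i j h

theorem el_swap (k i j : ZMod 3) : B.swap.el k i j = B.el k j i := by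
  show zp D.z k * zp B.a2 i * zp B.a1 j = _
  rw [el, mul_assoc, ((zp_comm (zp_comm B.comm_a j).symm i)).eq, ← mul_assoc]

/-- Conjugation by the first partner moves the central coordinate by a shift depending on the first one only. -/
theorem step_conj {x : G} (hx : x ∈ B.Stab) : ∃ m : ZMod 3, ∀ i j k,
    B.b1 * (B.el k i j * x) * B.b1⁻¹ = B.el (k + i + m) (i - B.k1 ⟨x, hx⟩) j * x := by
  set c := B.k1 ⟨x, hx⟩
  obtain ⟨w, hw, e⟩ := B.comm_b1 hx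
  obtain ⟨m, rfl⟩ := D.exists_zp hw
  refine ⟨m, fun i j k => ?_⟩
  have hba : ⁅B.b1, zp B.a1 i⁆ = zp D.z i := by
    rw [← commutatorElement_inv (zp B.a1 i), D.form_zp_left B.ha1.1 B.hb1.1 B.h1'
      (by rw [inv_pow, D.z_cube, inv_one]), zp, zp, inv_pow, inv_inv]
  have hbj : Commute B.b1 (zp B.a2 j) := S.comm12 B.hb1 (zp_mem B.ha2 j)
  have hzc : ∀ q ∈ D.Q, Commute q (zp D.z m) := fun q hq => (zp_comm (D.comm_z q hq).symm m).symm
  have h2 : Commute (zp B.a2 j) (zp B.a1 (-c)) := (S.comm12 (zp_mem B.ha1 _) (zp_mem B.ha2 _)).symm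
  have key : B.b1 * (B.el k i j * x) * B.b1⁻¹ = B.el (k + i + m) (i - c) j * x := by
    rw [el, el, show B.b1 * (zp D.z k * zp B.a1 i * zp B.a2 j * x) * B.b1⁻¹ =
        (B.b1 * zp D.z k * B.b1⁻¹) * (B.b1 * zp B.a1 i * B.b1⁻¹) * (B.b1 * zp B.a2 j * B.b1⁻¹) *
          (B.b1 * x * B.b1⁻¹) by group,
      (zp_comm (D.comm_z _ B.hb1.1).symm k).symm.eq, mul_inv_cancel_right, Data.conj_eq, hba,
      hbj.eq, mul_inv_cancel_right, Data.conj_eq, e,
      show zp D.z k * (zp D.z i * zp B.a1 i) * zp B.a2 j * (zp D.z m * zp B.a1 (-c) * x) =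
        zp D.z k * zp D.z i * ((zp B.a1 i * zp B.a2 j) * zp D.z m) * zp B.a1 (-c) * x by group,
      (hzc _ (D.Q.mul_mem (zp_mem B.ha1.1 i) (zp_mem B.ha2.1 j))).eq,
      show zp D.z k * zp D.z i * (zp D.z m * (zp B.a1 i * zp B.a2 j)) * zp B.a1 (-c) * x =
        zp D.z k * zp D.z i * zp D.z m * zp B.a1 i * (zp B.a2 j * zp B.a1 (-c)) * x by group,
      h2.eq, show zp D.z k * zp D.z i * zp D.z m * zp B.a1 i * (zp B.a1 (-c) * zp B.a2 j) * x =
        zp D.z k * zp D.z i * zp D.z m * (zp B.a1 i * zp B.a1 (-c)) * zp B.a2 j * x by group,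
      ← zp_add D.z_cube, ← zp_add D.z_cube, ← zp_add B.a1_cube, ← sub_eq_add_neg]
  exact key

theorem step_point {x : G} (hx : x ∈ B.Stab) : ∃ m : ZMod 3, ∀ i j k, Pt D.z (B.el k i j * x) →
    Pt D.z (B.el (k + i + m) (i - B.k1 ⟨x, hx⟩) j * x) := by
  obtain ⟨m, hm⟩ := B.step_conj hx
  exact ⟨m, fun i j k hp => hm i j k ▸ hp.conj B.b1⟩

theorem step {x : G} (hx : x ∈ B.Stab) {i j : ZMod 3} (hp : ∀ k, Pt D.z (B.el k i j * x)) :
    ∀ k, Pt D.z (B.el k (i - B.k1 ⟨x, hx⟩) j * x) := by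
  intro k
  obtain ⟨m, hm⟩ := B.step_point hx
  have := hm i j (k - i - m) (hp _)
  rwa [show k - i - m + i + m = k by ring] at this

/-- All the elements of the plane times the point are points. -/
theorem all_points {x : G} (hx : x ∈ B.Stab) (h1 : B.k1 ⟨x, hx⟩ ≠ 0) (h2 : B.k2 ⟨x, hx⟩ ≠ 0)
    (h0 : ∀ k, Pt D.z (zp D.z k * x)) : ∀ k i j, Pt D.z (B.el k i j * x) := by
  have h10 : ∀ i, ∀ k, Pt D.z (B.el k i 0 * x) :=
    zp_step (P := fun i => ∀ k, Pt D.z (B.el k i 0 * x)) h1 (fun k => by simpa [el, zp_zero] using h0 k)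
      (fun i hi => B.step hx hi)
  intro k i j
  refine zp_step (P := fun j => ∀ k, Pt D.z (B.el k i j * x)) h2 (h10 i) (fun j hj => ?_) j k
  intro k
  have := B.swap.step (B.swap_Stab hx) (i := j) (j := i) (fun k => by rw [el_swap]; exact hj k) k
  rwa [el_swap] at this

end Basis

namespace Pair

variable {G : Type*} [Group G] [Finite G] {D D' : Data G} (h : Pair D D') {S : Split D} (B : Basis S)

include h

/-- Both components are nontrivial. -/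
theorem diag (hx : D'.z ∈ B.Stab) : B.k1 ⟨_, hx⟩ ≠ 0 ∧ B.k2 ⟨_, hx⟩ ≠ 0 := by
  by_cases h1 : B.k1 ⟨_, hx⟩ = 0
  · by_cases h2 : B.k2 ⟨_, hx⟩ = 0
    · exfalso
      refine h.notin (B.kappa_eq_one.1 (show B.kappa ⟨_, hx⟩ = 1 from ?_))
      show Multiplicative.ofAdd (B.k1 ⟨_, hx⟩, B.k2 ⟨_, hx⟩) = 1
      rw [h1, h2]; rfl
    · exact (B.swap.no_axis h (B.swap_Stab hx) h2 h1).elim
  · exact ⟨h1, fun h2 => B.no_axis h hx h1 h2⟩

/-- A 3-element of the centraliser fixes both lines. -/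
theorem mem_Stab {g : G} (hx : D'.z ∈ B.Stab) (hgz : Commute g D.z) (hgx : Commute g D'.z)
    (h3 : ∃ n, g ^ 3 ^ n = 1) : g ∈ B.Stab := by
  haveI : Fact (Nat.Prime 3) := ⟨Nat.prime_three⟩
  obtain ⟨n, hn⟩ := h3
  have hg : IsPGroup 3 (zpowers g) := by
    obtain ⟨k, -, hk⟩ := (Nat.dvd_prime_pow Nat.prime_three).1 (orderOf_dvd_of_pow_eq_one hn)
    exact IsPGroup.of_card (n := k) (by rw [Nat.card_zpowers, hk])
  have hx3 : IsPGroup 3 D'.Zc := IsPGroup.of_card (n := 1) (by rw [D'.card_Zc, pow_one])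
  have hnorm : zpowers g ≤ normalizer (D'.Zc : Set G) := by
    rw [zpowers_le, mem_normalizer_iff]
    intro w
    constructor
    · intro hw; rw [(D'.comm_Zc hgx hw).eq, mul_inv_cancel_right]; exact hw
    · intro hw
      have := D'.comm_Zc hgx.inv_left hw
      have e : w = g⁻¹ * (g * w * g⁻¹) * g := by group
      rw [e, this.eq, inv_mul_cancel_right]; exact hw
  obtain ⟨B2, hB2⟩ := S.exists_basis_of_three (hg.to_sup_of_normal_right' hx3 hnorm) (fun u hu => by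
    have : zpowers g ⊔ D'.Zc ≤ centralizer ({D.z} : Set G) := sup_le
      (zpowers_le.2 (mem_centralizer_singleton_iff.2 hgz))
      (zpowers_le.2 (mem_centralizer_singleton_iff.2 h.comm))
    exact mem_centralizer_singleton_iff.1 (this hu))
  have hx2 := hB2 (le_sup_right (a := zpowers g) (mem_zpowers D'.z))
  have hg2 := hB2 (le_sup_left (b := D'.Zc) (mem_zpowers g))
  suffices key : ∀ {S' : Split D} (A A2 : Basis S') (hA : D'.z ∈ A.Stab), A.k1 ⟨_, hA⟩ ≠ 0 → D'.z ∈ A2.Stab →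
      g ∈ A2.Stab → ⁅g, A.a1⁆ ∈ D.Zc from
    ⟨hgz, key B B2 hx (h.diag B hx).1 hx2 hg2,
      key B.swap B2.swap (B.swap_Stab hx) (h.diag B hx).2 (B2.swap_Stab hx2) (B2.swap_Stab hg2)⟩
  intro S' A A2 hA hA1 hA2 hgA
  obtain ⟨w, hw, i, j, e⟩ := A.normal_form A2.ha1
  set F := D.fixMod D'.z hA.1
  have hwF : ∀ {u : G} (hu : Commute u D.z), w ∈ D.fixMod u hu := fun {u} hu => ⟨D.Zc_le hw, by
    rw [commutatorElement_eq_one_iff_commute.2 (D.comm_Zc hu hw)]; exact D.Zc.one_mem⟩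
  have haF : A.a1 ∈ F := ⟨A.ha1.1, hA.2.1⟩
  have hjF : zp A.b1 j ∈ F := by
    have h' : A2.a1 ∈ F := ⟨A2.ha1.1, hA2.2.1⟩
    rw [e] at h'
    have := F.mul_mem (F.inv_mem (F.mul_mem (hwF hA.1) (zp_mem haF i))) h'
    rwa [inv_mul_cancel_left] at this
  have hj : j = 0 := by
    by_contra hj
    have := zp_mem hjF j⁻¹
    rw [zp_zp A.b1_cube, mul_inv_cancel₀ hj, zp_one] at this
    exact hA1 (A.k1_eq _ (by simpa [zp_zero] using this.2))
  subst hj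
  rw [zp_zero, mul_one] at e
  have hi : i ≠ 0 := fun hi => A2.a1_not_Zc (by rw [e, hi, zp_zero, mul_one]; exact hw)
  have h' : A2.a1 ∈ D.fixMod g hgz := ⟨A2.ha1.1, hgA.2.1⟩
  rw [e] at h'
  have h2 := (D.fixMod g hgz).mul_mem ((D.fixMod g hgz).inv_mem (hwF hgz)) h'
  rw [inv_mul_cancel_left] at h2
  have h3 := zp_mem h2 i⁻¹
  rw [zp_zp A.a1_cube, mul_inv_cancel₀ hi, zp_one] at h3
  exact h3.2

theorem zp_comm_a (hx : D'.z ∈ B.Stab) (hne : ¬ Commute D'.z B.a1) : ∀ k, Pt D.z (zp D.z k * D'.z) := by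
  obtain ⟨γ, hγ⟩ := D.exists_zp hx.2.1
  have hγ0 : γ ≠ 0 := fun e => hne (commutatorElement_eq_one_iff_commute.1 (by rw [hγ, e, zp_zero]))
  have h1 : ⁅B.a1, D'.z⁆ = zp D.z (-γ) := by rw [← commutatorElement_inv, hγ, zp_inv D.z_cube]
  have : ∀ n : ℕ, Pt D.z (zp D.z ((n : ZMod 3) * -γ) * D'.z) := by
    intro n
    induction n with
    | zero => rw [Nat.cast_zero, zero_mul, zp_zero, one_mul]; exact h.pt
    | succ n ih =>
      have := ih.conj B.a1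
      rw [show B.a1 * (zp D.z ((n : ZMod 3) * -γ) * D'.z) * B.a1⁻¹ =
          (B.a1 * zp D.z ((n : ZMod 3) * -γ) * B.a1⁻¹) * (B.a1 * D'.z * B.a1⁻¹) by group,
        (zp_comm (D.comm_z _ B.ha1.1).symm _).symm.eq, mul_inv_cancel_right, Data.conj_eq, h1, ← mul_assoc,
        ← zp_add D.z_cube] at this
      rwa [show ((n + 1 : ℕ) : ZMod 3) * -γ = (n : ZMod 3) * -γ + -γ by push_cast; ring]
  intro k
  have := this (k * (-γ)⁻¹).val
  rwa [ZMod.natCast_zmod_val, inv_mul_cancel_right₀ (neg_ne_zero.2 hγ0)] at this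

/-- Full fixed plane and a whole coset of points: impossible. -/
theorem not_full_of_coset (hx : D'.z ∈ B.Stab) (h0 : ∀ k, Pt D.z (zp D.z k * D'.z))
    (c1 : Commute D'.z B.a1) (c2 : Commute D'.z B.a2) : False := by
  obtain ⟨k, i, j, hne, hker⟩ := h.exists_kernel B D.z_mem hx.1.symm B.ha1.1 c1.symm B.ha2.1 c2.symm D.z_cube
    B.a1_cube B.a2_cube (B.ind B.ha2 B.swap.a1_not_Zc)
  have h1 := h.no_line (B.el_mem k i j) hker (B.all_points hx (h.diag B hx).1 (h.diag B hx).2 h0 k i j)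
  obtain ⟨e1, e2, e3⟩ := B.el_eq_one h1
  simp [e1, e2, e3] at hne

theorem coset_of_not_full (hx : D'.z ∈ B.Stab) (hne : ¬ (Commute D'.z B.a1 ∧ Commute D'.z B.a2)) :
    ∀ k, Pt D.z (zp D.z k * D'.z) := by
  by_cases h1 : Commute D'.z B.a1
  · exact h.zp_comm_a B.swap (B.swap_Stab hx) (fun h2 => hne ⟨h1, h2⟩)
  · exact h.zp_comm_a B hx h1

/-- The second point centralises both lines. -/
theorem full (hx : D'.z ∈ B.Stab) : Commute D'.z B.a1 ∧ Commute D'.z B.a2 := by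
  by_contra hne
  have h0 := h.coset_of_not_full B hx hne
  obtain ⟨hd1, hd2⟩ := h.diag B hx
  have hall := B.all_points hx hd1 hd2 h0
  obtain ⟨S'⟩ := D'.exists_split
  obtain ⟨B', hz⟩ := h.symm.exists_basis S'
  -- the coset seen from the other side
  have h0' : ∀ k, Pt D'.z (zp D'.z k * D.z) := by
    intro k
    rw [Pt.iff_of_pt h.pt]
    rcases (show ∀ k : ZMod 3, k = 0 ∨ k = 1 ∨ k = -1 by decide) k with rfl | rfl | rfl
    · rw [zp_zero, one_mul]; exact Pt.self _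
    · rw [zp_one, h.comm.eq]; simpa [zp_one] using h0 1
    · have := (h0 (-1)).inv
      rw [← zp_inv D.z_cube, zp_one, mul_inv_rev, inv_inv] at this
      rwa [← zp_inv D'.z_cube, zp_one]
  by_cases hfull' : Commute D.z B'.a1 ∧ Commute D.z B'.a2
  · exact h.symm.not_full_of_coset B' hz h0' hfull'.1 hfull'.2
  obtain ⟨hd1', hd2'⟩ := h.symm.diag B' hz
  have hall' := B'.all_points hz hd1' hd2' h0'
  obtain ⟨α, hα⟩ := D'.exists_zp hz.2.1
  obtain ⟨β, hβ⟩ := D'.exists_zp hz.2.2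
  obtain ⟨i₀, j₀, hij, hsum⟩ : ∃ i j : ZMod 3, (i ≠ 0 ∨ j ≠ 0) ∧ i * α + j * β = 0 :=
    (show ∀ α β : ZMod 3, ∃ i j : ZMod 3, (i ≠ 0 ∨ j ≠ 0) ∧ i * α + j * β = 0 by decide) α β
  have hpow : ∀ {a : G} (m : ZMod 3), a ∈ D'.Q → ∀ γ, ⁅D.z, a⁆ = zp D'.z γ → ⁅zp a m, D.z⁆ = zp D'.z (-(γ * m)) := by
    intro a m ha γ hγ
    have hc : ⁅a, D.z⁆ = zp D'.z (-γ) := by rw [← commutatorElement_inv, hγ, zp_inv D'.z_cube]
    have : ∀ n : ℕ, ⁅a ^ n, D.z⁆ = zp D'.z (-γ) ^ n := fun n => by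
      induction n with
      | zero => simp
      | succ n ih =>
        rw [pow_succ, show ⁅a ^ n * a, D.z⁆ = a ^ n * ⁅a, D.z⁆ * (a ^ n)⁻¹ * ⁅a ^ n, D.z⁆ by
          simp only [commutatorElement_def]; group, hc, ih,
          (D'.comm_Q_Zc (D'.Q.pow_mem ha n) (zp_mem (mem_zpowers _) _)).eq, mul_inv_cancel_right]
        exact (pow_succ' _ _).symm
    rw [show -(γ * m) = -γ * m by ring, ← zp_zp D'.z_cube]
    exact this _
  set f := B'.el 0 i₀ j₀ with hf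
  have hfeq : f = zp B'.a1 i₀ * zp B'.a2 j₀ := by rw [hf, Basis.el, zp_zero, one_mul]
  have hfQ : f ∈ D'.Q := B'.el_mem _ _ _
  have hfz : Commute f D.z := commutatorElement_eq_one_iff_commute.1 (by
    rw [hfeq, show ⁅zp B'.a1 i₀ * zp B'.a2 j₀, D.z⁆ =
        zp B'.a1 i₀ * ⁅zp B'.a2 j₀, D.z⁆ * (zp B'.a1 i₀)⁻¹ * ⁅zp B'.a1 i₀, D.z⁆ by
        simp only [commutatorElement_def]; group, hpow j₀ B'.ha2.1 β hβ, hpow i₀ B'.ha1.1 α hα,
      (D'.comm_Q_Zc (zp_mem B'.ha1.1 _) (zp_mem (mem_zpowers _) _)).eq, mul_inv_cancel_right, ← zp_add D'.z_cube,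
      show -(β * j₀) + -(α * i₀) = -(i₀ * α + j₀ * β) by ring, hsum, neg_zero, zp_zero])
  have hfx : Commute f D'.z := D'.comm_z f hfQ
  have hf3 : f ^ 3 = 1 := S'.exp_Q hfQ
  have hfS := h.mem_Stab B hx hfz hfx ⟨1, by rw [pow_one]; exact hf3⟩
  set kx : ZMod 3 × ZMod 3 := (B.k1 ⟨_, hx⟩, B.k2 ⟨_, hx⟩) with hkx
  by_cases hmul : ∀ m : ZMod 3, (B.k1 ⟨f, hfS⟩, B.k2 ⟨f, hfS⟩) ≠ (m * kx.1, m * kx.2)
  · obtain ⟨m, hm⟩ := kappa_exists_axis kx (B.k1 ⟨f, hfS⟩, B.k2 ⟨f, hfS⟩) hd1 hd2 hmul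
    -- a point with one component
    set y := f * zp D'.z m * D.z with hy
    have hyp : Pt D.z y := by
      have := hall' m i₀ j₀
      rw [Pt.iff_of_pt h.pt] at this
      convert this using 1
      rw [hy, Basis.el, mul_assoc (zp D'.z m), ← hfeq, ((zp_comm hfx.symm m).symm).eq]
    have hxm : zp D'.z m ∈ B.Stab := zp_mem hx m
    have hzS : D.z ∈ B.Stab := B.Q_le_Stab D.z_mem
    have hyS : y ∈ B.Stab := B.Stab.mul_mem (B.Stab.mul_mem hfS hxm) hzS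
    have ek1 : B.k1 ⟨y, hyS⟩ = B.k1 ⟨f, hfS⟩ + m * kx.1 := by
      rw [show (⟨y, hyS⟩ : B.Stab) = ⟨f, hfS⟩ * ⟨_, hxm⟩ * ⟨_, hzS⟩ from rfl, B.k1_mul, B.k1_mul,
        B.k1_zp ⟨_, hx⟩ m, B.k1_of_Q D.z_mem, add_zero]
    have ek2 : B.k2 ⟨y, hyS⟩ = B.k2 ⟨f, hfS⟩ + m * kx.2 := by
      rw [show (⟨y, hyS⟩ : B.Stab) = ⟨f, hfS⟩ * ⟨_, hxm⟩ * ⟨_, hzS⟩ from rfl, B.k2_mul, B.k2_mul,
        B.k2_zp ⟨_, hx⟩ m, B.k2_of_Q D.z_mem, add_zero]
    have hyQ : y ∉ D.Q := fun hq => by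
      have e1 := B.k1_of_Q hq
      have e2 := B.k2_of_Q hq
      rcases hm with hm | hm
      · exact hm.2 (by rw [← ek2]; exact e2)
      · exact hm.1 (by rw [← ek1]; exact e1)
    obtain ⟨D'', hD''⟩ := D.exists_view hyp
    have hyz : Commute y D.z := ((hfz.mul_left (zp_comm h.comm m)).mul_left (Commute.refl _))
    have h'' : Pair D D'' := ⟨by rw [hD'']; exact hyp, by rw [hD'']; exact hyz, by rw [hD'']; exact hyQ⟩
    have hS'' : D''.z ∈ B.Stab := by rw [hD'']; exact hyS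
    obtain ⟨e1, e2⟩ := h''.diag B hS''
    rw [show (⟨_, hS''⟩ : B.Stab) = ⟨y, hyS⟩ from Subtype.ext hD''] at e1 e2
    rcases hm with hm | hm
    · exact e1 (by rw [ek1]; exact hm.1)
    · exact e2 (by rw [ek2]; exact hm.2)
  · push Not at hmul
    obtain ⟨m, hm⟩ := hmul
    rw [Prod.mk.injEq] at hm
    set w := f * zp D'.z (-m) with hw
    have hwS : w ∈ B.Stab := B.Stab.mul_mem hfS (zp_mem hx _)
    have hwQ : w ∈ D.Q := B.kappa_eq_one.1 (show B.kappa ⟨w, hwS⟩ = 1 by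
      show Multiplicative.ofAdd (B.k1 _, B.k2 _) = 1
      rw [show (⟨w, hwS⟩ : B.Stab) = ⟨f, hfS⟩ * ⟨_, zp_mem hx (-m)⟩ from rfl, B.k1_mul, B.k2_mul,
        B.k1_zp ⟨_, hx⟩ (-m), B.k2_zp ⟨_, hx⟩ (-m), hm.1, hm.2, neg_mul, neg_mul, add_neg_cancel, add_neg_cancel]
      rfl)
    have hw' : w ∈ D'.Q := D'.Q.mul_mem hfQ (zp_mem D'.z_mem _)
    have hwx : Commute w D'.z := hfx.mul_left (zp_comm (Commute.refl _) _)
    -- `w` is in the plane
    obtain ⟨c, hc, d, hd, ew⟩ := S.decomp w hwQ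
    obtain ⟨u, hu, i, j, ec⟩ := B.normal_form hc
    obtain ⟨v, hv, i', j', ed⟩ := B.swap.normal_form (show d ∈ S.swap.Q1 from hd)
    change d = v * zp B.a2 i' * zp B.b2 j' at ed
    set F := D.fixMod D'.z hx.1
    have hwF : w ∈ F := ⟨hwQ, by rw [commutatorElement_eq_one_iff_commute.2 hwx.symm]; exact D.Zc.one_mem⟩
    have hxc : c⁻¹ * (D'.z * c * D'.z⁻¹) ∈ D.Zc := by
      refine S.inf_eq.le ⟨S.Q1.mul_mem (S.Q1.inv_mem hc) (B.norm_one hx c hc), ?_⟩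
      have e : c⁻¹ * (D'.z * c * D'.z⁻¹) = d * (D'.z * d * D'.z⁻¹)⁻¹ := by
        have e1 : D'.z * (c * d) * D'.z⁻¹ = c * d := by rw [← ew, hwx.symm.eq, mul_inv_cancel_right]
        rw [inv_mul_eq_iff_eq_mul, ← mul_assoc, eq_mul_inv_iff_mul_eq]
        calc D'.z * c * D'.z⁻¹ * (D'.z * d * D'.z⁻¹) = D'.z * (c * d) * D'.z⁻¹ := by group
          _ = c * d := e1
      rw [e]
      exact S.Q2.mul_mem hd (S.Q2.inv_mem (B.swap.norm_one (B.swap_Stab hx) d hd))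
    have hcF : c ∈ F := ⟨hc.1, by
      rw [show ⁅D'.z, c⁆ = c * (c⁻¹ * (D'.z * c * D'.z⁻¹)) * c⁻¹ by simp only [commutatorElement_def]; group,
        (D.comm_Q_Zc hc.1 hxc).eq, mul_inv_cancel_right]
      exact hxc⟩
    have hdF : d ∈ F := by
      have := F.mul_mem (F.inv_mem hcF) hwF
      rwa [ew, inv_mul_cancel_left] at this
    have hZF : ∀ {u : G}, u ∈ D.Zc → u ∈ F := fun hu => ⟨D.Zc_le hu, by
      rw [commutatorElement_eq_one_iff_commute.2 (D.comm_Zc hx.1 hu)]; exact D.Zc.one_mem⟩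
    have hj : j = 0 := by
      by_contra hj
      have h' := F.mul_mem (F.inv_mem (F.mul_mem (hZF hu) (zp_mem (show B.a1 ∈ F from ⟨B.ha1.1, hx.2.1⟩) i))) hcF
      rw [ec, inv_mul_cancel_left] at h'
      have := zp_mem h' j⁻¹
      rw [zp_zp B.b1_cube, mul_inv_cancel₀ hj, zp_one] at this
      exact hd1 (B.k1_eq _ (by simpa [zp_zero] using this.2))
    have hj' : j' = 0 := by
      by_contra hj'
      have h' := F.mul_mem (F.inv_mem (F.mul_mem (hZF hv) (zp_mem (show B.a2 ∈ F from ⟨B.ha2.1, hx.2.2⟩) i'))) hdF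
      rw [ed, inv_mul_cancel_left] at h'
      have := zp_mem h' j'⁻¹
      rw [zp_zp B.b2_cube, mul_inv_cancel₀ hj', zp_one] at this
      exact hd2 (B.swap.k1_eq ⟨D'.z, B.swap_Stab hx⟩
        (show ⁅D'.z, B.b2⁆ * (zp B.a2 0)⁻¹ ∈ D.Zc by simpa [zp_zero] using this.2))
    subst hj hj'
    rw [zp_zero, mul_one] at ec ed
    obtain ⟨k1, rfl⟩ := D.exists_zp hu
    obtain ⟨k2, rfl⟩ := D.exists_zp hv
    have hel : w = B.el (k1 + k2) i i' := by
      rw [ew, ec, ed, Basis.el, zp_add D.z_cube, mul_assoc (zp D.z k1) (zp B.a1 i), ← mul_assoc (zp B.a1 i),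
        ((zp_comm (D.comm_z _ (zp_mem B.ha1.1 i)).symm k2).symm).eq]
      group
    have h1' := h.no_line hwQ hw' (hel ▸ hall _ _ _)
    have hfm : f = zp D'.z m := by
      rw [hw, ← zp_inv D'.z_cube] at h1'
      exact mul_inv_eq_one.1 h1'
    obtain ⟨-, e2, e3⟩ := B'.el_eq_one (show B'.el (-m) i₀ j₀ = 1 by
      rw [Basis.el, mul_assoc, ← hfeq, hfm, ← zp_add D'.z_cube, neg_add_cancel, zp_zero])
    rcases hij with hh | hh
    · exact hh e2
    · exact hh e3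

end Pair

end Cfsg.Lib.U6Three
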