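import Cfsg.Agent.Lib.U6Three.Norm

/-!
# Elements of order three with a fixed point on the extraspecial group
-/

set_option autoImplicit false
set_option linter.unusedSectionVars false
set_option linter.style.haveILetI false
set_option synthInstance.maxSize 4000

namespace Cfsg.Lib.U6Three

open Subgroup
open scoped commutatorElement

theorem n_facts : (∀ v : V4, v.2.1 = 0 → nrm v = 2 → v.1 ≠ 0 ∧ v.2.2.2 ≠ 0) ∧
    (∀ v : V4, ∀ j : ZMod 3, v.2.1 = 0 → nrm v = 2 → (app (uM 0 j) v).2.1 = 0 ∧ nrm (app (uM 0 j) v) = 2) ∧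
    (∀ j : ZMod 3, ∀ v : V4, app (uM 0 j) (app (uM 0 (-j)) v) = v) ∧
    (∀ u n : SL3, u ^ 3 = 1 → u ≠ 1 → n ^ 4 = 1 → n * u = u * n → n = 1 ∨ n = -1) := by
  decide +kernel

namespace Setting

variable {G : Type*} [Group G] [Finite G] {D : Data G} {T : Setting D}

theorem cv_comm (T : Setting D) (v w : V4) : Commute (T.cv v) (T.cv w) :=
  T.h.comm_P T.B T.hx (T.h.J_le_P T.B T.hx (T.cv_mem v)) (T.cv_mem w)

theorem t_ne (T : Setting D) : T.S.t ≠ 1 := fun e => by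
  have hc := T.ta
  rw [e, one_mul, inv_one, mul_one] at hc
  exact T.B.a1_not_Zc (D.mem_of_sq_mem T.B.ha1.1 (by nth_rewrite 2 [hc]; rw [mul_inv_cancel]; exact D.Zc.one_mem))

theorem mem_zt {l : G} (T : Setting D) (h : l = 1 ∨ l = T.S.t) : l ∈ zpowers T.S.t := by
  rcases h with rfl | rfl
  exacts [one_mem _, mem_zpowers _]

/-- The fixed points of the second point on the quaternion group. -/
theorem fix_x_L (T : Setting D) {l : G} (hl : l ∈ T.S.L) (h : Commute l T.x) : l ∈ zpowers T.S.t := by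
  have hxH : T.x ∈ T.S.HN := T.HN_of_Ca (T.J_le_Ca (T.h.x_mem_J T.B T.hx)) T.hx.1
  set lh : T.S.HN := ⟨l, T.S.L_HN hl⟩ with hlh
  set xh : T.S.HN := ⟨T.x, hxH⟩
  have hu3 : T.B.matHom xh ^ 3 = 1 := by
    rw [← map_pow, show xh ^ 3 = 1 from Subtype.ext T.D'.z_cube, map_one]
  have hu1 : T.B.matHom xh ≠ 1 := fun e => (T.h.diag T.B T.hx).1
    (T.B.k1_eq _ (by simpa [zp_zero] using (T.B.matHom_eq_one.1 e).2))
  have hn4 : T.B.matHom lh ^ 4 = 1 := by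
    rw [← map_pow, show lh ^ 4 = 1 from Subtype.ext (T.S.L_four hl), map_one]
  refine T.mem_zt ((n_facts.2.2.2 _ _ hu3 hu1 hn4
    ((show Commute lh xh from Subtype.ext h).map T.B.matHom).eq).imp (fun e => ?_) fun e => ?_)
  · exact T.S.L_inj T.B hl T.S.L.one_mem (e.trans (map_one T.B.matHom).symm)
  · exact T.S.L_inj T.B hl T.S.t_mem_L (e.trans (T.B.matHom_t T.ta).symm)

/-- An element of the third kind has no fixed points. -/
theorem n_fix (h3 : T.IsThree) (hN : T.NCond) {w : V4} (hw1 : w.2.1 = 0) (hw : nrm w = 2) {r : G}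
    (hr : r ∈ T.Rt) (h : Commute r (T.cv w)) : r ∈ zpowers T.S.t := by
  obtain ⟨hb, hcard⟩ := Rt_block h3 hN
  obtain ⟨k, hk, hkt⟩ := exists_k h3
  have hkH := T.H4_of_act hkt hk (ptsA_closed kM (by simp [gensT]))
  have hzN := T.H4_norm_Rt (T.A_le_H4 (T.h.z_mem_J T.B T.hx) T.S.t_z.symm)
  have haN := T.H4_norm_Rt (T.Q2_le_H4 T.B.ha2)
  have hwN := T.H4_norm_Rt (T.A_le_H4 (T.cv_mem w) (mem_centralizer_singleton_iff.1 (T.cv_Apl hw1).2))
  have hR3 : (Nat.card T.Rt).Coprime 3 := by rw [hcard]; norm_num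
  have hcvf : ∀ v : V4, T.cv v = zp D.z (T.ε * v.1) * zp T.B.a1 v.2.1 * zp T.B.a2 v.2.2.1 * zp T.x v.2.2.2 :=
    fun v => rfl
  have hwe : ∀ v : V4, v.2.1 = 0 → T.cv v = zp D.z (T.ε * v.1) * zp T.B.a2 v.2.2.1 * zp T.x v.2.2.2 := fun v hv => by
    rw [hcvf, hv, zp_zero, mul_one]
  -- fixed points centralising the centre
  have hzc : ∀ v : V4, v.2.1 = 0 → nrm v = 2 → ∀ u ∈ T.Rt, Commute u D.z → Commute u (T.cv v) →
      u ∈ zpowers T.S.t := by
    intro v hv1 hv u hu huz huv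
    have hl := Rt_z h3 hN hu huz
    have hua : Commute u T.B.a2 := ((T.S.mem_L.1 hl).2 _ T.B.ha2).symm
    refine T.fix_x_L hl ?_
    rw [hwe v hv1] at huv
    have h1 := ((((zp_comm huz.symm (T.ε * v.1)).symm).mul_right
      ((zp_comm hua.symm v.2.2.1).symm)).inv_right).mul_right huv
    rw [inv_mul_cancel_left] at h1
    have h2 := h1.pow_right (v.2.2.2⁻¹).val
    rwa [show zp T.x v.2.2.2 ^ (v.2.2.2⁻¹).val = zp (zp T.x v.2.2.2) v.2.2.2⁻¹ from rfl, zp_zp T.D'.z_cube,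
      mul_inv_cancel₀ (n_facts.1 v hv1 hv).2, zp_one] at h2
  refine gen_le h3 (U := T.Rt ⊓ centralizer ({T.cv w} : Set G)) (hR3.coprime_dvd_left (card_dvd_of_le inf_le_left))
    ?_ ?_ (fun u hu huz => hzc w hw1 hw u hu.1 huz (mem_centralizer_singleton_iff.1 hu.2))
    (fun j q hq hqa u hu hua => ?_) ⟨hr, mem_centralizer_singleton_iff.2 h⟩
  all_goals try
    refine mem_normalizer_of_conj_mem fun u hu => ⟨?_, mem_centralizer_singleton_iff.2 ?_⟩
  · exact (mem_normalizer_iff.1 hzN u).1 hu.1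
  · have hzw : Commute D.z (T.cv w) :=
      (T.h.comm_P T.B T.hx (T.h.J_le_P T.B T.hx (T.cv_mem w)) (T.h.z_mem_J T.B T.hx)).symm
    exact ((hzw.mul_left (mem_centralizer_singleton_iff.1 hu.2)).mul_left hzw.inv_left)
  · exact (mem_normalizer_iff.1 haN u).1 hu.1
  · have haw : Commute T.B.a2 (T.cv w) := T.cv_a2 ▸ T.cv_comm _ w
    exact ((haw.mul_left (mem_centralizer_singleton_iff.1 hu.2)).mul_left haw.inv_left)
  -- fixed points centralising the second line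
  obtain ⟨hqQ, hqt⟩ := D.mem_fixC.1 hq
  have hqN := T.H4_norm_Rt (T.Q2_le_H4 hq)
  obtain ⟨v, hv⟩ : ∃ v, app (uM 0 (-j)) w = v := ⟨_, rfl⟩
  have hqv : q⁻¹ * T.cv w * q = T.cv v := by
    conv_lhs => rw [← n_facts.2.2.1 j w, hv, ← hqa.eq]
    group
  obtain ⟨hv1, hv2⟩ := n_facts.2.1 w (-j) hw1 hw
  rw [hv] at hv1 hv2
  obtain ⟨u', hu'⟩ : ∃ u', q⁻¹ * u * q = u' := ⟨_, rfl⟩
  rw [hu'] at hua
  have hu'R : u' ∈ T.Rt := by
    rw [← hu']
    simpa using (mem_normalizer_iff.1 (inv_mem hqN) u).1 hu.1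
  have hu'v : Commute u' (T.cv v) := by
    rw [← hu', ← hqv]
    simpa [mul_assoc] using Commute.map (show Commute u (T.cv w) from mem_centralizer_singleton_iff.1 hu.2)
      (MulAut.conj q⁻¹).toMonoidHom
  suffices hres : u' ∈ zpowers T.S.t by
    rw [show u = q * u' * q⁻¹ by rw [← hu']; group]
    obtain ⟨i, rfl⟩ := mem_zpowers_iff.1 hres
    rw [(hqt.zpow_right i).eq, mul_inv_cancel_right]
    exact zpow_mem (mem_zpowers _) i
  have hLL := fix_a2_le h3 hN hk hkt hR3 (fun s hs => (hb.comm s hs).symm) hzN hu'R hua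
  have hLk : ∀ a ∈ T.S.L, ∀ b ∈ T.Lc k, Commute a b := fun a ha b hb' => by
    obtain ⟨m, hm, rfl⟩ := hb'
    exact commute_L_k h3 hN hk hkt ha hm
  have hnLk : T.S.L ⊔ T.Lc k ≤ T.Rt := T.Lk_le hkH
  rw [← SetLike.mem_coe, coe_mul_of_left_le_normalizer_right (T.S.L) (T.Lc k) ?hle] at hLL
  case hle =>
    exact fun a ha => mem_normalizer_of_conj_mem fun b hb' => by
      rwa [(hLk a ha b hb').eq, mul_inv_cancel_right]
  obtain ⟨l, hl, m, hm, rfl⟩ := hLL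
  have hmR : m ∈ T.Rt := T.Lc_le hkH hm
  have hmx : Commute m T.x := by
    obtain ⟨n, hn, rfl⟩ := hm
    have hkx : k * T.cv (1, 0, 0, 0) * k⁻¹ = T.x := by rw [hk.eq, q0_facts.2, T.cv_x]
    rw [← hkx, T.cv_z]
    have := ((zp_comm (T.S.L_z hn).symm T.ε).symm).map (MulAut.conj k).toMonoidHom
    simpa [mul_assoc] using this
  have hma : Commute m T.B.a2 := (T.comp_commute hk hkt (mem_sup_right hm)).1
  have hla : Commute l T.B.a2 := ((T.S.mem_L.1 hl).2 _ T.B.ha2).symm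
  have hlz : Commute l D.z := T.S.L_z hl
  set A := zp D.z (T.ε * v.1)
  set C := zp T.x v.2.2.2
  obtain ⟨_, hCt⟩ : True ∧ Commute C T.S.t := ⟨trivial, zp_comm T.tx.symm _⟩
  have hCz : Commute C D.z := zp_comm T.hx.1 _
  have hlC : C * l * C⁻¹ ∈ T.S.L := T.S.conj_L hCz hCt hl
  have hmA : A * m * A⁻¹ ∈ T.Lc k := by
    obtain ⟨n, hn, rfl⟩ := hm
    have hAJ : A ∈ T.J := zp_mem (T.h.z_mem_J T.B T.hx) _
    have hkA : k⁻¹ * A * k ∈ T.J := by simpa using (mem_normalizer_iff.1 (inv_mem hk.norm) A).1 hAJ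
    have hzA : Commute (k⁻¹ * A * k) D.z :=
      T.h.comm_P T.B T.hx (T.h.J_le_P T.B T.hx hkA) (T.h.z_mem_J T.B T.hx)
    have htA : Commute (k⁻¹ * A * k) T.S.t := (hkt.inv_left.mul_left (zp_comm T.S.t_z.symm _)).mul_left hkt
    refine ⟨_, T.S.conj_L hzA htA hn, ?_⟩
    simp [mul_assoc]
  rw [hwe v hv1] at hu'v
  have e1 : (C * l * C⁻¹) * (A * m * A⁻¹) = l * m := by
    have hA' : Commute l A := (zp_comm hlz.symm _).symm
    have hC' : Commute m C := (zp_comm hmx.symm _).symm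
    have hB' : Commute (l * m) (zp T.B.a2 v.2.2.1) := (zp_comm (hla.mul_left hma).symm _).symm
    have hAB : Commute A (zp T.B.a2 v.2.2.1) := (zp_comm (zp_comm (D.comm_z _ T.B.ha2.1).symm _).symm _).symm
    have hAC' : Commute A C := zp_comm ((zp_comm (T.hx.1) _).symm) _
    have h1 : Commute (l * m) (A * C) := by
      have h2 := hu'v.mul_right hB'.inv_right
      rwa [show A * zp T.B.a2 v.2.2.1 * C * (zp T.B.a2 v.2.2.1)⁻¹ = A * C by
        rw [mul_assoc A, (zp_comm (zp_comm (T.cv_a2 ▸ T.cv_x ▸ T.cv_comm (0, 0, 1, 0) (0, 0, 0, 1)) v.2.2.1).symm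
          v.2.2.2).symm.eq]
        group; rfl] at h2
    have h3' : (A * C) * (l * m) * (A * C)⁻¹ = l * m := by rw [← h1.eq, mul_inv_cancel_right]
    rw [← h3']
    calc C * l * C⁻¹ * (A * m * A⁻¹) = (C * (A * l * A⁻¹) * C⁻¹) * (A * (C * m * C⁻¹) * A⁻¹) := by
          rw [← hA'.eq, mul_inv_cancel_right, ← hC'.eq, mul_inv_cancel_right]
      _ = ((C * A) * l * (C * A)⁻¹) * ((A * C) * m * (A * C)⁻¹) := by group
      _ = (A * C) * (l * m) * (A * C)⁻¹ := by rw [← hAC'.eq]; group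
  have e2 : l⁻¹ * (C * l * C⁻¹) = m * (A * m * A⁻¹)⁻¹ := by
    rw [eq_mul_inv_iff_mul_eq, mul_assoc, e1, inv_mul_cancel_left]
  obtain ⟨a, ha⟩ : ∃ a, l⁻¹ * (C * l * C⁻¹) = a := ⟨_, rfl⟩
  have haL : a ∈ T.S.L := ha ▸ T.S.L.mul_mem (T.S.L.inv_mem hl) hlC
  have haK : a ∈ T.Lc k := by rw [← ha, e2]; exact (T.Lc k).mul_mem hm ((T.Lc k).inv_mem hmA)
  have hC3 : C ^ 3 = 1 := by rw [show C = T.x ^ v.2.2.2.val from rfl, ← pow_mul, mul_comm, pow_mul, T.D'.z_cube, one_pow]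
  have ha1 : a = 1 := by
    rcases T.block_L.cen a haL (fun b hb' => (hLk b hb' a haK).symm) with h | h
    · exact h
    exfalso
    have hCl : C * l * C⁻¹ = l * T.S.t := by rw [← h, ← ha, mul_inv_cancel_left]
    have hCt' : ∀ b, C * (b * T.S.t) * C⁻¹ = C * b * C⁻¹ * T.S.t := fun b => by
      rw [show C * (b * T.S.t) * C⁻¹ = C * b * C⁻¹ * (C * T.S.t * C⁻¹) by group, hCt.eq, mul_inv_cancel_right]
    have := (calc l = C ^ 3 * l * (C ^ 3)⁻¹ := by rw [hC3]; group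
      _ = C * (C * (C * l * C⁻¹) * C⁻¹) * C⁻¹ := by rw [pow_succ, pow_two]; group
      _ = l * (T.S.t * T.S.t) * T.S.t := by rw [hCl, hCt', hCl, hCt', hCt', hCl]; group
      _ = l * T.S.t := by rw [T.S.t_sq, mul_one])
    exact T.t_ne (left_eq_mul.1 this)
  rw [ha1] at ha
  have hl' : l ∈ zpowers T.S.t := by
    refine T.fix_x_L hl ?_
    have hlC' : Commute l C := (mul_inv_eq_iff_eq_mul.1 (inv_mul_eq_one.1 ha).symm).symm
    have := hlC'.pow_right (v.2.2.2⁻¹).val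
    rwa [show C ^ (v.2.2.2⁻¹).val = zp (zp T.x v.2.2.2) v.2.2.2⁻¹ from rfl, zp_zp T.D'.z_cube,
      mul_inv_cancel₀ (n_facts.1 v hv1 hv2).2, zp_one] at this
  refine mul_mem hl' ?_
  have hmA' : Commute m A := by
    rw [ha, eq_comm, mul_inv_eq_one] at e2
    exact (mul_inv_eq_iff_eq_mul.1 e2.symm).symm
  have hmL := Rt_z h3 hN hmR (commute_zp_z (mul_ne_zero T.ε_ne (n_facts.1 v hv1 hv2).1) hmA')
  exact T.mem_zt (T.block_L.cen m hmL fun b hb' => (hLk b hb' m hm).symm)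

/-- The elements of order three of the Sylow subgroup outside the second half lie in the plane. -/
theorem apl_of_cube (T : Setting D) {u : G} (hu : u ∈ T.S.Q2) {i : ℕ} (h : (u * T.x ^ i) ^ 3 = 1)
    (hi : T.x ^ i ≠ 1) : ∃ v : V4, v.2.1 = 0 ∧ T.cv v = u * T.x ^ i := by
  obtain ⟨hxJ, hxt⟩ : T.x ∈ T.J ∧ Commute T.x T.S.t := ⟨T.h.x_mem_J T.B T.hx, T.tx.symm⟩
  obtain ⟨X, hX⟩ : ∃ X, T.x ^ i = X := ⟨_, rfl⟩
  rw [hX] at h hi ⊢
  have hXJ : X ∈ T.J := hX ▸ pow_mem hxJ i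
  have hXz : Commute X D.z := hX ▸ T.hx.1.pow_left i
  have hXt : Commute X T.S.t := hX ▸ hxt.pow_left i
  have hXa : Commute X T.B.a2 := T.h.comm_P T.B T.hx (T.h.J_le_P T.B T.hx hXJ) (T.cv_a2 ▸ T.cv_mem _)
  have hX3 : X ^ 3 = 1 := by rw [← hX, ← pow_mul, mul_comm, pow_mul, T.D'.z_cube, one_pow]
  obtain ⟨huQ, hut⟩ := D.mem_fixC.1 hu
  obtain ⟨k, a, j, he⟩ : ∃ k a j : ZMod 3, u = zp D.z k * zp T.B.a2 a * zp T.B.b2 j := by
    obtain ⟨w, hw, a, j, e⟩ := T.B.swap.normal_form (show u ∈ T.S.swap.Q1 from hu)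
    obtain ⟨k, rfl⟩ := D.exists_zp hw
    exact ⟨k, a, j, e⟩
  by_cases hj : j = 0
  · have hw : u * X ∈ T.J := by
      rw [he, hj, zp_zero, mul_one]
      exact mul_mem (mul_mem (zp_mem (T.h.z_mem_J T.B T.hx) k) (zp_mem (T.cv_a2 ▸ T.cv_mem _) a)) hXJ
    obtain ⟨v, hv⟩ := T.exists_cv hw
    exact ⟨v, T.cv_fixed (hv ▸ hut.mul_left hXt), hv⟩
  exfalso
  obtain ⟨d, hd⟩ : ∃ d, X * u * X⁻¹ * u⁻¹ = d := ⟨_, rfl⟩
  have hXu : X * u * X⁻¹ ∈ T.S.Q2 :=
    D.mem_fixC.2 ⟨D.norm_Q X hXz u huQ, (hXt.mul_left hut).mul_left hXt.inv_left⟩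
  have hd2 : d ∈ T.S.Q2 := hd ▸ T.S.Q2.mul_mem hXu (T.S.Q2.inv_mem hu)
  have hda : Commute d T.B.a2 := by
    refine commutatorElement_eq_one_iff_commute.1 ?_
    have h1 := D.form_mul_left hXu.1 (D.Q.inv_mem huQ) T.B.ha2.1
    have h2 := D.form_mul_left huQ (D.Q.inv_mem huQ) T.B.ha2.1
    rw [mul_inv_cancel, commutatorElement_one_left] at h2
    have h3 : ⁅X * u * X⁻¹, T.B.a2⁆ = X * ⁅u, T.B.a2⁆ * X⁻¹ := by
      conv_lhs => rw [show T.B.a2 = X * T.B.a2 * X⁻¹ by rw [hXa.eq, mul_inv_cancel_right]]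
      simp only [commutatorElement_def]; group
    rw [h3, (D.comm_Zc hXz (D.comm_form huQ T.B.ha2.1)).eq, mul_inv_cancel_right] at h1
    rw [← hd, h1, h2]
  have hdZ : d ∉ D.Zc := by
    intro hdz
    have hsub : ∀ q, q = T.B.a2 ∨ q = u → q ∈ D.fixMod X hXz := by
      rintro q (rfl | rfl)
      · exact ⟨T.B.ha2.1, by rw [commutatorElement_eq_one_iff_commute.2 hXa]; exact D.Zc.one_mem⟩
      · exact ⟨huQ, by rw [commutatorElement_def, hd]; exact hdz⟩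
    have hzm : D.z ∈ D.fixMod X hXz :=
      ⟨D.z_mem, by rw [commutatorElement_eq_one_iff_commute.2 hXz]; exact D.Zc.one_mem⟩
    have hbj : zp T.B.b2 j ∈ D.fixMod X hXz := by
      rw [show zp T.B.b2 j = (zp D.z k * zp T.B.a2 a)⁻¹ * u by rw [he]; group]
      exact mul_mem (inv_mem (mul_mem (zp_mem hzm k) (zp_mem (hsub _ (Or.inl rfl)) a))) (hsub _ (Or.inr rfl))
    have hb : T.B.b2 ∈ D.fixMod X hXz := by
      have := zp_mem hbj j⁻¹
      rwa [zp_zp (T.S.exp_two T.B.hb2), mul_inv_cancel₀ hj, zp_one] at this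
    have hXH : X ∈ T.S.HN := T.HN_of_tz hXt hXz
    have h1 : T.B.matHom2 ⟨X, hXH⟩ = 1 := T.B.matHom2_eq_one.2 ⟨(hsub _ (Or.inl rfl)).2, hb.2⟩
    have hxH : T.x ∈ T.S.HN := T.HN_of_Ca (T.J_le_Ca hxJ) T.hx.1
    have h2 : T.B.matHom2 ⟨T.x, hxH⟩ ^ i = 1 := by
      rw [← map_pow, show (⟨T.x, hxH⟩ : T.S.HN) ^ i = ⟨X, hXH⟩ from Subtype.ext hX, h1]
    refine hi (hX ▸ orderOf_dvd_iff_pow_eq_one.1 ?_)
    have h3 : T.B.matHom2 ⟨T.x, hxH⟩ ^ 3 = 1 := by
      rw [← map_pow, show (⟨T.x, hxH⟩ : T.S.HN) ^ 3 = 1 from Subtype.ext T.D'.z_cube, map_one]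
    haveI : Fact (Nat.Prime 3) := ⟨Nat.prime_three⟩
    rw [T.D'.hz, ← orderOf_eq_prime h3 mat2_x]
    exact orderOf_dvd_of_pow_eq_one h2
  have hdu : ¬ Commute u d := by
    intro hc
    refine hdZ (T.S.swap.center_one hd2 fun q hq => ?_)
    obtain ⟨w, hw, i', j', rfl⟩ := T.B.swap.normal_form hq
    have hdz : Commute d w := D.comm_Q_Zc hd2.1 hw
    have hdb : Commute d T.B.b2 := by
      have h1 : Commute d (zp T.B.b2 j) := by
        rw [show zp T.B.b2 j = (zp D.z k * zp T.B.a2 a)⁻¹ * u by rw [he]; group]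
        exact ((((zp_comm (D.comm_z _ hd2.1).symm k).symm).mul_right ((zp_comm hda.symm a).symm)).inv_right).mul_right
          hc.symm
      have := h1.pow_right (j⁻¹).val
      rwa [show zp T.B.b2 j ^ (j⁻¹).val = zp (zp T.B.b2 j) j⁻¹ from rfl, zp_zp (T.S.exp_two T.B.hb2),
        mul_inv_cancel₀ hj, zp_one] at this
    exact ((hdz.mul_right (zp_comm hda.symm i').symm).mul_right (zp_comm hdb.symm j').symm).eq
  have hdJ : d ∈ T.J := by
    obtain ⟨w, hw, a', j', e⟩ := T.B.swap.normal_form (show d ∈ T.S.swap.Q1 from hd2)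
    have h1 : ⁅d, T.B.a2⁆ = zp D.z j' := by rw [e]; exact T.B.swap.form_nf hw a' j'
    rw [commutatorElement_eq_one_iff_commute.2 hda] at h1
    rw [e, zp_eq_one D.hz h1.symm, zp_zero, mul_one]
    exact mul_mem (zpowers_le.2 (T.h.z_mem_J T.B T.hx) hw)
      (zp_mem (show T.B.a2 ∈ T.J from T.cv_a2 ▸ T.cv_mem _) a')
  have hXd : Commute X d := T.h.comm_P T.B T.hx (T.h.J_le_P T.B T.hx hXJ) hdJ
  obtain ⟨ω, hω⟩ : ∃ ω, u * d * u⁻¹ * d⁻¹ = ω := ⟨_, rfl⟩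
  have hωZ : ω ∈ D.Zc := by
    rw [← hω, ← commutatorElement_def]; exact D.comm_form huQ hd2.1
  have hω3 := D.cube_Zc hωZ
  have hωu : Commute ω u := (D.comm_Q_Zc huQ hωZ).symm
  have hωd : Commute ω d := (D.comm_Q_Zc hd2.1 hωZ).symm
  have hud : u * d = ω * (d * u) := by rw [← hω]; group
  have hud' : ∀ y, u * (d * y) = ω * (d * (u * y)) := fun y => by rw [← mul_assoc, hud]; simp only [mul_assoc]
  have huω : ∀ y, u * (ω * y) = ω * (u * y) := fun y => by rw [← mul_assoc, ← hωu.eq, mul_assoc]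
  have hdω : ∀ y, d * (ω * y) = ω * (d * y) := fun y => by rw [← mul_assoc, ← hωd.eq, mul_assoc]
  have hXu1 : X * u * X⁻¹ = d * u := by rw [← hd]; group
  have hXu2 : X * X * u * (X * X)⁻¹ = d * (d * u) := by
    rw [show X * X * u * (X * X)⁻¹ = X * (X * u * X⁻¹) * X⁻¹ by group, hXu1,
      show X * (d * u) * X⁻¹ = (X * d * X⁻¹) * (X * u * X⁻¹) by group, hXu1, hXd.eq, mul_inv_cancel_right]
  have hprod : (u * X) ^ 3 = ω * ω := by
    have e : (u * X) ^ 3 = u * (X * u * X⁻¹) * (X * X * u * (X * X)⁻¹) * X ^ 3 := by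
      simp only [pow_succ, pow_zero, one_mul]; group
    rw [e, hXu1, hXu2, hX3, mul_one]
    have e2 : u * (d * u) * (d * (d * u)) = ω * (ω * (ω * (ω * (ω * (d * (d * (d * (u * (u * u))))))))) := by
      simp only [mul_assoc, hud', huω, hdω]
    have hd3 : d * (d * d) = 1 := by rw [← pow_three]; exact T.S.exp_two hd2
    have hu3 : u * (u * u) = 1 := by rw [← pow_three]; exact T.S.exp_two hu
    rw [e2, hu3, mul_one, hd3, mul_one]
    calc ω * (ω * (ω * (ω * ω))) = ω ^ 3 * (ω * ω) := by rw [pow_three]; group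
      _ = ω * ω := by rw [hω3, one_mul]
  rw [h] at hprod
  refine hdu ?_
  have : ω = 1 := eq_one_of_sq_cube hprod.symm hω3
  rw [this, one_mul] at hud
  exact hud

/-- An element of order three is conjugate into the plane. -/
theorem exists_apl (h3 : T.IsThree) (hN : T.NCond) {y : G} (hy : y ∈ T.Nr) (ho : orderOf y = 3) :
    ∃ n ∈ T.Nr, ∃ v : V4, v ≠ 0 ∧ v.2.1 = 0 ∧ n * y * n⁻¹ = T.cv v := by
  classical
  haveI : Fact (Nat.Prime 3) := ⟨Nat.prime_three⟩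
  have hxz : T.x ∈ normalizer (T.S.Q2 : Set G) := mem_normalizer_of_conj_mem fun q hq => by
    obtain ⟨hqQ, hqt⟩ := D.mem_fixC.1 hq
    exact D.mem_fixC.2 ⟨D.norm_Q _ T.hx.1 q hqQ, (T.tx.symm.mul_left hqt).mul_left T.tx.symm.inv_left⟩
  have hle : T.S.Q2 ⊔ zpowers T.x ≤ T.Nr := sup_le (fun q hq => T.H4_le_Nr (T.Q2_le_H4 hq))
    (zpowers_le.2 (T.H4_le_Nr (T.A_le_H4 (T.h.x_mem_J T.B T.hx) T.tx.symm)))
  set P := (T.S.Q2 ⊔ zpowers T.x).subgroupOf T.Nr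
  have hxQ : T.x ∉ T.S.Q2 := fun h => T.h.notin h.1
  have hP81 : Nat.card P = 81 := by
    rw [Nat.card_congr (subgroupOfEquivOfLe hle).toEquiv]
    have h1 : Nat.card (T.S.Q2 ⊔ zpowers T.x : Subgroup G) ≤ 81 := by
      let f : T.S.Q2 × zpowers T.x → (T.S.Q2 ⊔ zpowers T.x : Subgroup G) := fun p =>
        ⟨p.1 * p.2, mul_mem (mem_sup_left p.1.2) (mem_sup_right p.2.2)⟩
      have hf : Function.Surjective f := by
        rintro ⟨w, hw⟩
        rw [← SetLike.mem_coe, coe_mul_of_right_le_normalizer_left _ _ (zpowers_le.2 hxz)] at hw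
        obtain ⟨a, ha, b, hb, e⟩ := hw
        exact ⟨(⟨a, ha⟩, ⟨b, hb⟩), Subtype.ext e⟩
      have := Nat.card_le_card_of_surjective f hf
      rwa [Nat.card_prod, T.S.card₂, Nat.card_zpowers, T.D'.hz] at this
    refine le_antisymm h1 ?_
    let f : T.S.Q2 × zpowers T.x → (T.S.Q2 ⊔ zpowers T.x : Subgroup G) := fun p =>
      ⟨p.1 * p.2, mul_mem (mem_sup_left p.1.2) (mem_sup_right p.2.2)⟩
    have hf : Function.Injective f := fun p p' e => by
      have e' : (p.1 : G) * p.2 = p'.1 * p'.2 := congrArg Subtype.val e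
      have h2 : (p'.1 : G)⁻¹ * p.1 = p'.2 * (p.2 : G)⁻¹ := by
        rw [eq_mul_inv_iff_mul_eq, mul_assoc, e', inv_mul_cancel_left]
      have h3' : (p'.2 : G) * (p.2 : G)⁻¹ = 1 := by
        by_contra hne
        have hm := (zpowers T.x).mul_mem p'.2.2 ((zpowers T.x).inv_mem p.2.2)
        obtain ⟨k, hk⟩ := mem_powers_iff_mem_zpowers.2 hm
        refine hxQ ?_
        have hk3 : (k : ZMod 3) ≠ 0 := fun h0 => hne (by
          rw [← hk]
          show T.x ^ k = 1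
          obtain ⟨c, rfl⟩ := (ZMod.natCast_eq_zero_iff k 3).1 h0
          rw [pow_mul, T.D'.z_cube, one_pow])
        have hmQ : zp T.x (k : ZMod 3) ∈ T.S.Q2 := by
          rw [show zp T.x (k : ZMod 3) = T.x ^ k by
            rw [zp, ZMod.val_natCast]; exact (pow_eq_pow_mod k T.D'.z_cube).symm,
            show T.x ^ k = (p'.2 : G) * (p.2 : G)⁻¹ from hk, ← h2]
          exact T.S.Q2.mul_mem (T.S.Q2.inv_mem p'.1.2) p.1.2
        have := zp_mem hmQ (k : ZMod 3)⁻¹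
        rwa [zp_zp T.D'.z_cube, mul_inv_cancel₀ hk3, zp_one] at this
      have e2 : p'.2 = p.2 := Subtype.ext (mul_inv_eq_one.1 h3')
      refine Prod.ext (Subtype.ext ?_) e2.symm
      rw [h3', inv_mul_eq_one] at h2
      exact h2.symm
    have := Nat.card_le_card_of_injective f hf
    rwa [Nat.card_prod, T.S.card₂, Nat.card_zpowers, T.D'.hz] at this
  have hPp : IsPGroup 3 P := IsPGroup.of_card (n := 4) (by rw [hP81]; norm_num)
  have hno : ¬ 3 ^ 5 ∣ Nat.card T.Nr := by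
    intro h
    have hcard : Nat.card T.Nr = Nat.card T.Yq * Nat.card T.Rt := by
      rw [Subgroup.card_eq_card_quotient_mul_card_subgroup T.Rn,
        Nat.card_congr (subgroupOfEquivOfLe (show T.Rt ≤ T.Nr from fun r hr =>
          T.mem_Nr.2 ⟨((Rt_block h3 hN).1.comm r hr).symm, le_normalizer hr⟩)).toEquiv]
    rw [hcard, (Rt_block h3 hN).2] at h
    have h5 := (Nat.Coprime.pow 5 9 (by norm_num : Nat.Coprime 3 2)).dvd_of_dvd_mul_right h
    obtain ⟨Y, -⟩ := exists_quot_data h3 hN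
    obtain ⟨S, -, -⟩ := Cfsg.Lib.PSpThree.Setting.exists_case Y
    obtain ⟨Q, hQ⟩ := Cfsg.Lib.PSpThree.Frame.exists_sylow S.F
    have := Nat.le_of_dvd Nat.card_pos (Q.pow_dvd_card_of_pow_dvd_card h5)
    rw [hQ, Cfsg.Lib.PSpThree.Frame.card_P] at this
    norm_num at this
  obtain ⟨S, hS⟩ := hPp.exists_le_sylow
  have hSP : P = S := by
    refine eq_of_le_of_card_ge hS ?_
    obtain ⟨n, hn⟩ := S.2.exists_card_eq
    have hn5 : n ≤ 4 := by
      by_contra hgt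
      exact hno ((pow_dvd_pow 3 (show 5 ≤ n by omega)).trans (hn ▸ card_subgroup_dvd_card _))
    rw [hn, hP81]
    exact le_trans (Nat.pow_le_pow_right (by norm_num) hn5) (by norm_num)
  obtain ⟨S', hS'⟩ := (IsPGroup.of_card (n := 1) (G := zpowers (⟨y, hy⟩ : T.Nr))
    (by rw [Nat.card_zpowers, ← Subgroup.orderOf_coe, ho, pow_one])).exists_le_sylow
  obtain ⟨n, hn⟩ := MulAction.exists_smul_eq T.Nr S' S
  have hmem : (n : G) * y * (n : G)⁻¹ ∈ T.S.Q2 ⊔ zpowers T.x := by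
    have h1 : n * ⟨y, hy⟩ * n⁻¹ ∈ (S : Subgroup T.Nr) := by
      rw [← hn]
      exact ⟨_, hS' (mem_zpowers _), by simp [MulAut.conj_apply]⟩
    rw [← hSP] at h1
    exact mem_subgroupOf.1 h1
  obtain ⟨w, hw⟩ : ∃ w, (n : G) * y * (n : G)⁻¹ = w := ⟨_, rfl⟩
  have hw3 : w ^ 3 = 1 := by rw [← hw, conj_pow, ← ho, pow_orderOf_eq_one]; group
  have hw1 : w ≠ 1 := fun e => by
    rw [← hw, mul_inv_eq_one, mul_eq_left] at e
    simp [e] at ho
  rw [hw, ← SetLike.mem_coe, coe_mul_of_right_le_normalizer_left _ _ (zpowers_le.2 hxz)] at hmem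
  obtain ⟨u, hu, b, hb, e⟩ := hmem
  obtain ⟨i, rfl⟩ := mem_powers_iff_mem_zpowers.2 hb
  change u * T.x ^ i = w at e
  suffices hgoal : ∃ l ∈ T.Nr, ∃ v : V4, v.2.1 = 0 ∧ l * w * l⁻¹ = T.cv v by
    obtain ⟨l, hl, v, hv, el⟩ := hgoal
    refine ⟨l * n, mul_mem hl n.2, v, fun h0 => hw1 ?_, hv, by rw [← el, ← hw]; group⟩
    rw [h0, T.cv_zero, mul_inv_eq_one, mul_eq_left] at el
    exact el
  by_cases hi : T.x ^ i = 1
  · rw [hi, mul_one] at e
    subst e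
    by_cases huZ : u ∈ D.Zc
    · obtain ⟨k, rfl⟩ := D.exists_zp huZ
      refine ⟨1, one_mem _, (T.ε⁻¹ * k, 0, 0, 0), rfl, ?_⟩
      rw [T.cv_el, ← mul_assoc, mul_inv_cancel₀ T.ε_ne, one_mul, Basis.el, zp_zero, zp_zero, mul_one, mul_one]
      group
    have hu' : u ∈ T.S.swap.Q1 := hu
    obtain ⟨c, hc, ec⟩ := T.B.swap.nf_coords hu'
    obtain ⟨m, hm, hm1, hm2⟩ := trans_facts.1 (T.B.swap.ci u) (T.B.swap.cj u) (by
      by_contra hcon
      push Not at hcon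
      rw [hcon.1, hcon.2, zp_zero, zp_zero, mul_one, mul_one] at ec
      exact huZ (ec ▸ hc))
    obtain ⟨l, hl, el⟩ := T.B.swap.exists_L hm
    have hlH := T.S.swap.L_HN hl
    obtain ⟨c1, c2⟩ := T.B.swap.conj_coords hlH hu'
    obtain ⟨c', hc', ec'⟩ := T.B.swap.nf_coords (T.S.swap.conj_Q1 hlH hu')
    rw [c1, c2] at ec'
    have ee : ∀ r s, (T.B.swap.matHom ⟨l, hlH⟩).1 r s = m.1 r s := fun r s => by rw [el]
    rw [show T.B.swap.ci (l * T.B.swap.a1 * l⁻¹) = m.1 0 0 from ee 0 0,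
      show T.B.swap.ci (l * T.B.swap.b1 * l⁻¹) = m.1 0 1 from ee 0 1,
      show T.B.swap.cj (l * T.B.swap.a1 * l⁻¹) = m.1 1 0 from ee 1 0,
      show T.B.swap.cj (l * T.B.swap.b1 * l⁻¹) = m.1 1 1 from ee 1 1, hm1, hm2, zp_one, zp_zero, mul_one] at ec'
    obtain ⟨k, rfl⟩ := D.exists_zp hc'
    refine ⟨l, swapL_Nr h3 hN hl, (T.ε⁻¹ * k, 0, 1, 0), rfl, ?_⟩
    rw [T.cv_el, ← mul_assoc, mul_inv_cancel₀ T.ε_ne, one_mul, Basis.el, zp_zero, mul_one, zp_one]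
    exact ec'
  · obtain ⟨v, hv1, hv⟩ := T.apl_of_cube hu (e ▸ hw3) hi
    exact ⟨1, one_mem _, v, hv1, by rw [hv, e]; group⟩

/-- An element of order three with a fixed point outside the centre is centralised only inside the normaliser. -/
theorem cent_three (h3 : T.IsThree) (hN : T.NCond) {y : G} (hy : y ∈ T.Nr) (ho : orderOf y = 3) {r : G}
    (hr : r ∈ T.Rt) (hrt : r ∉ zpowers T.S.t) (hyr : Commute y r) {g : G} (hgt : Commute g T.S.t)
    (hgy : Commute g y) : g ∈ normalizer (T.Rt : Set G) := by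
  obtain ⟨n, hn, v, hv0, hv1, e⟩ := exists_apl h3 hN hy ho
  obtain ⟨hnt, hnR⟩ := T.mem_Nr.1 hn
  suffices ∀ g, Commute g T.S.t → Commute g (T.cv v) → g ∈ normalizer (T.Rt : Set G) by
    have h1 := this (n * g * n⁻¹) ((hnt.mul_left hgt).mul_left hnt.inv_left)
      (e ▸ by simpa [mul_assoc] using hgy.map (MulAut.conj n).toMonoidHom)
    have := mul_mem (mul_mem (inv_mem hnR) h1) hnR
    rwa [show n⁻¹ * (n * g * n⁻¹) * n = g by group] at this
  have move : ∀ v0 v', ∀ h ∈ T.H4, h * T.cv v0 * h⁻¹ = T.cv v' →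
      (∀ g, Commute g T.S.t → Commute g (T.cv v0) → g ∈ normalizer (T.Rt : Set G)) →
      ∀ g, Commute g T.S.t → Commute g (T.cv v') → g ∈ normalizer (T.Rt : Set G) := by
    intro v0 v' h hh eh hbase g hgt hgv
    have hht := (T.mem_H4.1 hh).1
    have h1 := hbase (h⁻¹ * g * h) ((hht.inv_left.mul_left hgt).mul_left hht) (by
      rw [show T.cv v0 = h⁻¹ * T.cv v' * h by rw [← eh]; group]
      simpa [mul_assoc] using hgv.map (MulAut.conj h⁻¹).toMonoidHom)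
    have := mul_mem (mul_mem (T.H4_norm_Rt hh) h1) (inv_mem (T.H4_norm_Rt hh))
    rwa [show h * (h⁻¹ * g * h) * h⁻¹ = g by group] at this
  rcases (show ∀ c : ZMod 3, c = 0 ∨ c = 1 ∨ c = 2 by decide) (nrm v) with hv | hv | hv
  · obtain ⟨c, hc, hvc⟩ := nrm_facts.2.2 v hv0 hv1 hv
    obtain ⟨p, hp, rfl⟩ : ∃ p, p ∈ orb gensT (1, 0, 0, 0) 2 ∧ v = c • p := by
      rcases hvc with rfl | ⟨j, rfl⟩
      · exact ⟨_, by decide +kernel, rfl⟩
      · exact ⟨_, orb_pt j, rfl⟩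
    obtain ⟨h, hh, -, eh⟩ := exists_of_orb (gensT_H4 h3) (1, 0, 0, 0) 2 p hp
    refine move (c • (1, 0, 0, 0)) (c • p) h hh ?_ fun g hgt hgz => ?_
    · rw [T.cv_smul, T.cv_smul, ← eh]
      exact conj_pow.symm
    · rw [T.cv_smul, T.cv_z, zp_zp D.z_cube] at hgz
      exact cent_z_le h3 hN hgt (commute_zp_z (mul_ne_zero T.ε_ne hc) hgz)
  · obtain ⟨h, hh, -, eh⟩ := exists_of_orb (gensT_H4 h3) (0, 0, 1, 0) 3 v (orb_a v hv1 hv)
    refine move (0, 0, 1, 0) v h hh eh fun g hgt hga => cent_a2_le h3 hN hgt (T.cv_a2 ▸ hga)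
  · refine absurd ?_ hrt
    have hnr : n * r * n⁻¹ ∈ T.Rt := (mem_normalizer_iff.1 hnR r).1 hr
    have h1 := n_fix h3 hN hv1 hv hnr (e ▸ by simpa [mul_assoc] using hyr.symm.map (MulAut.conj n).toMonoidHom)
    obtain ⟨k, hk⟩ := mem_zpowers_iff.1 h1
    refine ⟨k, ?_⟩
    show T.S.t ^ k = r
    calc T.S.t ^ k = n⁻¹ * T.S.t ^ k * n := by rw [(hnt.inv_left.zpow_right k).eq, inv_mul_cancel_right]
      _ = r := by rw [hk]; group

end Setting

end Cfsg.Lib.U6Three
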