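import Cfsg.Agent.Lib.U6Three.Half

/-!
# Two fixed lines: the stabiliser and its map to a group of order nine
-/

set_option autoImplicit false
set_option linter.unusedSectionVars false
set_option linter.style.haveILetI false

namespace Cfsg.Lib.U6Three

open Subgroup
open scoped commutatorElement

/-- Powers with exponent in `ZMod 3`. -/
def zp {G : Type*} [Group G] (a : G) (k : ZMod 3) : G := a ^ k.val

theorem zp_add {G : Type*} [Group G] {a : G} (ha : a ^ 3 = 1) (k l : ZMod 3) : zp a (k + l) = zp a k * zp a l := by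
  rw [zp, zp, zp, ← pow_add]
  refine pow_eq_pow_iff_modEq.2 (Nat.ModEq.of_dvd (orderOf_dvd_of_pow_eq_one ha) ?_)
  rw [ZMod.val_add]
  exact Nat.mod_modEq _ _

theorem zp_zero {G : Type*} [Group G] (a : G) : zp a 0 = 1 := by simp [zp]

theorem zp_one {G : Type*} [Group G] (a : G) : zp a 1 = a := by simp [zp, ZMod.val_one]

theorem zp_inv {G : Type*} [Group G] {a : G} (ha : a ^ 3 = 1) (k : ZMod 3) : (zp a k)⁻¹ = zp a (-k) :=
  inv_eq_of_mul_eq_one_right (by rw [← zp_add ha, add_neg_cancel, zp_zero])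

theorem zp_mem {G : Type*} [Group G] {H : Subgroup G} {a : G} (ha : a ∈ H) (k : ZMod 3) : zp a k ∈ H :=
  H.pow_mem ha _

theorem zp_comm {G : Type*} [Group G] {a b : G} (h : Commute a b) (k : ZMod 3) : Commute (zp a k) b :=
  h.pow_left _

theorem zp_eq_one {G : Type*} [Group G] {a : G} (ha : orderOf a = 3) {k : ZMod 3} (h : zp a k = 1) : k = 0 := by
  have hd : 3 ∣ k.val := ha.symm.dvd.trans (orderOf_dvd_of_pow_eq_one h)
  exact (ZMod.natCast_zmod_val k).symm.trans ((ZMod.natCast_eq_zero_iff _ _).2 hd)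

namespace Data

variable {G : Type*} [Group G] [Finite G] (D : Data G)

theorem exists_zp {w : G} (hw : w ∈ D.Zc) : ∃ k : ZMod 3, w = zp D.z k := by
  rcases D.cases_Zc hw with rfl | rfl | rfl
  · exact ⟨0, (zp_zero _).symm⟩
  · exact ⟨1, (zp_one _).symm⟩
  · exact ⟨-1, by rw [← zp_inv D.z_cube, zp_one]⟩

theorem form_zp_left {a b : G} (ha : a ∈ D.Q) (hb : b ∈ D.Q) {c : G} (h : ⁅a, b⁆ = c) (hc : c ^ 3 = 1)
    (k : ZMod 3) : ⁅zp a k, b⁆ = zp c k := by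
  have : ∀ n : ℕ, ⁅a ^ n, b⁆ = c ^ n := fun n => by
    induction n with
    | zero => simp
    | succ n ih => rw [pow_succ, D.form_mul_left (D.Q.pow_mem ha n) ha hb, ih, h, pow_succ]
  exact this _

end Data

/-- A hyperbolic pair in each half. -/
structure Basis {G : Type*} [Group G] [Finite G] {D : Data G} (S : Split D) where
  a1 : G
  b1 : G
  a2 : G
  b2 : G
  ha1 : a1 ∈ S.Q1
  hb1 : b1 ∈ S.Q1
  ha2 : a2 ∈ S.Q2
  hb2 : b2 ∈ S.Q2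
  h1 : ⁅b1, a1⁆ = D.z
  h2 : ⁅b2, a2⁆ = D.z

namespace Split

variable {G : Type*} [Group G] [Finite G] {D : Data G} (S : Split D)

/-- A noncentral element has a partner. -/
theorem exists_partner {a : G} (ha : a ∈ S.Q1) (haZ : a ∉ D.Zc) : ∃ b ∈ S.Q1, ⁅b, a⁆ = D.z := by
  obtain ⟨y, hy, hya⟩ : ∃ y ∈ S.Q1, ¬ Commute a y := by
    by_contra h
    push Not at h
    exact haZ (S.center_one ha h)
  rcases D.cases_Zc (D.comm_form hy.1 ha.1) with h | h | h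
  · exact absurd (commutatorElement_eq_one_iff_commute.1 h).symm hya
  · exact ⟨y, hy, h⟩
  · refine ⟨y⁻¹, S.Q1.inv_mem hy, ?_⟩
    have h1 := D.form_mul_left (D.Q.inv_mem hy.1) hy.1 ha.1
    rw [inv_mul_cancel, commutatorElement_one_left, h] at h1
    exact mul_inv_eq_one.1 h1.symm

theorem exists_basis {a1 a2 : G} (ha1 : a1 ∈ S.Q1) (h1 : a1 ∉ D.Zc) (ha2 : a2 ∈ S.Q2) (h2 : a2 ∉ D.Zc) :
    ∃ B : Basis S, B.a1 = a1 ∧ B.a2 = a2 := by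
  obtain ⟨b1, hb1, e1⟩ := S.exists_partner ha1 h1
  obtain ⟨b2, hb2, e2⟩ := S.swap.exists_partner ha2 h2
  exact ⟨⟨a1, b1, a2, b2, ha1, hb1, ha2, hb2, e1, e2⟩, rfl, rfl⟩

end Split

namespace Basis

variable {G : Type*} [Group G] [Finite G] {D : Data G} {S : Split D} (B : Basis S)

/-- The halves exchanged. -/
def swap : Basis S.swap := ⟨B.a2, B.b2, B.a1, B.b1, B.ha2, B.hb2, B.ha1, B.hb1, B.h2, B.h1⟩

theorem notComm : ¬ Commute B.b1 B.a1 := fun h => D.z_ne (B.h1 ▸ commutatorElement_eq_one_iff_commute.2 h)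

theorem a1_not_Zc : B.a1 ∉ D.Zc := fun h => B.notComm (D.comm_Q_Zc B.hb1.1 h)

theorem a1_cube : B.a1 ^ 3 = 1 := S.exp_one B.ha1
theorem b1_cube : B.b1 ^ 3 = 1 := S.exp_one B.hb1
theorem a2_cube : B.a2 ^ 3 = 1 := B.swap.a1_cube
theorem b2_cube : B.b2 ^ 3 = 1 := B.swap.b1_cube

theorem h1' : ⁅B.a1, B.b1⁆ = D.z⁻¹ := by rw [← commutatorElement_inv, B.h1]

theorem form_a_a (i : ZMod 3) : ⁅zp B.a1 i, B.a1⁆ = 1 :=
  commutatorElement_eq_one_iff_commute.2 (zp_comm (Commute.refl _) i)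

theorem form_b_b (i : ZMod 3) : ⁅zp B.b1 i, B.b1⁆ = 1 :=
  commutatorElement_eq_one_iff_commute.2 (zp_comm (Commute.refl _) i)

/-- Coordinates in the first half. -/
theorem normal_form {q : G} (hq : q ∈ S.Q1) : ∃ w ∈ D.Zc, ∃ i j : ZMod 3, q = w * zp B.a1 i * zp B.b1 j := by
  obtain ⟨j, hj⟩ := D.exists_zp (D.comm_form hq.1 B.ha1.1)
  obtain ⟨i, hi⟩ := D.exists_zp (D.comm_form hq.1 B.hb1.1)
  have ha := zp_mem B.ha1 (-i)
  have hb := zp_mem B.hb1 j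
  have hp : zp B.a1 (-i) * zp B.b1 j ∈ S.Q1 := S.Q1.mul_mem ha hb
  set p := zp B.a1 (-i) * zp B.b1 j with hp'
  have e1 : ⁅p, B.a1⁆ = zp D.z j := by
    rw [hp', D.form_mul_left ha.1 hb.1 B.ha1.1, B.form_a_a, one_mul,
      D.form_zp_left B.hb1.1 B.ha1.1 B.h1 D.z_cube]
  have e2 : ⁅p, B.b1⁆ = zp D.z i := by
    rw [hp', D.form_mul_left ha.1 hb.1 B.hb1.1, B.form_b_b, mul_one,
      D.form_zp_left B.ha1.1 B.hb1.1 B.h1' (by rw [inv_pow, D.z_cube, inv_one]), zp, inv_pow]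
    exact zp_inv D.z_cube (-i) |>.trans (by rw [neg_neg])
  have hx : q * p⁻¹ ∈ D.Zc := by
    have hxm : q * p⁻¹ ∈ S.Q1 := S.Q1.mul_mem hq (S.Q1.inv_mem hp)
    refine S.center_one hxm fun y hy => S.commute_of_pair B.ha1 B.hb1 B.notComm ?_ ?_ hy
    · have h := D.form_mul_left hxm.1 hp.1 B.ha1.1
      rw [inv_mul_cancel_right, hj, e1] at h
      exact commutatorElement_eq_one_iff_commute.1 (mul_eq_right.1 h.symm)
    · have h := D.form_mul_left hxm.1 hp.1 B.hb1.1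
      rw [inv_mul_cancel_right, hi, e2] at h
      exact commutatorElement_eq_one_iff_commute.1 (mul_eq_right.1 h.symm)
  exact ⟨_, hx, -i, j, by rw [mul_assoc, ← hp', inv_mul_cancel_right]⟩

theorem form_nf {w : G} (hw : w ∈ D.Zc) (i j : ZMod 3) :
    ⁅w * zp B.a1 i * zp B.b1 j, B.a1⁆ = zp D.z j := by
  have ha := zp_mem B.ha1 i
  rw [D.form_mul_left (D.Q.mul_mem (D.Zc_le hw) ha.1) (zp_mem B.hb1 j).1 B.ha1.1,
    D.form_mul_left (D.Zc_le hw) ha.1 B.ha1.1, D.form_Zc_left hw B.ha1.1, B.form_a_a, one_mul, one_mul,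
    D.form_zp_left B.hb1.1 B.ha1.1 B.h1 D.z_cube]

/-- The elements fixing both lines. -/
def Stab : Subgroup G where
  carrier := {g | Commute g D.z ∧ ⁅g, B.a1⁆ ∈ D.Zc ∧ ⁅g, B.a2⁆ ∈ D.Zc}
  one_mem' := ⟨Commute.one_left _, by simp, by simp⟩
  mul_mem' := by
    rintro g h ⟨hg, h1, h2⟩ ⟨hh, h1', h2'⟩
    refine ⟨hg.mul_left hh, ?_, ?_⟩
    · rw [show ⁅g * h, B.a1⁆ = g * ⁅h, B.a1⁆ * g⁻¹ * ⁅g, B.a1⁆ by simp only [commutatorElement_def]; group,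
        (D.comm_Zc hg h1').eq, mul_inv_cancel_right]
      exact D.Zc.mul_mem h1' h1
    · rw [show ⁅g * h, B.a2⁆ = g * ⁅h, B.a2⁆ * g⁻¹ * ⁅g, B.a2⁆ by simp only [commutatorElement_def]; group,
        (D.comm_Zc hg h2').eq, mul_inv_cancel_right]
      exact D.Zc.mul_mem h2' h2
  inv_mem' := by
    rintro g ⟨hg, h1, h2⟩
    refine ⟨hg.inv_left, ?_, ?_⟩
    · rw [show ⁅g⁻¹, B.a1⁆ = g⁻¹ * ⁅g, B.a1⁆⁻¹ * g by simp only [commutatorElement_def]; group,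
        mul_assoc, ← (D.comm_Zc hg (D.Zc.inv_mem h1)).eq, inv_mul_cancel_left]
      exact D.Zc.inv_mem h1
    · rw [show ⁅g⁻¹, B.a2⁆ = g⁻¹ * ⁅g, B.a2⁆⁻¹ * g by simp only [commutatorElement_def]; group,
        mul_assoc, ← (D.comm_Zc hg (D.Zc.inv_mem h2)).eq, inv_mul_cancel_left]
      exact D.Zc.inv_mem h2

theorem mem_Stab {g : G} : g ∈ B.Stab ↔ Commute g D.z ∧ ⁅g, B.a1⁆ ∈ D.Zc ∧ ⁅g, B.a2⁆ ∈ D.Zc := Iff.rfl

theorem swap_Stab {g : G} (hg : g ∈ B.Stab) : g ∈ B.swap.Stab := ⟨hg.1, hg.2.2, hg.2.1⟩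

theorem Q_le_Stab : D.Q ≤ B.Stab := fun q hq =>
  ⟨D.comm_z q hq, D.comm_form hq B.ha1.1, D.comm_form hq B.ha2.1⟩

theorem norm_one {g : G} (hg : g ∈ B.Stab) : ∀ q ∈ S.Q1, g * q * g⁻¹ ∈ S.Q1 := by
  refine S.norm_one_of_mem hg.1 B.ha1 B.a1_not_Zc ?_
  rw [Data.conj_eq]
  exact S.Q1.mul_mem (D.Zc_le_fixC S.s_z hg.2.1) B.ha1

/-- The image of the partner. -/
theorem exists_shift {g : G} (hg : g ∈ B.Stab) : ∃ k : ZMod 3, ⁅g, B.b1⁆ * (zp B.a1 k)⁻¹ ∈ D.Zc := by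
  have hm : ⁅g, B.b1⁆ ∈ S.Q1 := by
    rw [commutatorElement_def]; exact S.Q1.mul_mem (B.norm_one hg _ B.hb1) (S.Q1.inv_mem B.hb1)
  obtain ⟨w, hw, i, j, e⟩ := B.normal_form hm
  refine ⟨i, ?_⟩
  have h1 : g * ⁅B.b1, B.a1⁆ * g⁻¹ = ⁅⁅g, B.b1⁆ * B.b1, ⁅g, B.a1⁆ * B.a1⁆ := by
    rw [← Data.conj_eq, ← Data.conj_eq]; simp only [commutatorElement_def]; group
  rw [B.h1, hg.1.eq, mul_inv_cancel_right, D.form_mul_right (D.Q.mul_mem hm.1 B.hb1.1) (D.Zc_le hg.2.1) B.ha1.1,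
    commutatorElement_eq_one_iff_commute.2 (D.comm_Q_Zc (D.Q.mul_mem hm.1 B.hb1.1) hg.2.1), one_mul,
    D.form_mul_left hm.1 B.hb1.1 B.ha1.1, B.h1, e, B.form_nf hw] at h1
  rw [e, zp_eq_one D.hz (mul_eq_right.1 h1.symm), zp_zero, mul_one, mul_inv_cancel_right]
  exact hw

theorem shift_unique {k : ZMod 3} (h : zp B.a1 k ∈ D.Zc) : k = 0 := by
  have h1 := D.form_zp_left B.ha1.1 B.hb1.1 B.h1' (by rw [inv_pow, D.z_cube, inv_one]) k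
  rw [D.form_Zc_left h B.hb1.1] at h1
  exact zp_eq_one (by rw [orderOf_inv, D.hz]) h1.symm

/-- The exponent of the shift. -/
noncomputable def k1 (g : B.Stab) : ZMod 3 := (B.exists_shift g.2).choose

theorem k1_spec (g : B.Stab) : ⁅(g : G), B.b1⁆ * (zp B.a1 (B.k1 g))⁻¹ ∈ D.Zc := (B.exists_shift g.2).choose_spec

theorem k1_eq (g : B.Stab) {k : ZMod 3} (h : ⁅(g : G), B.b1⁆ * (zp B.a1 k)⁻¹ ∈ D.Zc) : B.k1 g = k := by
  have h2 := D.Zc.mul_mem (D.Zc.inv_mem h) (B.k1_spec g)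
  rw [mul_inv_rev, inv_inv, ← mul_assoc, inv_mul_cancel_right, zp_inv B.a1_cube, ← zp_add B.a1_cube] at h2
  have := B.shift_unique h2
  rw [← sub_eq_add_neg] at this
  exact (sub_eq_zero.1 this).symm

theorem k1_mul (g h : B.Stab) : B.k1 (g * h) = B.k1 g + B.k1 h := by
  refine B.k1_eq _ ?_
  obtain ⟨w, hw, e⟩ : ∃ w ∈ D.Zc, ⁅(h : G), B.b1⁆ = w * zp B.a1 (B.k1 h) :=
    ⟨_, B.k1_spec h, (inv_mul_cancel_right _ _).symm⟩
  obtain ⟨v, hv, e'⟩ : ∃ v ∈ D.Zc, ⁅(g : G), B.b1⁆ = v * zp B.a1 (B.k1 g) :=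
    ⟨_, B.k1_spec g, (inv_mul_cancel_right _ _).symm⟩
  have hga : ∀ n : ZMod 3, ∃ u ∈ D.Zc, (g : G) * zp B.a1 n * (g : G)⁻¹ = u * zp B.a1 n := fun n => by
    refine ⟨⁅(g : G), B.a1⁆ ^ n.val, D.Zc.pow_mem g.2.2.1 _, ?_⟩
    rw [zp, ← conj_pow, Data.conj_eq, ((D.comm_Q_Zc B.ha1.1 g.2.2.1).symm).mul_pow]
  obtain ⟨u, hu, e''⟩ := hga (B.k1 h)
  have ek : ⁅(g : G) * h, B.b1⁆ = w * u * zp B.a1 (B.k1 h) * (v * zp B.a1 (B.k1 g)) := by
    rw [← e', show ⁅(g : G) * h, B.b1⁆ = (g : G) * ⁅(h : G), B.b1⁆ * (g : G)⁻¹ * ⁅(g : G), B.b1⁆ by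
      simp only [commutatorElement_def]; group, e, show (g : G) * (w * zp B.a1 (B.k1 h)) * (g : G)⁻¹ =
        ((g : G) * w * (g : G)⁻¹) * ((g : G) * zp B.a1 (B.k1 h) * (g : G)⁻¹) by group,
      (D.comm_Zc g.2.1 hw).eq, mul_inv_cancel_right, e'', mul_assoc w u]
  rw [coe_mul, ek, add_comm, zp_add B.a1_cube,
    show w * u * zp B.a1 (B.k1 h) * (v * zp B.a1 (B.k1 g)) * (zp B.a1 (B.k1 h) * zp B.a1 (B.k1 g))⁻¹ =
      w * u * (zp B.a1 (B.k1 h) * v * (zp B.a1 (B.k1 h))⁻¹) by group,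
    (D.comm_Q_Zc (zp_mem B.ha1 _).1 hv).eq, mul_inv_cancel_right]
  exact D.Zc.mul_mem (D.Zc.mul_mem hw hu) hv

/-- The second exponent. -/
noncomputable def k2 (g : B.Stab) : ZMod 3 := B.swap.k1 ⟨g.1, B.swap_Stab g.2⟩

/-- The pair of exponents. -/
noncomputable def kappa : B.Stab →* Multiplicative (ZMod 3 × ZMod 3) where
  toFun g := Multiplicative.ofAdd (B.k1 g, B.k2 g)
  map_one' := by
    have h1 : B.k1 1 = 0 := B.k1_eq 1 (by simp [zp_zero])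
    have h2 : B.k2 1 = 0 := B.swap.k1_eq _ (by simp [zp_zero])
    rw [h1, h2]; rfl
  map_mul' g h := by
    rw [← ofAdd_add, Prod.mk_add_mk, B.k1_mul]
    congr 2
    exact B.swap.k1_mul ⟨g.1, B.swap_Stab g.2⟩ ⟨h.1, B.swap_Stab h.2⟩

theorem Q1_pair {x : G} (hxa : Commute x B.a1) (hxb : Commute x B.b1) {y : G} (hy : y ∈ S.Q1) : Commute x y :=
  S.commute_of_pair B.ha1 B.hb1 B.notComm hxa hxb hy

/-- Fixing everything modulo the centre is lying in `Q`. -/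
theorem mem_Q_of_fix {g : G} (hg : Commute g D.z) (e1 : ⁅g, B.a1⁆ ∈ D.Zc) (e2 : ⁅g, B.b1⁆ ∈ D.Zc)
    (e3 : ⁅g, B.a2⁆ ∈ D.Zc) (e4 : ⁅g, B.b2⁆ ∈ D.Zc) : g ∈ D.Q := by
  obtain ⟨i, hi⟩ := D.exists_zp e1
  obtain ⟨j, hj⟩ := D.exists_zp e2
  obtain ⟨k, hk⟩ := D.exists_zp e3
  obtain ⟨l, hl⟩ := D.exists_zp e4
  obtain ⟨q1, hq1, f1, f2⟩ : ∃ q ∈ S.Q1, ⁅q, B.a1⁆ = zp D.z i ∧ ⁅q, B.b1⁆ = zp D.z j := by
    refine ⟨zp B.a1 (-j) * zp B.b1 i, S.Q1.mul_mem (zp_mem B.ha1 _) (zp_mem B.hb1 _), ?_, ?_⟩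
    · rw [D.form_mul_left (zp_mem B.ha1 _).1 (zp_mem B.hb1 _).1 B.ha1.1, B.form_a_a, one_mul,
        D.form_zp_left B.hb1.1 B.ha1.1 B.h1 D.z_cube]
    · rw [D.form_mul_left (zp_mem B.ha1 _).1 (zp_mem B.hb1 _).1 B.hb1.1, B.form_b_b, mul_one,
        D.form_zp_left B.ha1.1 B.hb1.1 B.h1' (by rw [inv_pow, D.z_cube, inv_one]), zp, inv_pow]
      exact zp_inv D.z_cube (-j) |>.trans (by rw [neg_neg])
  obtain ⟨q2, hq2, f3, f4⟩ : ∃ q ∈ S.Q2, ⁅q, B.a2⁆ = zp D.z k ∧ ⁅q, B.b2⁆ = zp D.z l := by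
    refine ⟨zp B.a2 (-l) * zp B.b2 k, S.Q2.mul_mem (zp_mem B.ha2 _) (zp_mem B.hb2 _), ?_, ?_⟩
    · rw [D.form_mul_left (zp_mem B.ha2 _).1 (zp_mem B.hb2 _).1 B.ha2.1, show ⁅zp B.a2 (-l), B.a2⁆ = 1 from B.swap.form_a_a _, one_mul,
        D.form_zp_left B.hb2.1 B.ha2.1 B.h2 D.z_cube]
    · rw [D.form_mul_left (zp_mem B.ha2 _).1 (zp_mem B.hb2 _).1 B.hb2.1, show ⁅zp B.b2 k, B.b2⁆ = 1 from B.swap.form_b_b _, mul_one,
        D.form_zp_left B.ha2.1 B.hb2.1 B.swap.h1' (by rw [inv_pow, D.z_cube, inv_one]), zp, inv_pow]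
      exact zp_inv D.z_cube (-l) |>.trans (by rw [neg_neg])
  set q := q1 * q2 with hq
  have hqQ : q ∈ D.Q := D.Q.mul_mem hq1.1 hq2.1
  have key : ∀ x ∈ D.Q, ⁅g, x⁆ = ⁅q, x⁆ → Commute (q⁻¹ * g) x := fun x hx h => by
    have : g * x * g⁻¹ = q * x * q⁻¹ := by rw [Data.conj_eq, Data.conj_eq, h]
    exact mul_inv_eq_iff_eq_mul.1 (by
      rw [show q⁻¹ * g * x * (q⁻¹ * g)⁻¹ = q⁻¹ * (g * x * g⁻¹) * q by group, this]; group)
  have c12 : ∀ {c m : G}, c ∈ S.Q1 → m ∈ S.Q2 → ⁅c, m⁆ = 1 ∧ ⁅m, c⁆ = 1 := fun hc hm =>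
    ⟨commutatorElement_eq_one_iff_commute.2 (S.comm12 hc hm),
      commutatorElement_eq_one_iff_commute.2 (S.comm12 hc hm).symm⟩
  have ka := key _ B.ha1.1 (by rw [hi, hq, D.form_mul_left hq1.1 hq2.1 B.ha1.1, f1, (c12 B.ha1 hq2).2, mul_one])
  have kb := key _ B.hb1.1 (by rw [hj, hq, D.form_mul_left hq1.1 hq2.1 B.hb1.1, f2, (c12 B.hb1 hq2).2, mul_one])
  have kc := key _ B.ha2.1 (by rw [hk, hq, D.form_mul_left hq1.1 hq2.1 B.ha2.1, (c12 hq1 B.ha2).1, one_mul, f3])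
  have kd := key _ B.hb2.1 (by rw [hl, hq, D.form_mul_left hq1.1 hq2.1 B.hb2.1, (c12 hq1 B.hb2).1, one_mul, f4])
  have hmem := D.cent_Q (q⁻¹ * g) ((D.comm_z q hqQ).inv_left.mul_left hg) fun x hx => by
    obtain ⟨c, hc, m, hm, rfl⟩ := S.decomp x hx
    exact (B.Q1_pair ka kb hc).mul_right (B.swap.Q1_pair kc kd hm)
  have := D.Q.mul_mem hqQ (D.Zc_le hmem)
  rwa [mul_inv_cancel_left] at this

theorem kappa_eq_one {g : B.Stab} : B.kappa g = 1 ↔ (g : G) ∈ D.Q := by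
  constructor
  · intro h
    have h' : B.k1 g = 0 ∧ B.k2 g = 0 := Prod.mk.injEq _ _ _ _ ▸ (Multiplicative.ofAdd.injective h)
    have e2 := B.k1_spec g
    have e4 := B.swap.k1_spec ⟨g.1, B.swap_Stab g.2⟩
    rw [h'.1, zp_zero, inv_one, mul_one] at e2
    rw [show B.swap.k1 _ = (0 : ZMod 3) from h'.2, zp_zero, inv_one, mul_one] at e4
    exact B.mem_Q_of_fix g.2.1 g.2.2.1 e2 g.2.2.2 e4
  · intro h
    have h1 : B.k1 g = 0 := B.k1_eq g (by simpa [zp_zero] using D.comm_form h B.hb1.1)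
    have h2 : B.k2 g = 0 := B.swap.k1_eq _ (show ⁅(g : G), B.b2⁆ * (zp B.a2 0)⁻¹ ∈ D.Zc by simpa [zp_zero] using D.comm_form h B.hb2.1)
    show Multiplicative.ofAdd (B.k1 g, B.k2 g) = 1
    rw [h1, h2]; rfl

theorem Stab_pgroup : IsPGroup 3 B.Stab := by
  intro g
  have h : B.kappa (g ^ 3) = 1 := by
    rw [map_pow]
    generalize B.kappa g = v
    revert v
    decide
  obtain ⟨n, hn⟩ := D.Q_pgroup ⟨_, B.kappa_eq_one.1 h⟩
  refine ⟨n + 1, ?_⟩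
  have h2 := congrArg Subtype.val hn
  rw [pow_succ', pow_mul]
  exact Subtype.ext (by simpa using h2)

theorem comm_mem_Q {u v : G} (hu : u ∈ B.Stab) (hv : v ∈ B.Stab) : ⁅u, v⁆ ∈ D.Q :=
  B.kappa_eq_one.1 (show B.kappa ⁅(⟨u, hu⟩ : B.Stab), ⟨v, hv⟩⁆ = 1 by
    rw [map_commutatorElement]; exact commutatorElement_eq_one_iff_commute.2 (Commute.all _ _))

end Basis

namespace Split

variable {G : Type*} [Group G] [Finite G] {D : Data G} (S : Split D)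

/-- A 3-subgroup of `C(z)` fixes a noncentral element of the first half modulo the centre. -/
theorem exists_fixed {P : Subgroup G} (hP : IsPGroup 3 P) (hPz : ∀ g ∈ P, Commute g D.z) :
    ∃ a ∈ S.Q1, a ∉ D.Zc ∧ ∀ g ∈ P, ⁅g, a⁆ ∈ D.Zc := by
  classical
  haveI : Fact (Nat.Prime 3) := ⟨Nat.prime_three⟩
  have hn : ∀ g ∈ P, ∀ q ∈ S.Q1, g * q * g⁻¹ ∈ S.Q1 := fun g hg => by
    obtain ⟨n, hn⟩ := hP ⟨g, hg⟩
    exact S.norm_one_of_three (hPz g hg) ⟨n, congrArg Subtype.val hn⟩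
  set K := D.Zc.subgroupOf S.Q1
  let act : P → S.Q1 → S.Q1 := fun g q => ⟨(g : G) * q * (g : G)⁻¹, hn g g.2 q q.2⟩
  letI : SMul P (S.Q1 ⧸ K) := ⟨fun g => Quotient.map' (act g) fun q r h => by
    rw [QuotientGroup.leftRel_apply] at h ⊢
    rw [mem_subgroupOf] at h ⊢
    show ((g : G) * q * (g : G)⁻¹)⁻¹ * ((g : G) * r * (g : G)⁻¹) ∈ D.Zc
    rw [show ((g : G) * q * (g : G)⁻¹)⁻¹ * ((g : G) * r * (g : G)⁻¹) = (g : G) * ((q : G)⁻¹ * r) * (g : G)⁻¹ by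
      group, (D.comm_Zc (hPz g g.2) (show (q : G)⁻¹ * r ∈ D.Zc from h)).eq, mul_inv_cancel_right]
    exact h⟩
  letI : MulAction P (S.Q1 ⧸ K) :=
    { one_smul := fun x => Quotient.inductionOn' x fun q => congrArg Quotient.mk'' (Subtype.ext
        (by show ((1 : P) : G) * q * ((1 : P) : G)⁻¹ = q; simp))
      mul_smul := fun g h x => Quotient.inductionOn' x fun q => congrArg Quotient.mk'' (Subtype.ext
        (by show ((g * h : P) : G) * q * ((g * h : P) : G)⁻¹ = (g : G) * ((h : G) * q * (h : G)⁻¹) * (g : G)⁻¹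
            push_cast; group)) }
  haveI : Finite (S.Q1 ⧸ K) := inferInstance
  have hcard : Nat.card (S.Q1 ⧸ K) = 9 := by
    have h := Subgroup.card_eq_card_quotient_mul_card_subgroup K
    rw [S.card₁, Nat.card_congr (Subgroup.subgroupOfEquivOfLe (D.Zc_le_fixC S.s_z)).toEquiv, D.card_Zc] at h
    omega
  have hone : ((1 : S.Q1) : S.Q1 ⧸ K) ∈ MulAction.fixedPoints P (S.Q1 ⧸ K) := fun g =>
    congrArg Quotient.mk'' (Subtype.ext (by show (g : G) * (1 : G) * (g : G)⁻¹ = 1; group))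
  obtain ⟨x, hx, hne⟩ := hP.exists_fixed_point_of_prime_dvd_card_of_fixed_point (S.Q1 ⧸ K)
    (by rw [hcard]; norm_num) hone
  obtain ⟨q, rfl⟩ := QuotientGroup.mk_surjective x
  refine ⟨q, q.2, fun h => hne ((QuotientGroup.eq.2 (by simpa [K, mem_subgroupOf] using h))), fun g hg => ?_⟩
  have h := QuotientGroup.eq.1 (show ((act ⟨g, hg⟩ q : S.Q1) : S.Q1 ⧸ K) = q from hx ⟨g, hg⟩)
  rw [mem_subgroupOf] at h
  have h2 : g * (q : G)⁻¹ * g⁻¹ * q ∈ D.Zc := by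
    rw [show g * (q : G)⁻¹ * g⁻¹ * (q : G) = (g * q * g⁻¹)⁻¹ * (q : G) by group]
    simpa [act] using h
  rw [show ⁅g, (q : G)⁆ = (q : G) * (g * (q : G)⁻¹ * g⁻¹ * q)⁻¹ * (q : G)⁻¹ by
      simp only [commutatorElement_def]; group, (D.comm_Q_Zc q.2.1 (D.Zc.inv_mem h2)).eq, mul_inv_cancel_right]
  exact D.Zc.inv_mem h2

/-- A basis stabilised by a 3-subgroup. -/
theorem exists_basis_of_three {P : Subgroup G} (hP : IsPGroup 3 P) (hPz : ∀ g ∈ P, Commute g D.z) :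
    ∃ B : Basis S, P ≤ B.Stab := by
  obtain ⟨a1, h1, h1Z, e1⟩ := S.exists_fixed hP hPz
  obtain ⟨a2, h2, h2Z, e2⟩ := S.swap.exists_fixed hP hPz
  obtain ⟨B, f1, f2⟩ := S.exists_basis h1 h1Z h2 h2Z
  exact ⟨B, fun g hg => ⟨hPz g hg, f1 ▸ e1 g hg, f2 ▸ e2 g hg⟩⟩

end Split

end Cfsg.Lib.U6Three
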