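import Cfsg.Agent.Lib.U6Three.Split

/-!
# The two halves of the extraspecial subgroup and the elements permuting them
-/

set_option autoImplicit false
set_option linter.unusedSectionVars false
set_option linter.style.haveILetI false

namespace Cfsg.Lib.U6Three

open Subgroup
open scoped commutatorElement

namespace Split

variable {G : Type*} [Group G] [Finite G] {D : Data G} (S : Split D)

/-- The first half. -/
abbrev Q1 : Subgroup G := D.fixC S.s

/-- The second half. -/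
abbrev Q2 : Subgroup G := D.fixC S.t

/-- The halves exchanged. -/
def swap : Split D where
  s := S.t
  t := S.s
  s_sq := S.t_sq
  t_sq := S.s_sq
  st := S.st.symm
  s_z := S.t_z
  t_z := S.s_z
  s_ι := S.t_ι
  t_ι := S.s_ι
  invol := fun p h => by
    rcases S.invol p h with e | e | e | e
    exacts [Or.inl e, Or.inr (Or.inr (Or.inl e)), Or.inr (Or.inl e), Or.inr (Or.inr (Or.inr (e.trans S.st.eq)))]
  s_mem := S.t_mem
  t_mem := S.s_mem
  card₁ := S.card₂
  card₂ := S.card₁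
  s_neg := S.t_neg
  t_neg := S.s_neg
  decomp := fun q hq => by
    obtain ⟨c, hc, m, hm, rfl⟩ := S.decomp q hq
    exact ⟨m, hm, c, hc, D.fix_neg_comm S.s_z hc ⟨hm.1, S.s_neg m hm⟩⟩

theorem comm12 {c m : G} (hc : c ∈ S.Q1) (hm : m ∈ S.Q2) : Commute c m :=
  D.fix_neg_comm S.s_z hc ⟨hm.1, S.s_neg m hm⟩

theorem inf_eq : S.Q1 ⊓ S.Q2 = D.Zc := by
  refine le_antisymm ?_ fun w hw => ⟨D.Zc_le_fixC S.s_z hw, D.Zc_le_fixC S.t_z hw⟩
  rintro q ⟨h1, h2⟩
  exact (D.fix_inf_neg S.s_z).le ⟨h1, h2.1, S.s_neg q h2⟩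

theorem exp_one {x : G} (hx : x ∈ S.Q1) : x ^ 3 = 1 := by
  have hu : S.t * x * S.t⁻¹ * x ∈ D.Zc := S.t_neg x hx
  have h3 := D.cube_Q x hx.1
  have e : x ^ 3 = (x ^ 3)⁻¹ := by
    conv_lhs => rw [← mul_inv_cancel_right (x ^ 3) S.t, ← (D.comm_Zc S.t_z h3).eq, ← conj_pow,
      show S.t * x * S.t⁻¹ = S.t * x * S.t⁻¹ * x * x⁻¹ by group,
      ((D.comm_Q_Zc hx.1 hu).inv_left).symm.mul_pow, D.cube_Zc hu, one_mul, inv_pow]
  refine D.eq_one_of_sq (D.Q.pow_mem hx.1 3) ?_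
  nth_rewrite 2 [e]
  exact mul_inv_cancel _

theorem exp_two {x : G} (hx : x ∈ S.Q2) : x ^ 3 = 1 := S.swap.exp_one hx

include S in
theorem exp_Q {q : G} (hq : q ∈ D.Q) : q ^ 3 = 1 := by
  obtain ⟨c, hc, m, hm, rfl⟩ := S.decomp q hq
  rw [(S.comm12 hc hm).mul_pow, S.exp_one hc, S.exp_two hm, one_mul]

theorem center_one {x : G} (hx : x ∈ S.Q1) (h : ∀ y ∈ S.Q1, Commute x y) : x ∈ D.Zc :=
  D.center_fixC S.s_sq S.s_z hx h

/-- Commuting with a noncommuting pair of the half. -/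
theorem commute_of_pair {a b : G} (ha : a ∈ S.Q1) (hb : b ∈ S.Q1) (h : ¬ Commute b a) {x : G}
    (hxa : Commute x a) (hxb : Commute x b) {y : G} (hy : y ∈ S.Q1) : Commute x y := by
  haveI : Fact (Nat.Prime 3) := ⟨Nat.prime_three⟩
  set M := closure ({a, b} : Set G) with hM
  have hle : M ≤ S.Q1 := (closure_le _).2 (by rintro g (rfl | rfl) <;> assumption)
  obtain ⟨k, hk, e⟩ := (Nat.dvd_prime_pow Nat.prime_three).1
    ((Subgroup.card_dvd_of_le hle).trans (by rw [S.card₁]; norm_num : Nat.card S.Q1 ∣ 3 ^ 3))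
  have hMe : M = S.Q1 := by
    refine Subgroup.eq_of_le_of_card_ge hle ?_
    rw [S.card₁, e]
    by_contra hlt
    have hk2 : k ≤ 2 := by
      by_contra h3
      exact hlt (by rw [show k = 3 by omega]; norm_num)
    have hab : ∀ u v : M, u * v = v * u := by
      interval_cases k
      · intro u v
        haveI : Subsingleton M := (Nat.card_eq_one_iff_unique.1 (by simpa using e)).1
        exact Subsingleton.elim _ _
      · haveI : IsCyclic M := isCyclic_of_prime_card (p := 3) (by simpa using e)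
        exact mul_comm'
      · exact IsPGroup.commutative_of_card_eq_prime_sq e
    exact h (congrArg Subtype.val (hab ⟨b, subset_closure (by simp)⟩ ⟨a, subset_closure (by simp)⟩))
  have : M ≤ centralizer ({x} : Set G) := (closure_le _).2 (by
    rintro g (rfl | rfl)
    exacts [mem_centralizer_singleton_iff.2 hxa.symm, mem_centralizer_singleton_iff.2 hxb.symm])
  exact (mem_centralizer_singleton_iff.1 (this (hMe ▸ hy))).symm

/-- The elements that `s` fixes modulo the centre. -/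
theorem mem_Q1_iff {q : G} : q ∈ S.Q1 ↔ q ∈ D.Q ∧ ⁅S.s, q⁆ ∈ D.Zc := by
  refine ⟨fun h => ⟨h.1, ?_⟩, fun h => D.mem_fixC.2 ⟨h.1, (D.fixed_of_mod S.s_sq S.s_z h.2).symm⟩⟩
  rw [commutatorElement_eq_one_iff_commute.2 (D.mem_fixC.1 h).2.symm]
  exact D.Zc.one_mem

/-- An element of `C(z)` maps the first half to one of the halves. -/
theorem conj_half {g : G} (hg : Commute g D.z) :
    (∀ q ∈ S.Q1, g * q * g⁻¹ ∈ S.Q1) ∨ (∀ q ∈ S.Q1, g * q * g⁻¹ ∈ S.Q2) := by
  obtain ⟨p₀, hp₀⟩ := S.s_mem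
  obtain ⟨p, hr⟩ := D.ι_normal g hg p₀
  rw [hp₀] at hr
  set σ := D.ι p with hσ
  set r := σ⁻¹ * (g * S.s * g⁻¹) with hr'
  have hσz : Commute σ D.z := D.ι_z p
  have hgs : g * S.s * g⁻¹ = σ * r := by rw [hr']; group
  have hσ2 : σ * σ = 1 := by
    have h1 : σ * σ = ((σ⁻¹ * r * σ) * r)⁻¹ := by
      have h : (σ * r) * (σ * r) = 1 := by
        rw [← hgs, show g * S.s * g⁻¹ * (g * S.s * g⁻¹) = g * (S.s * S.s) * g⁻¹ by group, S.s_sq]; group
      rw [eq_inv_iff_mul_eq_one, ← h]; group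
    have h2 : σ * σ ∈ D.Q := h1 ▸ D.Q.inv_mem (D.Q.mul_mem (D.conj_inv_mem hσz hr) hr)
    refine D.eq_one_of_sq h2 ?_
    rw [hσ, ← map_mul, ← map_mul, quat_facts.2.1 p, map_one]
  have key : ∀ q ∈ S.Q1, ⁅σ, g * q * g⁻¹⁆ ∈ D.Zc := fun q hq => by
    have h1 : g * ⁅S.s, q⁆ * g⁻¹ = ⁅σ * r, g * q * g⁻¹⁆ := by
      rw [← hgs]; simp only [commutatorElement_def]; group
    have hgq := D.norm_Q g hg q hq.1
    have hw := D.comm_form hr hgq
    rw [show ⁅σ * r, g * q * g⁻¹⁆ = σ * ⁅r, g * q * g⁻¹⁆ * σ⁻¹ * ⁅σ, g * q * g⁻¹⁆ by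
      simp only [commutatorElement_def]; group, (D.comm_Zc hσz hw).eq, mul_inv_cancel_right,
      (D.comm_Zc hg (S.mem_Q1_iff.1 hq).2).eq, mul_inv_cancel_right] at h1
    have h2 := D.Zc.mul_mem (D.Zc.inv_mem hw) (S.mem_Q1_iff.1 hq).2
    rwa [h1, inv_mul_cancel_left] at h2
  rcases S.invol p hσ2 with h | h | h | h
  · exfalso
    change σ = 1 at h
    rw [hr', h, inv_one, one_mul] at hr
    have hr1 : g * S.s * g⁻¹ = 1 := D.eq_one_of_sq hr
      (by rw [show g * S.s * g⁻¹ * (g * S.s * g⁻¹) = g * (S.s * S.s) * g⁻¹ by group, S.s_sq]; group)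
    have hs1 : S.s = 1 := conj_eq_one_iff.1 hr1
    have : D.fixC S.s = D.Q := le_antisymm inf_le_left fun q hq =>
      D.mem_fixC.2 ⟨hq, by rw [hs1]; exact Commute.one_right q⟩
    have hcd := S.card₁
    rw [this, D.card_Q] at hcd
    norm_num at hcd
  · exact Or.inl fun q hq => S.mem_Q1_iff.2 ⟨D.norm_Q g hg q hq.1, by rw [← h]; exact key q hq⟩
  · exact Or.inr fun q hq => S.swap.mem_Q1_iff.2
      ⟨D.norm_Q g hg q hq.1, by show ⁅S.t, _⁆ ∈ _; rw [← h]; exact key q hq⟩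
  · exfalso
    have hall : ∀ q ∈ S.Q1, g * q * g⁻¹ ∈ D.Zc := fun q hq => by
      have hgq := D.norm_Q g hg q hq.1
      have hcm := key q hq
      have hneg : g * q * g⁻¹ ∈ D.negC σ hσz := by
        obtain ⟨c, hc, m, hm, e⟩ := S.decomp _ hgq
        rw [e]
        refine (D.negC σ hσz).mul_mem ⟨hc.1, ?_⟩ ⟨hm.1, ?_⟩
        · rw [hσ, h, S.st.eq, show S.t * S.s * c * (S.t * S.s)⁻¹ = S.t * (S.s * c * S.s⁻¹) * S.t⁻¹ by group,
            (D.mem_fixC.1 hc).2.symm.eq, mul_inv_cancel_right]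
          exact S.t_neg c hc
        · rw [hσ, h, show S.s * S.t * m * (S.s * S.t)⁻¹ = S.s * (S.t * m * S.t⁻¹) * S.s⁻¹ by group,
            (D.mem_fixC.1 hm).2.symm.eq, mul_inv_cancel_right]
          exact S.s_neg m hm
      exact (D.fix_inf_neg hσz).le
        ⟨D.mem_fixC.2 ⟨hgq, (D.fixed_of_mod hσ2 hσz hcm).symm⟩, hneg⟩
    have hle : S.Q1.map (MulAut.conj g).toMonoidHom ≤ D.Zc := by
      rintro _ ⟨q, hq, rfl⟩; exact hall q hq
    have h27 := Subgroup.card_le_of_le hle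
    rw [Subgroup.card_map_of_injective (MulAut.conj g).injective, S.card₁, D.card_Zc] at h27
    omega

/-- An element of `C(z)` mapping one noncentral element into the first half normalises it. -/
theorem norm_one_of_mem {g a : G} (hg : Commute g D.z) (ha : a ∈ S.Q1) (haZ : a ∉ D.Zc)
    (h : g * a * g⁻¹ ∈ S.Q1) : ∀ q ∈ S.Q1, g * q * g⁻¹ ∈ S.Q1 := by
  refine (S.conj_half hg).resolve_right fun h2 => haZ ?_
  have h3 := S.inf_eq.le ⟨h, h2 a ha⟩
  rcases D.cases_Zc h3 with e | e | e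
  · rw [conj_eq_one_iff.1 e]; exact D.Zc.one_mem
  · rw [show a = D.z by rw [← mul_inv_cancel_right D.z g, ← hg.eq] at e; exact mul_left_cancel (mul_right_cancel e)]
    exact mem_zpowers _
  · rw [show a = D.z⁻¹ by
      rw [← mul_inv_cancel_right D.z⁻¹ g, ← hg.inv_right.eq] at e; exact mul_left_cancel (mul_right_cancel e)]
    exact D.Zc.inv_mem (mem_zpowers _)

/-- A 3-element of `C(z)` normalises the first half. -/
theorem norm_one_of_three {g : G} (hg : Commute g D.z) (h3 : ∃ n, g ^ 3 ^ n = 1) :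
    ∀ q ∈ S.Q1, g * q * g⁻¹ ∈ S.Q1 := by
  have hsq : ∀ q ∈ S.Q1, g ^ 2 * q * (g ^ 2)⁻¹ ∈ S.Q1 := fun q hq => by
    rw [show g ^ 2 * q * (g ^ 2)⁻¹ = g * (g * q * g⁻¹) * g⁻¹ by rw [pow_two]; group]
    rcases S.conj_half hg with h | h
    · exact h _ (h q hq)
    · rcases S.swap.conj_half hg with h' | h'
      · exfalso
        have he : S.Q2.map (MulAut.conj g).toMonoidHom = S.Q2 := Subgroup.eq_of_le_of_card_ge
          (by rintro _ ⟨x, hx, rfl⟩; exact h' x hx)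
          (le_of_eq (Subgroup.card_map_of_injective (MulAut.conj g).injective).symm)
        have hle : S.Q1 ≤ S.Q2 := fun x hx => by
          obtain ⟨y, hy, e⟩ := he.ge (h x hx)
          exact mul_left_cancel (mul_right_cancel e) ▸ hy
        have h27 := Subgroup.card_le_of_le ((le_inf le_rfl hle).trans S.inf_eq.le)
        rw [S.card₁, D.card_Zc] at h27
        omega
      · exact h' _ (h q hq)
  obtain ⟨n, hn⟩ := h3
  intro q hq
  obtain ⟨m, hm⟩ := (Odd.pow (by decide : Odd 3) : Odd (3 ^ n))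
  have he : g = g ^ (2 * (m + 1)) := by
    rw [mul_add, show 2 * m + 2 * 1 = 2 * m + 1 + 1 by omega, ← hm, pow_add, hn, one_mul, pow_one]
  have : ∀ k : ℕ, ∀ q ∈ S.Q1, g ^ (2 * k) * q * (g ^ (2 * k))⁻¹ ∈ S.Q1 := by
    intro k
    induction k with
    | zero => intro q hq; simpa using hq
    | succ k ih =>
      intro q hq
      rw [mul_add, show g ^ (2 * k + 2 * 1) * q * (g ^ (2 * k + 2 * 1))⁻¹ =
        g ^ 2 * (g ^ (2 * k) * q * (g ^ (2 * k))⁻¹) * (g ^ 2)⁻¹ by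
          rw [show 2 * k + 2 * 1 = 2 + 2 * k by omega, pow_add]; group]
      exact hsq _ (ih q hq)
  have h2 := this (m + 1) q hq
  rwa [← he] at h2

end Split

end Cfsg.Lib.U6Three
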