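import Cfsg.Agent.Lib.U6Three.Points

/-!
# The linear action on a half
-/

set_option autoImplicit false
set_option linter.unusedSectionVars false

namespace Cfsg.Lib.U6Three

open Subgroup
open scoped commutatorElement

namespace Basis

variable {G : Type*} [Group G] [Finite G] {D : Data G} {S : Split D} (B : Basis S)

/-- The first coordinate in the first half. -/
noncomputable def ci (q : G) : ZMod 3 :=
  open scoped Classical in if h : ⁅B.b1, q⁆ ∈ D.Zc then (D.exists_zp h).choose else 0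

/-- The second coordinate in the first half. -/
noncomputable def cj (q : G) : ZMod 3 :=
  open scoped Classical in if h : ⁅q, B.a1⁆ ∈ D.Zc then (D.exists_zp h).choose else 0

theorem zp_z_inj {k l : ZMod 3} (h : zp D.z k = zp D.z l) : k = l := by
  have : zp D.z (k - l) = 1 := by rw [sub_eq_add_neg, zp_add D.z_cube, ← zp_inv D.z_cube, h, mul_inv_cancel]
  exact sub_eq_zero.1 (zp_eq_one D.hz this)

theorem ci_spec {q : G} (hq : q ∈ D.Q) : ⁅B.b1, q⁆ = zp D.z (B.ci q) := by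
  rw [ci, dif_pos (D.comm_form B.hb1.1 hq)]
  exact (D.exists_zp (D.comm_form B.hb1.1 hq)).choose_spec

theorem cj_spec {q : G} (hq : q ∈ D.Q) : ⁅q, B.a1⁆ = zp D.z (B.cj q) := by
  rw [cj, dif_pos (D.comm_form hq B.ha1.1)]
  exact (D.exists_zp (D.comm_form hq B.ha1.1)).choose_spec

theorem ci_mul {q r : G} (hq : q ∈ D.Q) (hr : r ∈ D.Q) : B.ci (q * r) = B.ci q + B.ci r := zp_z_inj (D := D) (by
  rw [zp_add D.z_cube, ← B.ci_spec (D.Q.mul_mem hq hr), ← B.ci_spec hq, ← B.ci_spec hr,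
    D.form_mul_right B.hb1.1 hq hr])

theorem cj_mul {q r : G} (hq : q ∈ D.Q) (hr : r ∈ D.Q) : B.cj (q * r) = B.cj q + B.cj r := zp_z_inj (D := D) (by
  rw [zp_add D.z_cube, ← B.cj_spec (D.Q.mul_mem hq hr), ← B.cj_spec hq, ← B.cj_spec hr,
    D.form_mul_left hq hr B.ha1.1])

theorem ci_nf {w : G} (hw : w ∈ D.Zc) (i j : ZMod 3) : B.ci (w * zp B.a1 i * zp B.b1 j) = i := by
  have hq : w * zp B.a1 i * zp B.b1 j ∈ D.Q :=
    D.Q.mul_mem (D.Q.mul_mem (D.Zc_le hw) (zp_mem B.ha1.1 i)) (zp_mem B.hb1.1 j)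
  refine zp_z_inj (D := D) ?_
  rw [← B.ci_spec hq, D.form_mul_right B.hb1.1 (D.Q.mul_mem (D.Zc_le hw) (zp_mem B.ha1.1 i)) (zp_mem B.hb1.1 j),
    D.form_mul_right B.hb1.1 (D.Zc_le hw) (zp_mem B.ha1.1 i),
    commutatorElement_eq_one_iff_commute.2 (D.comm_Q_Zc B.hb1.1 hw), one_mul,
    commutatorElement_eq_one_iff_commute.2 (zp_comm (Commute.refl B.b1) j).symm, mul_one,
    ← commutatorElement_inv (zp B.a1 i), D.form_zp_left B.ha1.1 B.hb1.1 B.h1'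
      (by rw [inv_pow, D.z_cube, inv_one]), zp, zp, inv_pow, inv_inv]

theorem cj_nf {w : G} (hw : w ∈ D.Zc) (i j : ZMod 3) : B.cj (w * zp B.a1 i * zp B.b1 j) = j := by
  have hq : w * zp B.a1 i * zp B.b1 j ∈ D.Q :=
    D.Q.mul_mem (D.Q.mul_mem (D.Zc_le hw) (zp_mem B.ha1.1 i)) (zp_mem B.hb1.1 j)
  refine zp_z_inj (D := D) ?_
  rw [← B.cj_spec hq, B.form_nf hw]

theorem ci_a : B.ci B.a1 = 1 := by
  simpa [zp_zero, zp_one] using B.ci_nf D.Zc.one_mem 1 0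

theorem cj_a : B.cj B.a1 = 0 := by
  simpa [zp_zero, zp_one] using B.cj_nf D.Zc.one_mem 1 0

theorem ci_b : B.ci B.b1 = 0 := by
  simpa [zp_zero, zp_one] using B.ci_nf D.Zc.one_mem 0 1

theorem cj_b : B.cj B.b1 = 1 := by
  simpa [zp_zero, zp_one] using B.cj_nf D.Zc.one_mem 0 1

theorem nf_coords {q : G} (hq : q ∈ S.Q1) : ∃ w ∈ D.Zc, q = w * zp B.a1 (B.ci q) * zp B.b1 (B.cj q) := by
  obtain ⟨w, hw, i, j, rfl⟩ := B.normal_form hq
  exact ⟨w, hw, by rw [B.ci_nf hw, B.cj_nf hw]⟩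

/-- The form in coordinates. -/
theorem form_coords {q r : G} (hq : q ∈ S.Q1) (hr : r ∈ S.Q1) :
    ⁅q, r⁆ = zp D.z (B.cj q * B.ci r - B.ci q * B.cj r) := by
  obtain ⟨w, hw, e⟩ := B.nf_coords hr
  have ha := zp_mem B.ha1.1 (B.ci r)
  have hb := zp_mem B.hb1.1 (B.cj r)
  have hqa : ⁅q, zp B.a1 (B.ci r)⁆ = zp D.z (B.cj q * B.ci r) := by
    rw [← commutatorElement_inv (zp B.a1 _) q,
      D.form_zp_left B.ha1.1 hq.1 (c := zp D.z (-B.cj q))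
        (by rw [← commutatorElement_inv, B.cj_spec hq.1, zp_inv D.z_cube])
        (D.cube_Zc (zp_mem (mem_zpowers _) _)), zp_zp D.z_cube, zp_inv D.z_cube]
    congr 1; ring
  have hqb : ⁅q, zp B.b1 (B.cj r)⁆ = zp D.z (-(B.ci q * B.cj r)) := by
    rw [← commutatorElement_inv (zp B.b1 _) q, D.form_zp_left B.hb1.1 hq.1 (B.ci_spec hq.1)
      (D.cube_Zc (zp_mem (mem_zpowers _) _)), zp_zp D.z_cube, zp_inv D.z_cube]
  conv_lhs => rw [e]
  rw [D.form_mul_right hq.1 (D.Q.mul_mem (D.Zc_le hw) ha) hb, D.form_mul_right hq.1 (D.Zc_le hw) ha,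
    commutatorElement_eq_one_iff_commute.2 (D.comm_Q_Zc hq.1 hw), one_mul, hqa, hqb, ← zp_add D.z_cube,
    sub_eq_add_neg]

end Basis

/-- The elements of `C(z)` normalising the first half. -/
def Split.HN {G : Type*} [Group G] [Finite G] {D : Data G} (S : Split D) : Subgroup G :=
  centralizer ({D.z} : Set G) ⊓ normalizer (S.Q1 : Set G)

namespace Basis

variable {G : Type*} [Group G] [Finite G] {D : Data G} {S : Split D} (B : Basis S)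

theorem _root_.Cfsg.Lib.U6Three.Split.mem_HN {g : G} : g ∈ S.HN ↔ Commute g D.z ∧ g ∈ normalizer (S.Q1 : Set G) :=
  and_congr mem_centralizer_singleton_iff Iff.rfl

theorem _root_.Cfsg.Lib.U6Three.Split.mem_HN_of {g : G} (hg : Commute g D.z) {a : G} (ha : a ∈ S.Q1) (haZ : a ∉ D.Zc)
    (h : g * a * g⁻¹ ∈ S.Q1) : g ∈ S.HN := by
  refine S.mem_HN.2 ⟨hg, ?_⟩
  have hh := S.norm_one_of_mem hg ha haZ h
  have hfin : S.Q1.map (MulAut.conj g).toMonoidHom = S.Q1 := Subgroup.eq_of_le_of_card_ge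
    (by rintro _ ⟨u, hu, rfl⟩; exact hh u hu)
    (le_of_eq (Subgroup.card_map_of_injective (MulAut.conj g).injective).symm)
  rw [mem_normalizer_iff]
  intro w
  refine ⟨hh w, fun hw => ?_⟩
  obtain ⟨v, hv, e⟩ := hfin.ge hw
  exact mul_left_cancel (mul_right_cancel e) ▸ hv

theorem _root_.Cfsg.Lib.U6Three.Split.conj_Q1 {g : G} (hg : g ∈ S.HN) {q : G} (hq : q ∈ S.Q1) : g * q * g⁻¹ ∈ S.Q1 :=
  (mem_normalizer_iff.1 (S.mem_HN.1 hg).2 q).1 hq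

/-- The matrix of an element. -/
noncomputable def mat (g : S.HN) : Matrix.SpecialLinearGroup (Fin 2) (ZMod 3) :=
  ⟨!![B.ci (g.1 * B.a1 * g.1⁻¹), B.ci (g.1 * B.b1 * g.1⁻¹); B.cj (g.1 * B.a1 * g.1⁻¹), B.cj (g.1 * B.b1 * g.1⁻¹)], by
    have ha := S.conj_Q1 g.2 B.ha1
    have hb := S.conj_Q1 g.2 B.hb1
    have h := B.form_coords hb ha
    rw [show ⁅g.1 * B.b1 * g.1⁻¹, g.1 * B.a1 * g.1⁻¹⁆ = g.1 * ⁅B.b1, B.a1⁆ * g.1⁻¹ by
      simp only [commutatorElement_def]; group, B.h1, (S.mem_HN.1 g.2).1.eq, mul_inv_cancel_right] at h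
    have h2 : (1 : ZMod 3) = B.cj (g.1 * B.b1 * g.1⁻¹) * B.ci (g.1 * B.a1 * g.1⁻¹) -
        B.ci (g.1 * B.b1 * g.1⁻¹) * B.cj (g.1 * B.a1 * g.1⁻¹) := zp_z_inj (D := D) (by rw [zp_one]; exact h)
    rw [Matrix.det_fin_two_of]; linear_combination -h2⟩

theorem conj_coords {g : G} (hg : g ∈ S.HN) {q : G} (hq : q ∈ S.Q1) :
    B.ci (g * q * g⁻¹) = B.ci (g * B.a1 * g⁻¹) * B.ci q + B.ci (g * B.b1 * g⁻¹) * B.cj q ∧
    B.cj (g * q * g⁻¹) = B.cj (g * B.a1 * g⁻¹) * B.ci q + B.cj (g * B.b1 * g⁻¹) * B.cj q := by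
  obtain ⟨w, hw, e⟩ := B.nf_coords hq
  set i := B.ci q
  set j := B.cj q
  have hA := (S.conj_Q1 hg B.ha1).1
  have hB := (S.conj_Q1 hg B.hb1).1
  have hc : g * q * g⁻¹ = w * zp (g * B.a1 * g⁻¹) i * zp (g * B.b1 * g⁻¹) j := by
    rw [e, zp, zp, zp, zp, conj_pow, conj_pow, show g * (w * B.a1 ^ i.val * B.b1 ^ j.val) * g⁻¹ =
      (g * w * g⁻¹) * (g * B.a1 ^ i.val * g⁻¹) * (g * B.b1 ^ j.val * g⁻¹) by group,
      (D.comm_Zc (S.mem_HN.1 hg).1 hw).eq, mul_inv_cancel_right]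
  have hlin : ∀ (f : G → ZMod 3), (∀ u ∈ D.Q, ∀ v ∈ D.Q, f (u * v) = f u + f v) → f w = 0 →
      f (g * q * g⁻¹) = f (g * B.a1 * g⁻¹) * i + f (g * B.b1 * g⁻¹) * j := by
    intro f hf hw0
    have h1 : f 1 = 0 := by simpa using hf 1 D.Q.one_mem 1 D.Q.one_mem
    have hp : ∀ u ∈ D.Q, ∀ n : ℕ, f (u ^ n) = n * f u := fun u hu n => by
      induction n with
      | zero => simp [h1]
      | succ n ih => rw [pow_succ, hf _ (D.Q.pow_mem hu n) _ hu, ih, Nat.cast_succ]; ring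
    rw [hc, hf _ (D.Q.mul_mem (D.Zc_le hw) (zp_mem hA i)) _ (zp_mem hB j), hf _ (D.Zc_le hw) _ (zp_mem hA i), hw0, zero_add,
      zp, zp, hp _ hA, hp _ hB, ZMod.natCast_zmod_val, ZMod.natCast_zmod_val]
    ring
  exact ⟨hlin B.ci (fun u hu v hv => B.ci_mul hu hv) (by simpa [zp_zero] using B.ci_nf hw 0 0),
    hlin B.cj (fun u hu v hv => B.cj_mul hu hv) (by simpa [zp_zero] using B.cj_nf hw 0 0)⟩

/-- The linear action. -/
noncomputable def matHom : S.HN →* Matrix.SpecialLinearGroup (Fin 2) (ZMod 3) :=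
  MonoidHom.mk' B.mat fun g h => Subtype.ext (by
    obtain ⟨e1, e2⟩ := B.conj_coords g.2 (S.conj_Q1 h.2 B.ha1)
    obtain ⟨e3, e4⟩ := B.conj_coords g.2 (S.conj_Q1 h.2 B.hb1)
    have ea : (g * h : S.HN).1 * B.a1 * (g * h : S.HN).1⁻¹ = g.1 * (h.1 * B.a1 * h.1⁻¹) * g.1⁻¹ := by
      rw [Subgroup.coe_mul]; group
    have eb : (g * h : S.HN).1 * B.b1 * (g * h : S.HN).1⁻¹ = g.1 * (h.1 * B.b1 * h.1⁻¹) * g.1⁻¹ := by
      rw [Subgroup.coe_mul]; group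
    simp only [mat, ea, eb, e1, e2, e3, e4]
    exact (Matrix.mul_fin_two _ _ _ _ _ _ _ _).symm)

theorem matHom_eq_one {g : S.HN} :
    B.matHom g = 1 ↔ ⁅(g : G), B.a1⁆ ∈ D.Zc ∧ ⁅(g : G), B.b1⁆ ∈ D.Zc := by
  constructor
  · intro h
    have h' : ∀ r c, (B.mat g).1 r c = (1 : Matrix (Fin 2) (Fin 2) (ZMod 3)) r c := fun r c => by
      have h2 : B.mat g = 1 := h
      rw [h2, Matrix.SpecialLinearGroup.coe_one]
    have key : ∀ {q}, q ∈ S.Q1 → ⁅(g : G), q⁆ ∈ D.Zc := fun {q} hq => by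
      obtain ⟨e1, e2⟩ := B.conj_coords g.2 hq
      rw [show B.ci (g.1 * B.a1 * g.1⁻¹) = 1 from h' 0 0, show B.ci (g.1 * B.b1 * g.1⁻¹) = 0 from h' 0 1,
        one_mul, zero_mul, add_zero] at e1
      rw [show B.cj (g.1 * B.a1 * g.1⁻¹) = 0 from h' 1 0, show B.cj (g.1 * B.b1 * g.1⁻¹) = 1 from h' 1 1,
        one_mul, zero_mul, zero_add] at e2
      obtain ⟨w, hw, e⟩ := B.nf_coords (S.conj_Q1 g.2 hq)
      obtain ⟨v, hv, e'⟩ := B.nf_coords hq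
      rw [e1, e2] at e
      rw [commutatorElement_def, e]
      nth_rewrite 3 [e']
      rw [show w * zp B.a1 (B.ci q) * zp B.b1 (B.cj q) * (v * zp B.a1 (B.ci q) * zp B.b1 (B.cj q))⁻¹ = w * v⁻¹ by group]
      exact D.Zc.mul_mem hw (D.Zc.inv_mem hv)
    exact ⟨key B.ha1, key B.hb1⟩
  · rintro ⟨ha, hb⟩
    have hf : ∀ {q}, q ∈ S.Q1 → ⁅(g : G), q⁆ ∈ D.Zc → B.ci (g.1 * q * g.1⁻¹) = B.ci q ∧ B.cj (g.1 * q * g.1⁻¹) = B.cj q :=
      fun {q} hq h => by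
        rw [Data.conj_eq, B.ci_mul (D.Zc_le h) hq.1, B.cj_mul (D.Zc_le h) hq.1,
          show B.ci ⁅(g : G), q⁆ = 0 by simpa [zp_zero] using B.ci_nf h 0 0,
          show B.cj ⁅(g : G), q⁆ = 0 by simpa [zp_zero] using B.cj_nf h 0 0, zero_add, zero_add]
        exact ⟨rfl, rfl⟩
    show B.mat g = 1
    refine Subtype.ext ?_
    simp only [mat, hf B.ha1 ha, hf B.hb1 hb, B.ci_a, B.cj_a, B.ci_b, B.cj_b, Matrix.SpecialLinearGroup.coe_one,
      Matrix.one_fin_two]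

end Basis

end Cfsg.Lib.U6Three
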