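import Cfsg.Agent.Lib.U6Three.Unique

/-!
# The normaliser of the extraspecial group in the centraliser of the involution
-/

set_option autoImplicit false
set_option linter.unusedSectionVars false
set_option linter.style.haveILetI false
set_option synthInstance.maxSize 4000

namespace Cfsg.Lib.U6Three

open Subgroup
open scoped commutatorElement

theorem trans_facts : (∀ v w : ZMod 3, v ≠ 0 ∨ w ≠ 0 → ∃ n : SL3, n ^ 4 = 1 ∧
    n.1 0 0 * v + n.1 0 1 * w = 1 ∧ n.1 1 0 * v + n.1 1 1 * w = 0) ∧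
    (cmp tM (vM 0 1) = cmp (vM 0 1) tM ∧ ∀ w ∈ ptsA, app (vM 0 1) w ∈ ptsA) ∧
    app (vM 0 1) (0, 0, 1, 0) = (0, 0, 0, 1) + (0, 0, 0, 1) + (0, 0, 1, 0) := by
  refine ⟨by decide +kernel, ⟨by decide +kernel, by decide +kernel⟩, by decide +kernel⟩

namespace Setting

variable {G : Type*} [Group G] [Finite G] {D : Data G} (T : Setting D)

/-- The normaliser of the extraspecial group in the centraliser of the involution. -/
abbrev Nr : Subgroup G := centralizer ({T.S.t} : Set G) ⊓ normalizer (T.Rt : Set G)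

/-- The extraspecial group inside it. -/
abbrev Rn : Subgroup T.Nr := T.Rt.subgroupOf T.Nr

instance Rn_normal : T.Rn.Normal := normal_subgroupOf_of_le_normalizer inf_le_right

/-- The quotient. -/
abbrev Yq : Type _ := T.Nr ⧸ T.Rn

theorem mem_Nr {g : G} : g ∈ T.Nr ↔ Commute g T.S.t ∧ g ∈ normalizer (T.Rt : Set G) :=
  and_congr mem_centralizer_singleton_iff Iff.rfl

theorem H4_le_Nr : T.H4 ≤ T.Nr := fun _ hg => T.mem_Nr.2 ⟨(T.mem_H4.1 hg).1, T.H4_norm_Rt hg⟩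

theorem z_mem_Nr : D.z ∈ T.Nr := T.H4_le_Nr (T.A_le_H4 (T.h.z_mem_J T.B T.hx) T.S.t_z.symm)

/-- The image of the centre. -/
def zy : T.Yq := ((⟨D.z, T.z_mem_Nr⟩ : T.Nr) : T.Yq)

variable {T}

theorem Rt_three (h3 : T.IsThree) (hN : T.NCond) {r : G} (hr : r ∈ T.Rt) (h : r ^ 3 = 1) : r = 1 := by
  refine eq_one_of_coprime (a := Nat.card T.Rt) ?_ (pow_card hr) h
  rw [(Rt_block h3 hN).2]; norm_num

/-- An element carrying a three-element to a power of it modulo the group does so exactly after an adjustment. -/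
theorem lift_conj (h3 : T.IsThree) (hN : T.NCond) {y y' g : G} (hy : orderOf y = 3)
    (hyn : y ∈ normalizer (T.Rt : Set G)) (hy' : y' ∈ zpowers y) (h : g * y * g⁻¹ * y'⁻¹ ∈ T.Rt) :
    ∃ r ∈ T.Rt, (r * g) * y * (r * g)⁻¹ = y' := by
  haveI : Fact (Nat.Prime 3) := ⟨Nat.prime_three⟩
  set r0 := g * y * g⁻¹ * y'⁻¹ with hr0
  set W := T.Rt ⊔ zpowers y
  haveI : (T.Rt.subgroupOf W).Normal := normal_subgroupOf_of_le_normalizer (sup_le le_normalizer (zpowers_le.2 hyn))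
  have hy3 : y ^ 3 = 1 := by rw [← hy]; exact pow_orderOf_eq_one _
  have hcard : Nat.card W ∣ 2 ^ 9 * 3 := by
    have h := Cfsg.Lib.Core.card_sup_dvd_mul ((zpowers y).subgroupOf W) (T.Rt.subgroupOf W)
    rw [← subgroupOf_sup le_sup_right le_sup_left, sup_comm, Nat.card_congr (subgroupOfEquivOfLe (le_refl W)).toEquiv,
      Nat.card_congr (subgroupOfEquivOfLe (le_sup_right : zpowers y ≤ W)).toEquiv,
      Nat.card_congr (subgroupOfEquivOfLe (le_sup_left : T.Rt ≤ W)).toEquiv, (Rt_block h3 hN).2, Nat.card_zpowers, hy,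
      mul_comm] at h
    exact h
  have hw : g * y * g⁻¹ ∈ W := by
    rw [show g * y * g⁻¹ = r0 * y' by rw [hr0]; group]
    exact mul_mem (mem_sup_left h) (mem_sup_right hy')
  have syl : ∀ v : W, orderOf v = 3 → ∃ P : Sylow 3 W, (P : Subgroup W) = zpowers v := by
    intro v hv
    obtain ⟨P, hP⟩ := (IsPGroup.of_card (n := 1) (G := zpowers v) (by rw [Nat.card_zpowers, hv, pow_one])).exists_le_sylow
    refine ⟨P, (eq_of_le_of_card_ge hP ?_).symm⟩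
    rw [Nat.card_zpowers, hv]
    obtain ⟨n, hn⟩ := P.2.exists_card_eq
    have hd : 3 ^ n ∣ 2 ^ 9 * 3 := hn ▸ (card_subgroup_dvd_card _).trans hcard
    have := Nat.le_of_dvd (by norm_num) ((Nat.Coprime.pow_left n (by norm_num : Nat.Coprime 3 (2 ^ 9))).dvd_of_dvd_mul_left hd)
    omega
  obtain ⟨P, hP⟩ := syl ⟨y, mem_sup_right (mem_zpowers _)⟩ (by rw [← Subgroup.orderOf_coe]; exact hy)
  obtain ⟨P', hP'⟩ := syl ⟨g * y * g⁻¹, hw⟩ (by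
    rw [← Subgroup.orderOf_coe]
    show orderOf (g * y * g⁻¹) = 3
    rw [show g * y * g⁻¹ = (MulAut.conj g).toMonoidHom y from rfl, orderOf_injective _ (MulAut.conj g).injective, hy])
  obtain ⟨w, hwP⟩ := MulAction.exists_smul_eq W P' P
  have hmem : (w : G) * (g * y * g⁻¹) * (w : G)⁻¹ ∈ zpowers y := by
    have h1 : w * ⟨g * y * g⁻¹, hw⟩ * w⁻¹ ∈ (P : Subgroup W) := by
      rw [← hwP]
      exact ⟨_, (hP' ▸ mem_zpowers _ : _ ∈ (P' : Subgroup W)), by simp [MulAut.conj_apply]⟩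
    rw [hP] at h1
    obtain ⟨i, hi⟩ := mem_zpowers_iff.1 h1
    exact ⟨i, by simpa using congrArg Subtype.val hi⟩
  have hw' : (w : G) ∈ (T.Rt ⊔ zpowers y : Subgroup G) := w.2
  rw [sup_comm, ← SetLike.mem_coe, coe_mul_of_left_le_normalizer_right _ _ (zpowers_le.2 hyn)] at hw'
  obtain ⟨b, hb, r, hr, e⟩ := hw'
  refine ⟨r, hr, ?_⟩
  have hq : r * (g * y * g⁻¹) * r⁻¹ ∈ zpowers y := by
    have := mul_mem (mul_mem (inv_mem hb) hmem) hb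
    rwa [show b⁻¹ * ((w : G) * (g * y * g⁻¹) * (w : G)⁻¹) * b = r * (g * y * g⁻¹) * r⁻¹ by rw [← e]; group] at this
  refine mul_inv_eq_one.1 ?_
  rw [show r * g * y * (r * g)⁻¹ * y'⁻¹ = r * (g * y * g⁻¹) * r⁻¹ * y'⁻¹ by group]
  refine Rt_three h3 hN ?_ ?_
  · rw [show r * (g * y * g⁻¹) * r⁻¹ * y'⁻¹ = r * r0 * (y' * r⁻¹ * y'⁻¹) by rw [hr0]; group]
    exact mul_mem (mul_mem hr h)
      ((mem_normalizer_iff.1 (zpowers_le.2 hyn hy') _).1 (inv_mem hr))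
  · obtain ⟨i, hi⟩ := mem_zpowers_iff.1 (mul_mem hq (inv_mem hy'))
    rw [← hi, ← zpow_natCast, ← zpow_mul, mul_comm, zpow_mul, zpow_natCast, hy3, one_zpow]

/-- An element centralising a three-element modulo the group centralises it after an adjustment. -/
theorem lift_commute (h3 : T.IsThree) (hN : T.NCond) {y g : G} (hy : orderOf y = 3)
    (hyn : y ∈ normalizer (T.Rt : Set G)) (h : g * y * g⁻¹ * y⁻¹ ∈ T.Rt) :
    ∃ r ∈ T.Rt, Commute (r * g) y := by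
  obtain ⟨r, hr, e⟩ := lift_conj h3 hN hy hyn (mem_zpowers y) h
  exact ⟨r, hr, mul_inv_eq_iff_eq_mul.1 e⟩

theorem mk_commute_iff (h3 : T.IsThree) (hN : T.NCond) {g y : T.Nr} (hy : orderOf (y : G) = 3) :
    Commute (g : T.Yq) (y : T.Yq) ↔ ∃ g' : T.Nr, (g' : T.Yq) = g ∧ Commute (g' : G) y := by
  constructor
  · intro h
    have h1 : (g : G) * y * (g : G)⁻¹ * (y : G)⁻¹ ∈ T.Rt :=
      mem_subgroupOf.1 ((QuotientGroup.eq_one_iff (g * y * g⁻¹ * y⁻¹)).1 (by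
        rw [QuotientGroup.mk_mul, QuotientGroup.mk_mul, QuotientGroup.mk_mul, QuotientGroup.mk_inv,
          QuotientGroup.mk_inv, h.eq]; group))
    obtain ⟨r, hr, hc⟩ := lift_commute h3 hN hy (T.mem_Nr.1 y.2).2 h1
    have hrN : r ∈ T.Nr := T.mem_Nr.2 ⟨((Rt_block h3 hN).1.comm r hr).symm, le_normalizer hr⟩
    refine ⟨⟨r, hrN⟩ * g, ?_, hc⟩
    rw [QuotientGroup.mk_mul, (QuotientGroup.eq_one_iff (⟨r, hrN⟩ : T.Nr)).2 (mem_subgroupOf.2 hr), one_mul]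
  · rintro ⟨g', e, hc⟩
    show _ = _
    rw [← e, ← QuotientGroup.mk_mul, ← QuotientGroup.mk_mul]
    exact congrArg _ (Subtype.ext hc)

theorem cent_z_mem (h3 : T.IsThree) (hN : T.NCond) {g : G} (ht : Commute g T.S.t) (hz : Commute g D.z) : g ∈ T.Nr :=
  T.mem_Nr.2 ⟨ht, cent_z_le h3 hN ht hz⟩

theorem HN_of_tz (T : Setting D) {g : G} (ht : Commute g T.S.t) (hz : Commute g D.z) : g ∈ T.S.HN := by
  refine T.S.swap.HN_swap (T.S.swap.mem_HN_of hz T.B.ha2 T.B.swap.a1_not_Zc ?_)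
  obtain ⟨hQ, hat⟩ := D.mem_fixC.1 T.B.ha2
  exact D.mem_fixC.2 ⟨D.norm_Q g hz _ hQ, (ht.mul_left hat).mul_left ht.inv_left⟩

/-- Elements of `C(z,t)` are products of the quaternion groups, the translations and a power of the point. -/
theorem tz_cases (h3 : T.IsThree) {g : G} (ht : Commute g T.S.t) (hz : Commute g D.z) :
    ∃ l ∈ T.S.L, ∃ l' ∈ T.S.swap.L, ∃ i : ℕ, ∃ q ∈ T.S.Q2, g = l * l' * T.x ^ i * q := by
  have hxJ := T.h.x_mem_J T.B T.hx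
  have hxH : T.x ∈ T.S.HN := T.HN_of_Ca (T.J_le_Ca hxJ) T.hx.1
  have hgH := T.HN_of_tz ht hz
  set u := T.B.matHom ⟨T.x, hxH⟩ with hu
  set u' := T.B.matHom2 ⟨T.x, hxH⟩ with hu'
  have hu3 : u ^ 3 = 1 := by
    rw [hu, ← map_pow, show (⟨T.x, hxH⟩ : T.S.HN) ^ 3 = 1 from Subtype.ext T.D'.z_cube, map_one]
  have hu1 : u ≠ 1 := fun e => (T.h.diag T.B T.hx).1
    (T.B.k1_eq _ (by simpa [zp_zero] using (T.B.matHom_eq_one.1 e).2))
  obtain ⟨n, hn, i, hi⟩ : ∃ n : SL3, n ^ 4 = 1 ∧ ∃ i : ℕ, T.B.matHom ⟨g, hgH⟩ = n * u ^ i := by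
    obtain ⟨n, hn, h | h | h⟩ := sl_quat.2.2.2.2.2 u hu3 hu1 (T.B.matHom ⟨g, hgH⟩)
    exacts [⟨n, hn, 0, by rw [pow_zero, mul_one, h]⟩, ⟨n, hn, 1, by rw [pow_one, h]⟩,
      ⟨n, hn, 2, by rw [pow_two, h]⟩]
  obtain ⟨l, hl, el⟩ := T.B.exists_L hn
  have hu'3 : u' ^ 3 = 1 := by
    rw [hu', ← map_pow, show (⟨T.x, hxH⟩ : T.S.HN) ^ 3 = 1 from Subtype.ext T.D'.z_cube, map_one]
  obtain ⟨n', hn', j, hj⟩ : ∃ n : SL3, n ^ 4 = 1 ∧ ∃ j : ℕ, T.B.matHom2 ⟨g, hgH⟩ * (u' ^ i)⁻¹ = n * u' ^ j := by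
    obtain ⟨n, hn, h | h | h⟩ := sl_quat.2.2.2.2.2 u' hu'3 mat2_x (T.B.matHom2 ⟨g, hgH⟩ * (u' ^ i)⁻¹)
    exacts [⟨n, hn, 0, by rw [pow_zero, mul_one, h]⟩, ⟨n, hn, 1, by rw [pow_one, h]⟩,
      ⟨n, hn, 2, by rw [pow_two, h]⟩]
  obtain ⟨l', hl', el'⟩ := T.B.swap.exists_L hn'
  have hl'H : l' ∈ T.S.HN := T.S.swap.HN_swap (T.S.swap.L_HN hl')
  have el2 : T.B.matHom2 ⟨l', hl'H⟩ = n' := el'
  have hl1 : T.B.matHom ⟨l', hl'H⟩ = 1 := T.B.swap.mat_L hl'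
  have hl2 : T.B.matHom2 ⟨l, T.S.L_HN hl⟩ = 1 := T.B.mat_L hl
  set gg : T.S.HN := ⟨g, hgH⟩
  set w : T.S.HN := (⟨l, T.S.L_HN hl⟩ * ⟨l', hl'H⟩)⁻¹ * gg * (⟨T.x, hxH⟩ ^ i)⁻¹
  have w1 : T.B.matHom w = 1 := by
    simp only [w, map_mul, map_inv, map_pow]
    rw [el, hl1, hi, mul_one, inv_mul_cancel_left, ← hu, mul_inv_cancel]
  have w2 : T.B.matHom2 w = u' ^ j := by
    simp only [w, map_mul, map_inv, map_pow]
    rw [hl2, el2, one_mul, mul_assoc, hj]; group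
  have hwS : (w : G) ∈ T.B.Stab := by
    refine ⟨(T.S.mem_HN.1 w.2).1, (T.B.matHom_eq_one.1 w1).1, ?_⟩
    refine matHom_fix_first T.B.swap (g := ⟨w, T.S.HN_swap w.2⟩) ?_ ?_
    all_goals
      have e2 : T.B.swap.matHom ⟨w, T.S.HN_swap w.2⟩ = T.B.matHom2 (⟨T.x, hxH⟩ ^ j) := by rw [map_pow]; exact w2
      have hf := T.B.swap.fix_first (g := ⟨_, T.S.HN_swap ((⟨T.x, hxH⟩ : T.S.HN) ^ j).2⟩)
        (show ⁅(((⟨T.x, hxH⟩ : T.S.HN) ^ j : T.S.HN) : G), T.B.a2⁆ ∈ D.Zc by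
          rw [SubmonoidClass.coe_pow]
          exact (T.B.Stab.pow_mem T.hx j).2.2)
      rw [e2]
    exacts [hf.1, hf.2]
  have hwQ : (w : G) ∈ D.Q := h3.mem_Q (g := ⟨w, hwS⟩) (T.B.k1_eq _ (by simpa [zp_zero] using (T.B.matHom_eq_one.1 w1).2))
  have hwt : Commute (w : G) T.S.t := by
    show Commute ((l * l')⁻¹ * g * (T.x ^ i)⁻¹) T.S.t
    exact ((((T.S.L_t hl).mul_left (T.S.swap.L_s hl')).inv_left.mul_left ht).mul_left (T.tx.symm.pow_left i).inv_left)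
  refine ⟨l, hl, l', hl', i, (T.x ^ i)⁻¹ * w * T.x ^ i,
    D.mem_fixC.2 ⟨D.conj_inv_mem (T.hx.1.pow_left i) hwQ,
      (((T.tx.symm.pow_left i).inv_left).mul_left hwt).mul_left (T.tx.symm.pow_left i)⟩, ?_⟩
  simp only [w, gg, coe_mul, coe_inv, SubmonoidClass.coe_pow]
  group

theorem swapL_Nr (h3 : T.IsThree) (hN : T.NCond) {l : G} (hl : l ∈ T.S.swap.L) : l ∈ T.Nr :=
  cent_z_mem h3 hN (T.S.swap.L_s hl) (T.S.swap.L_z hl)

/-- The plane fixed by the involution. -/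
abbrev Apl (T : Setting D) : Subgroup G := T.J ⊓ centralizer ({T.S.t} : Set G)

theorem Apl_le_Nr (T : Setting D) : T.Apl ≤ T.Nr := fun _ ha =>
  T.H4_le_Nr (T.A_le_H4 ha.1 (mem_centralizer_singleton_iff.1 ha.2))

theorem cv_Apl (T : Setting D) {v : V4} (h : v.2.1 = 0) : T.cv v ∈ T.Apl := by
  refine ⟨T.cv_mem v, mem_centralizer_singleton_iff.2 (mul_inv_eq_iff_eq_mul.1 ?_)⟩
  have := T.act_t.eq v
  rw [show app tM v = v from (show ∀ v : V4, v.2.1 = 0 → app tM v = v by decide +kernel) v h] at this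
  calc T.cv v * T.S.t * (T.cv v)⁻¹ = T.cv v * T.S.t * (T.S.t * T.cv v * T.S.t⁻¹)⁻¹ := by rw [this]
    _ = T.S.t := by
      rw [mul_inv_rev, mul_inv_rev, inv_inv]
      have ht := T.S.t_sq
      calc T.cv v * T.S.t * (T.S.t * ((T.cv v)⁻¹ * T.S.t⁻¹)) = T.cv v * (T.S.t * T.S.t) * (T.cv v)⁻¹ * T.S.t⁻¹ := by group
        _ = T.S.t := by rw [ht]; simp [inv_eq_of_mul_eq_one_right ht]

theorem card_Apl (T : Setting D) : Nat.card T.Apl = 27 := by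
  have e : Nat.card T.Apl = Nat.card {v : V4 // v.2.1 = 0} := by
    refine (Nat.card_congr (Equiv.ofBijective (fun v : {v : V4 // v.2.1 = 0} => (⟨_, T.cv_Apl v.2⟩ : T.Apl)) ⟨?_, ?_⟩)).symm
    · exact fun a b h => Subtype.ext (T.cv_inj (congrArg Subtype.val h))
    · rintro ⟨w, hw⟩
      obtain ⟨v, rfl⟩ := T.exists_cv hw.1
      exact ⟨⟨v, T.cv_fixed (mem_centralizer_singleton_iff.1 hw.2)⟩, rfl⟩
  rw [e, Nat.card_eq_fintype_card]
  decide +kernel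

/-- The quotient as data for the recognition of `PSp₄(3)`. -/
theorem exists_quot_data (h3 : T.IsThree) (hN : T.NCond) : ∃ Y : Cfsg.Lib.PSpThree.Data T.Yq, Y.a = T.zy ∧
    (∀ g : T.Nr, (g : G) ∈ T.Apl → (g : T.Yq) ∈ Y.J) ∧ (∀ y ∈ Y.J, ∃ g : T.Nr, (g : G) ∈ T.Apl ∧ (g : T.Yq) = y) ∧
    (∀ M : Subgroup T.Yq, M.Normal → M.index ≠ 3) := by
  classical
  obtain ⟨hblk, hcard⟩ := Rt_block h3 hN
  set q : T.Nr →* T.Yq := QuotientGroup.mk' T.Rn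
  have hker : ∀ g : T.Nr, q g = 1 ↔ (g : G) ∈ T.Rt := fun g => (QuotientGroup.eq_one_iff g).trans mem_subgroupOf
  have hQN : T.S.Q2 ≤ T.Nr := fun _ hu => T.H4_le_Nr (T.Q2_le_H4 hu)
  have h3el : ∀ {g : T.Nr}, (g : G) ^ 3 = 1 → q g = 1 → g = 1 := fun {g} h e =>
    Subtype.ext (Rt_three h3 hN ((hker g).1 e) h)
  have hA3 : ∀ a ∈ T.Apl, a ^ 3 = 1 := fun a ha => by
    obtain ⟨v, rfl⟩ := T.exists_cv ha.1
    rw [pow_three, ← T.cv_add, ← T.cv_add,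
      show v + (v + v) = 0 from (show ∀ a : V4, a + (a + a) = 0 by decide +kernel) v, T.cv_zero]
  let R : Subgroup T.Yq := (T.S.Q2.subgroupOf T.Nr).map q
  let J : Subgroup T.Yq := (T.Apl.subgroupOf T.Nr).map q
  let Cz : Subgroup T.Nr := (centralizer ({D.z} : Set G)).subgroupOf T.Nr
  have hCz : ∀ g : Cz, Commute ((g : T.Nr) : G) D.z := fun g =>
    mem_centralizer_singleton_iff.1 (mem_subgroupOf.1 g.2)
  have hzo : orderOf ((⟨D.z, T.z_mem_Nr⟩ : T.Nr) : G) = 3 := D.hz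
  let ψ : Cz →* centralizer ({T.zy} : Set T.Yq) := (q.comp Cz.subtype).codRestrict _ fun g =>
    mem_centralizer_singleton_iff.2 ((mk_commute_iff h3 hN hzo).2 ⟨g, rfl, hCz g⟩)
  have hψ : Function.Surjective ψ := by
    rintro ⟨y, hy⟩
    obtain ⟨g, rfl⟩ := QuotientGroup.mk'_surjective T.Rn y
    obtain ⟨g', e, hc⟩ := (mk_commute_iff h3 hN hzo).1 (mem_centralizer_singleton_iff.1 hy)
    exact ⟨⟨g', mem_subgroupOf.2 (mem_centralizer_singleton_iff.2 hc)⟩, Subtype.ext e⟩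
  let f : Cz →* SL3 := T.B.matHom2.comp
    ((T.Nr.subtype.comp Cz.subtype).codRestrict T.S.HN fun g => T.HN_of_tz (T.mem_Nr.1 g.1.2).1 (hCz g))
  have hf : ψ.ker ≤ f.ker := fun g hg => by
    have hgR := (hker g.1).1 (congrArg Subtype.val (MonoidHom.mem_ker.1 hg))
    exact T.B.mat_L (Rt_z h3 hN hgR (hCz g))
  let π := ψ.liftOfSurjective hψ ⟨f, hf⟩
  have hπ : ∀ g, π (ψ g) = f g := MonoidHom.liftOfRightInverse_comp_apply _ _ _ ⟨f, hf⟩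
  have hxN : T.x ∈ T.Nr := T.H4_le_Nr (T.A_le_H4 (T.h.x_mem_J T.B T.hx) T.tx.symm)
  have hR : R ≤ centralizer ({T.zy} : Set T.Yq) := by
    rintro _ ⟨g, hg, rfl⟩
    exact mem_centralizer_singleton_iff.2 ((mk_commute_iff h3 hN hzo).2 ⟨g, rfl, D.comm_z _ (mem_subgroupOf.1 hg).1⟩)
  have hinjR : ∀ g g' : T.Nr, (g : G) ∈ T.S.Q2 → (g' : G) ∈ T.S.Q2 → q g = q g' → g = g' := fun g g' hg hg' e =>
    mul_inv_eq_one.1 (h3el (T.S.exp_two (T.S.Q2.mul_mem hg (T.S.Q2.inv_mem hg')))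
      (by rw [map_mul, map_inv, e, mul_inv_cancel]))
  have hkey : ∀ g : Cz, f g = 1 → q g.1 ∈ R := by
    intro g hg
    obtain ⟨l, hl, l', hl', i, u, hu, e⟩ := tz_cases h3 (T.mem_Nr.1 g.1.2).1 (hCz g)
    set m := T.B.matHom2 ⟨T.x, T.HN_of_tz T.tx.symm T.hx.1⟩
    have hl'H : l' ∈ T.S.HN := T.S.swap.HN_swap (T.S.swap.L_HN hl')
    have hm : T.B.matHom2 ⟨l', hl'H⟩ * m ^ i = 1 := by
      have e2 : (⟨((g : T.Nr) : G), T.HN_of_tz (T.mem_Nr.1 g.1.2).1 (hCz g)⟩ : T.S.HN) =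
          ⟨l, T.S.L_HN hl⟩ * ⟨l', hl'H⟩ * ⟨T.x, T.HN_of_tz T.tx.symm T.hx.1⟩ ^ i * ⟨u, T.S.Q_le_HN hu.1⟩ :=
        Subtype.ext e
      have h1 : f g = T.B.matHom2 _ := congrArg T.B.matHom2 e2
      rw [hg, map_mul, map_mul, map_mul, map_pow, T.B.mat_L hl,
        (T.B.mat_of_Q (g := ⟨u, T.S.Q_le_HN hu.1⟩) hu.1).2, one_mul, mul_one] at h1
      exact h1.symm
    have h4 : T.B.matHom2 ⟨l', hl'H⟩ ^ 4 = 1 := by
      rw [← map_pow, show (⟨l', hl'H⟩ : T.S.HN) ^ 4 = 1 from Subtype.ext (T.S.swap.L_four hl'), map_one]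
    have hm3 : (m ^ i) ^ 3 = 1 := by
      rw [← pow_mul, mul_comm, pow_mul, ← map_pow,
        show (⟨T.x, T.HN_of_tz T.tx.symm T.hx.1⟩ : T.S.HN) ^ 3 = 1 from Subtype.ext T.D'.z_cube, map_one, one_pow]
    have hmi : m ^ i = 1 := by
      refine eq_one_of_coprime (by decide : Nat.Coprime 4 3) ?_ hm3
      rw [eq_inv_of_mul_eq_one_right hm, inv_pow, h4, inv_one]
    have hl'1 : l' = 1 := T.S.swap.L_inj T.B.swap hl' T.S.swap.L.one_mem (by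
      rw [hmi, mul_one] at hm
      exact hm.trans (map_one T.B.swap.matHom).symm)
    have hxi : T.x ^ i = 1 := by
      refine orderOf_dvd_iff_pow_eq_one.1 ?_
      rw [T.D'.hz]
      have hm1 : m ≠ 1 := mat2_x
      have hm33 : m ^ 3 = 1 := by
        rw [← map_pow, show (⟨T.x, T.HN_of_tz T.tx.symm T.hx.1⟩ : T.S.HN) ^ 3 = 1 from Subtype.ext T.D'.z_cube,
          map_one]
      exact orderOf_eq_prime hm33 hm1 ▸ orderOf_dvd_of_pow_eq_one hmi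
    refine ⟨⟨u, hQN hu⟩, mem_subgroupOf.2 hu, ?_⟩
    symm
    rw [← mul_inv_eq_one, ← map_inv, ← map_mul, hker]
    show ((g : T.Nr) : G) * u⁻¹ ∈ _
    rw [e, hl'1, hxi, mul_one, mul_one, mul_inv_cancel_right]
    exact T.L_le_Rt hl
  have hS : ∀ g : Cz, f g = 1 ↔ q g.1 ∈ R := fun g => ⟨hkey g, fun ⟨u, hu, e⟩ => by
    have hd : ((g : T.Nr) : G) * (u : G)⁻¹ ∈ T.Rt := (hker (g.1 * u⁻¹)).1 (by rw [map_mul, map_inv, e, mul_inv_cancel])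
    have hu' := mem_subgroupOf.1 hu
    have hl := Rt_z h3 hN hd ((hCz g).mul_left (D.comm_z _ hu'.1).inv_left)
    have e2 : f g = T.B.matHom2 (⟨_, T.S.L_HN hl⟩ * ⟨(u : G), T.S.Q_le_HN hu'.1⟩) :=
      congrArg T.B.matHom2 (Subtype.ext (show ((g : T.Nr) : G) = ((g : T.Nr) : G) * (u : G)⁻¹ * u by group))
    rw [e2, map_mul, T.B.mat_L hl, (T.B.mat_of_Q (g := ⟨(u : G), T.S.Q_le_HN hu'.1⟩) hu'.1).2, one_mul]⟩
  suffices hY : ∃ Y : Cfsg.Lib.PSpThree.Data T.Yq, Y.a = T.zy ∧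
      (∀ g : T.Nr, (g : G) ∈ T.Apl → (g : T.Yq) ∈ Y.J) ∧
      (∀ y ∈ Y.J, ∃ g : T.Nr, (g : G) ∈ T.Apl ∧ (g : T.Yq) = y) by
    obtain ⟨Y, hYa, hY1, hY2⟩ := hY
    refine ⟨Y, hYa, hY1, hY2, ?_⟩
    intro M hMn hM
    obtain ⟨v, -, hv⟩ := T.exists_v 0 1
    obtain ⟨w, -, hva, hvt, -⟩ := exists_centralised h3 T.S.t_sq T.act_t hv trans_facts.2.1.1
    have hvN : v * w ∈ T.Nr := T.H4_le_Nr (T.H4_of_act hvt hva trans_facts.2.1.2)
    have hx : q ⟨T.x, hxN⟩ ∈ M := by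
      have h1 := comm_mem_of_three hM (q ⟨v * w, hvN⟩) (q ⟨T.B.a2, hQN T.B.ha2⟩)
      simp only [← map_inv, ← map_mul] at h1
      have e : (v * w) * T.B.a2 * (v * w)⁻¹ * T.B.a2⁻¹ = T.x * T.x := by
        rw [← T.cv_a2, hva.eq, trans_facts.2.2, T.cv_add, T.cv_add, T.cv_x, mul_inv_cancel_right]
      rw [show (⟨v * w, hvN⟩ : T.Nr) * ⟨T.B.a2, hQN T.B.ha2⟩ * ⟨v * w, hvN⟩⁻¹ * ⟨T.B.a2, hQN T.B.ha2⟩⁻¹ =
        ⟨T.x, hxN⟩ * ⟨T.x, hxN⟩ from Subtype.ext e] at h1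
      have h2 := mul_mem h1 h1
      rwa [← map_mul, show (⟨T.x, hxN⟩ : T.Nr) * ⟨T.x, hxN⟩ * (⟨T.x, hxN⟩ * ⟨T.x, hxN⟩) = ⟨T.x, hxN⟩ from Subtype.ext (by
        show T.x * T.x * (T.x * T.x) = T.x
        have e3 : T.x ^ 3 = 1 := T.D'.z_cube
        rw [pow_three] at e3
        rw [mul_assoc, e3, mul_one])] at h2
    have h4 : ∀ g : T.Nr, (g : G) ^ 4 = 1 → q g ∈ M := fun g hg =>
      mem_of_four hM (by rw [← map_pow, show g ^ 4 = 1 from Subtype.ext hg, map_one])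
    have hz : q ⟨D.z, T.z_mem_Nr⟩ ∈ M := by
      have h1 := comm_mem_of_three hM (q ⟨T.B.b2, hQN T.B.hb2⟩) (q ⟨T.B.a2, hQN T.B.ha2⟩)
      simp only [← map_inv, ← map_mul] at h1
      rwa [show (⟨T.B.b2, hQN T.B.hb2⟩ : T.Nr) * ⟨T.B.a2, hQN T.B.ha2⟩ * ⟨T.B.b2, hQN T.B.hb2⟩⁻¹ *
        ⟨T.B.a2, hQN T.B.ha2⟩⁻¹ = ⟨D.z, T.z_mem_Nr⟩ from Subtype.ext (by
          have := T.B.h2; rw [commutatorElement_def] at this; exact this)] at h1
    have hsN : T.S.s ∈ T.Nr := cent_z_mem h3 hN T.S.st T.S.s_z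
    have hQ2 : ∀ u, ∀ hu : u ∈ T.S.Q2, q ⟨u, hQN hu⟩ ∈ M := by
      intro u hu
      have h1 := comm_mem_of_three hM (q ⟨T.S.s, hsN⟩) (q ⟨u, hQN hu⟩)
      obtain ⟨k, hk⟩ := mem_zpowers_iff.1 (T.S.s_neg u hu)
      simp only [← map_inv, ← map_mul] at h1
      have h2 : q (⟨D.z, T.z_mem_Nr⟩ ^ k) ∈ M := by rw [map_zpow]; exact zpow_mem hz k
      have h3' := mul_mem (inv_mem h2) h1
      rw [← map_inv, ← map_mul] at h3'
      convert h3' using 2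
      refine Subtype.ext ?_
      show u = (D.z ^ k)⁻¹ * (T.S.s * u * T.S.s⁻¹ * u⁻¹)
      rw [hk]
      have hq3 := T.S.exp_two hu
      symm
      calc (T.S.s * u * T.S.s⁻¹ * u)⁻¹ * (T.S.s * u * T.S.s⁻¹ * u⁻¹) = u⁻¹ * u⁻¹ := by group
        _ = (u ^ 3)⁻¹ * u := by group
        _ = u := by rw [hq3]; group
    refine no_index_three Y (M := M) ?_ hM
    intro y hy
    obtain ⟨g, hg⟩ := hψ ⟨y, hYa ▸ hy⟩
    obtain ⟨l, hl, l', hl', i, u, hu, e⟩ := tz_cases h3 (T.mem_Nr.1 g.1.2).1 (hCz g)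
    have hy' : q g.1 = y := congrArg Subtype.val hg
    have hlN : l ∈ T.Nr := T.mem_Nr.2 ⟨(hblk.comm l (T.L_le_Rt hl)).symm, le_normalizer (T.L_le_Rt hl)⟩
    rw [← hy', show (g : T.Nr) = ⟨l, hlN⟩ * ⟨l', swapL_Nr h3 hN hl'⟩ * ⟨T.x, hxN⟩ ^ i * ⟨u, hQN hu⟩ from
      Subtype.ext e, map_mul, map_mul, map_mul, map_pow, (hker ⟨l, hlN⟩).2 (T.L_le_Rt hl), one_mul]
    exact mul_mem (mul_mem (h4 _ (T.S.swap.L_four hl')) (pow_mem hx i)) (hQ2 u hu)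

  refine ⟨{
    a := T.zy
    ha := orderOf_eq_prime (by
        rw [zy, ← QuotientGroup.mk_pow, show (⟨D.z, T.z_mem_Nr⟩ : T.Nr) ^ 3 = 1 from Subtype.ext D.z_cube]; rfl)
      fun e => D.z_ne (congrArg Subtype.val (h3el (g := ⟨D.z, T.z_mem_Nr⟩) D.z_cube e))
    R := R
    R_le := hR
    R_card := ?_
    R_exp := by
      rintro _ ⟨g, hg, rfl⟩
      rw [← map_pow, show g ^ 3 = 1 from Subtype.ext (T.S.exp_two (mem_subgroupOf.1 hg)), map_one]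
    a_mem := ⟨⟨D.z, T.z_mem_Nr⟩, mem_subgroupOf.2 (D.Zc_le_fixC T.S.t_z (mem_zpowers _)), rfl⟩
    R_center := ?_
    R_comm := ?_
    R_nab := ?_
    π := π
    surj := ?_
    ker := ?_
    J := J
    J_le := by
      rintro _ ⟨g, hg, rfl⟩
      exact mem_centralizer_singleton_iff.2 ((mk_commute_iff h3 hN hzo).2 ⟨g, rfl,
        T.h.comm_P T.B T.hx (T.h.J_le_P T.B T.hx (mem_subgroupOf.1 hg).1) (T.h.z_mem_J T.B T.hx)⟩)
    J_comm := by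
      rintro _ ⟨g, hg, rfl⟩ _ ⟨g', hg', rfl⟩
      rw [← map_mul, ← map_mul, show g * g' = g' * g from
        Subtype.ext (T.h.comm_P T.B T.hx (T.h.J_le_P T.B T.hx (mem_subgroupOf.1 hg).1) (mem_subgroupOf.1 hg').1).eq]
    J_exp := by
      rintro _ ⟨g, hg, rfl⟩
      rw [← map_pow, show g ^ 3 = 1 from Subtype.ext (hA3 _ (mem_subgroupOf.1 hg)), map_one]
    J_card := ?_
    sig := ?_ }, rfl, fun g hg => ⟨g, mem_subgroupOf.2 hg, rfl⟩,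
      fun y hy => by
        obtain ⟨g, hg, rfl⟩ := hy
        exact ⟨g, mem_subgroupOf.1 hg, rfl⟩⟩
  · have h := card_map_mul q (T.S.Q2.subgroupOf T.Nr)
    rw [show T.S.Q2.subgroupOf T.Nr ⊓ q.ker = ⊥ from (eq_bot_iff_forall _).2 fun g hg =>
        h3el (T.S.exp_two (mem_subgroupOf.1 hg.1)) hg.2, Subgroup.card_bot, mul_one,
      Nat.card_congr (subgroupOfEquivOfLe hQN).toEquiv, T.S.card₂] at h
    exact h
  · rintro _ ⟨g, hg, rfl⟩ h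
    have hg' := mem_subgroupOf.1 hg
    have hz : (g : G) ∈ D.Zc := T.S.swap.center_one hg' fun u hu => by
      have h1 := h _ ⟨⟨u, hQN hu⟩, mem_subgroupOf.2 hu, rfl⟩
      rw [← map_mul, ← map_mul] at h1
      exact congrArg Subtype.val (hinjR (g * ⟨u, hQN hu⟩) (⟨u, hQN hu⟩ * g) (T.S.Q2.mul_mem hg' (show u ∈ T.S.Q2 from hu))
        (T.S.Q2.mul_mem (show u ∈ T.S.Q2 from hu) hg') h1)
    obtain ⟨k, hk⟩ := mem_zpowers_iff.1 hz
    refine ⟨k, ?_⟩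
    show T.zy ^ k = q g
    rw [zy, ← QuotientGroup.mk_zpow]
    exact congrArg _ (Subtype.ext hk)
  · rintro _ ⟨g, hg, rfl⟩ _ ⟨g', hg', rfl⟩
    obtain ⟨k, hk⟩ := mem_zpowers_iff.1 (D.comm_form (mem_subgroupOf.1 hg).1 (mem_subgroupOf.1 hg').1)
    refine ⟨k, ?_⟩
    show T.zy ^ k = _
    rw [zy, ← QuotientGroup.mk_zpow, ← map_inv, ← map_inv, ← map_mul, ← map_mul, ← map_mul]
    exact congrArg _ (Subtype.ext hk)
  · refine ⟨_, ⟨⟨T.B.b2, hQN T.B.hb2⟩, mem_subgroupOf.2 T.B.hb2, rfl⟩, _,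
      ⟨⟨T.B.a2, hQN T.B.ha2⟩, mem_subgroupOf.2 T.B.ha2, rfl⟩, fun e => T.B.swap.notComm ?_⟩
    rw [← map_mul, ← map_mul] at e
    exact congrArg Subtype.val (hinjR _ _ (mul_mem T.B.hb2 T.B.ha2) (mul_mem T.B.ha2 T.B.hb2) e)
  · intro m
    have hu3 : T.B.matHom2 ⟨T.x, T.HN_of_tz T.tx.symm T.hx.1⟩ ^ 3 = 1 := by
      rw [← map_pow, show (⟨T.x, T.HN_of_tz T.tx.symm T.hx.1⟩ : T.S.HN) ^ 3 = 1 from Subtype.ext T.D'.z_cube, map_one]
    let xc : Cz := ⟨⟨T.x, hxN⟩, mem_subgroupOf.2 (mem_centralizer_singleton_iff.2 T.hx.1)⟩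
    obtain ⟨n, hn, hm⟩ := sl_quat.2.2.2.2.2 _ hu3 mat2_x m
    obtain ⟨l, hl, el⟩ := T.B.swap.exists_L hn
    let lc : Cz := ⟨⟨l, swapL_Nr h3 hN hl⟩, mem_subgroupOf.2 (mem_centralizer_singleton_iff.2 (T.S.swap.L_z hl))⟩
    have hlc : f lc = n := el
    rcases hm with e | e | e
    · exact ⟨ψ lc, by rw [hπ, hlc, e]⟩
    · exact ⟨ψ (lc * xc), by rw [hπ, map_mul, hlc, e]; rfl⟩
    · exact ⟨ψ (lc * (xc * xc)), by rw [hπ, map_mul, map_mul, hlc, e]; rfl⟩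
  · intro c
    obtain ⟨g, rfl⟩ := hψ c
    rw [hπ]
    exact hS g
  · have h := card_map_mul q (T.Apl.subgroupOf T.Nr)
    rw [show T.Apl.subgroupOf T.Nr ⊓ q.ker = ⊥ from (eq_bot_iff_forall _).2 fun g hg =>
        h3el (hA3 _ (mem_subgroupOf.1 hg.1)) hg.2, Subgroup.card_bot, mul_one,
      Nat.card_congr (subgroupOfEquivOfLe T.Apl_le_Nr).toEquiv, T.card_Apl] at h
    exact h
  · intro K hK hn
    set U := (K.comap q).map T.Nr.subtype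
    have hkc : Nat.card q.ker = 2 ^ 9 := by
      rw [QuotientGroup.ker_mk', Nat.card_congr (subgroupOfEquivOfLe (show T.Rt ≤ T.Nr from fun r hr =>
        T.mem_Nr.2 ⟨(hblk.comm r hr).symm, le_normalizer hr⟩)).toEquiv, hcard]
    have hUc : (Nat.card U).Coprime 3 := by
      rw [card_map_of_injective T.Nr.subtype_injective]
      have h := card_map_mul q (K.comap q)
      rw [map_comap_eq_self_of_surjective (QuotientGroup.mk'_surjective _),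
        inf_eq_right.2 fun g hg => mem_comap.2 (by rw [MonoidHom.mem_ker.1 hg]; exact one_mem K), hkc] at h
      rw [← h]
      exact Nat.Coprime.mul_left hK (by norm_num)
    have hnorm : ∀ a ∈ T.Apl, a ∈ normalizer (U : Set G) := fun a ha => mem_normalizer_of_conj_mem (by
      rintro _ ⟨u, hu, rfl⟩
      refine ⟨⟨a, T.Apl_le_Nr ha⟩ * u * ⟨a, T.Apl_le_Nr ha⟩⁻¹, mem_comap.2 ?_, rfl⟩
      rw [map_mul, map_mul, map_inv]
      exact (hn (q ⟨a, T.Apl_le_Nr ha⟩) ⟨_, mem_subgroupOf.2 ha, rfl⟩).le ⟨q u, mem_comap.1 hu, rfl⟩)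
    have hle : U ≤ T.Rt := le_Rt h3 hN hUc (fun u hu => by
        obtain ⟨u', -, rfl⟩ := hu
        exact (T.mem_Nr.1 u'.2).1)
      (hnorm _ ⟨T.h.z_mem_J T.B T.hx, mem_centralizer_singleton_iff.2 T.S.t_z.symm⟩)
      (hnorm _ ⟨T.cv_a2 ▸ T.cv_mem _, mem_centralizer_singleton_iff.2 (D.mem_fixC.1 T.B.ha2).2⟩)
    refine (eq_bot_iff_forall K).2 fun y hy => ?_
    obtain ⟨g, rfl⟩ := QuotientGroup.mk'_surjective T.Rn y
    exact (hker g).2 (hle ⟨g, mem_comap.2 hy, rfl⟩)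
end Setting

end Cfsg.Lib.U6Three
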