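import Cfsg.Agent.Lib.U6Three.Words

/-!
# Orbits of the normaliser on the plane, by bounded search in the kernel
-/

set_option autoImplicit false
set_option linter.unusedSectionVars false
set_option synthInstance.maxSize 4000

namespace Cfsg.Lib.U6Three

open Subgroup

/-- The value of the quadratic form. -/
def nrm (v : V4) : ZMod 3 := v.2.1 * v.2.1 + v.2.2.1 * v.2.2.1 - v.1 * v.2.2.2

/-- The vectors reached in a bounded number of steps. -/
def orb (gs : List Cols) (v : V4) : ℕ → List V4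
  | 0 => [v]
  | n + 1 => (orb gs v n ++ gs.flatMap fun m => (orb gs v n).map (app m)).dedup

/-- The generators of the action. -/
def gensAll : List Cols := [uM 1 0, uM 0 1, vM 1 0, vM 0 1, tM, sM]

/-- The generators commuting with the first involution. -/
def gensT : List Cols := [uM 0 1, uM 0 2, kM, sM]

theorem orb_n : ∀ v : V4, nrm v = 2 → v ∈ orb gensAll (0, 1, 1, 0) 4 := by decide +kernel

theorem orb_a : ∀ v : V4, v.2.1 = 0 → nrm v = 1 → v ∈ orb gensT (0, 0, 1, 0) 3 := by decide +kernel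

theorem orb_pt : ∀ j : ZMod 3, ptv 0 j ∈ orb gensT (1, 0, 0, 0) 2 := by decide +kernel

theorem nrm_facts : (∀ v : V4, IsPtv v → nrm v = 0) ∧ (∀ v : V4, v ≠ 0 → nrm v = 0 → IsPtv v) ∧
    (∀ v : V4, v ≠ 0 → v.2.1 = 0 → nrm v = 0 → ∃ e : ZMod 3, e ≠ 0 ∧
      (v = e • (1, 0, 0, 0) ∨ ∃ j, v = e • ptv 0 j)) := by
  refine ⟨?_, ?_, ?_⟩ <;> decide +kernel

namespace Setting

variable {G : Type*} [Group G] [Finite G] {D : Data G} {T : Setting D}

/-- Realised maps carry a vector to each vector of its orbit. -/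
theorem exists_of_orb {H : Subgroup G} {gs : List Cols}
    (hg : ∀ m ∈ gs, ∃ g ∈ H, T.Act g m) (v : V4) :
    ∀ n, ∀ w ∈ orb gs v n, ∃ g ∈ H, g ∈ normalizer (T.J : Set G) ∧ g * T.cv v * g⁻¹ = T.cv w := by
  intro n
  induction n with
  | zero =>
    intro w hw
    simp only [orb, List.mem_singleton] at hw
    exact ⟨1, H.one_mem, one_mem _, by rw [hw]; group⟩
  | succ n ih =>
    intro w hw
    simp only [orb, List.mem_dedup, List.mem_append, List.mem_flatMap, List.mem_map] at hw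
    rcases hw with hw | ⟨m, hm, u, hu, rfl⟩
    · exact ih w hw
    · obtain ⟨g, hgH, hgn, e⟩ := ih u hu
      obtain ⟨f, hfH, hf⟩ := hg m hm
      refine ⟨f * g, H.mul_mem hfH hgH, mul_mem hf.norm hgn, ?_⟩
      rw [← hf.eq, ← e]; group

theorem gensAll_act (T : Setting D) : ∀ m ∈ gensAll, ∃ g ∈ (⊤ : Subgroup G), T.Act g m := by
  intro m hm
  simp only [gensAll, List.mem_cons, List.not_mem_nil, or_false] at hm
  rcases hm with rfl | rfl | rfl | rfl | rfl | rfl
  · obtain ⟨q, -, h⟩ := T.exists_u 1 0; exact ⟨q, mem_top _, h⟩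
  · obtain ⟨q, -, h⟩ := T.exists_u 0 1; exact ⟨q, mem_top _, h⟩
  · obtain ⟨q, -, h⟩ := T.exists_v 1 0; exact ⟨q, mem_top _, h⟩
  · obtain ⟨q, -, h⟩ := T.exists_v 0 1; exact ⟨q, mem_top _, h⟩
  · exact ⟨_, mem_top _, T.act_t⟩
  · exact ⟨_, mem_top _, T.act_s⟩

theorem gensT_act (h3 : T.IsThree) :
    ∀ m ∈ gensT, ∃ g ∈ centralizer ({T.S.t} : Set G), T.Act g m := by
  intro m hm
  simp only [gensT, List.mem_cons, List.not_mem_nil, or_false] at hm
  rcases hm with rfl | rfl | rfl | rfl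
  · obtain ⟨q, hq, h⟩ := exists_u_Q2 h3 1
    exact ⟨q, mem_centralizer_singleton_iff.2 (D.mem_fixC.1 hq).2, h⟩
  · obtain ⟨q, hq, h⟩ := exists_u_Q2 h3 2
    exact ⟨q, mem_centralizer_singleton_iff.2 (D.mem_fixC.1 hq).2, h⟩
  · obtain ⟨k, h, hc⟩ := exists_k h3
    exact ⟨k, mem_centralizer_singleton_iff.2 hc, h⟩
  · exact ⟨_, mem_centralizer_singleton_iff.2 T.S.st, T.act_s⟩

/-- All elements of the second kind are conjugate under the normaliser. -/
theorem exists_n_conj (T : Setting D) {v : V4} (hv : nrm v = 2) :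
    ∃ g ∈ normalizer (T.J : Set G), g * (T.B.a1 * T.B.a2) * g⁻¹ = T.cv v := by
  obtain ⟨g, -, hg, e⟩ := exists_of_orb T.gensAll_act (0, 1, 1, 0) 4 v (orb_n v hv)
  refine ⟨g, hg, ?_⟩
  rw [← e, ← T.cv_a1, ← T.cv_a2, ← T.cv_add]
  rfl

/-- Elements of the second kind are only centralised inside the normaliser. -/
theorem cent_le_of_n (hn : centralizer ({T.B.a1 * T.B.a2} : Set G) ≤ normalizer (T.J : Set G))
    {v w : V4} (hv : nrm v = 2) (hw : nrm w = 2) {g : G} (e : g * T.cv v * g⁻¹ = T.cv w) :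
    g ∈ normalizer (T.J : Set G) := by
  obtain ⟨h1, h1n, e1⟩ := T.exists_n_conj hv
  obtain ⟨h2, h2n, e2⟩ := T.exists_n_conj hw
  have h : h2⁻¹ * g * h1 ∈ centralizer ({T.B.a1 * T.B.a2} : Set G) := mem_centralizer_singleton_iff.2
    (mul_inv_eq_iff_eq_mul.1 (by
      calc h2⁻¹ * g * h1 * (T.B.a1 * T.B.a2) * (h2⁻¹ * g * h1)⁻¹
          = h2⁻¹ * (g * (h1 * (T.B.a1 * T.B.a2) * h1⁻¹) * g⁻¹) * h2 := by group
        _ = T.B.a1 * T.B.a2 := by rw [e1, e, ← e2]; group))
  have := mul_mem (mul_mem h2n (hn h)) (inv_mem h1n)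
  rwa [show h2 * (h2⁻¹ * g * h1) * h1⁻¹ = g by group] at this

end Setting

end Cfsg.Lib.U6Three
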