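import Cfsg.Agent.Lib.U6Three.Core
import Cfsg.Agent.Lib.Core.Basic

/-!
# The centraliser of the involution and a vector of the second half
-/

set_option autoImplicit false
set_option linter.unusedSectionVars false
set_option linter.style.haveILetI false
set_option synthInstance.maxSize 4000

namespace Cfsg.Lib.U6Three

open Subgroup

theorem e0_cases : ∀ w : V4, IsPtv w → w.2.1 = 0 →
    (∀ c : ZMod 3, c ≠ 0 → ¬ IsPtv (w + c • (0, 0, 1, 0))) →
    ∃ e : ZMod 3, e ≠ 0 ∧ (w = e • (1, 0, 0, 0) ∨ w = e • (0, 0, 0, 1)) := by decide +kernel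

theorem e0_shift : ∀ e c : ZMod 3, e ≠ 0 → c ≠ 0 →
    ¬ IsPtv (e • (1, 0, 0, 0) + c • (0, 0, 1, 0)) ∧ ¬ IsPtv (e • (0, 0, 0, 1) + c • (0, 0, 1, 0)) := by decide +kernel

theorem q0_facts : app kM (1, 0, 2, 0) = (0, 0, 1, 0) ∧ app kM (1, 0, 0, 0) = (0, 0, 0, 1) := by decide +kernel

theorem sup_coprime {G : Type*} [Group G] [Finite G] {N A : Subgroup G} (hAN : A ≤ normalizer (N : Set G))
    (hN : (Nat.card N).Coprime 3) (hA : (Nat.card A).Coprime 3) :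
    (Nat.card (N ⊔ A : Subgroup G)).Coprime 3 := by
  set H := normalizer (N : Set G)
  have h := Cfsg.Lib.Core.card_sup_dvd_mul (A.subgroupOf H) (N.subgroupOf H)
  rw [← subgroupOf_sup hAN le_normalizer, Nat.card_congr (subgroupOfEquivOfLe (sup_le hAN le_normalizer)).toEquiv,
    Nat.card_congr (subgroupOfEquivOfLe hAN).toEquiv,
    Nat.card_congr (subgroupOfEquivOfLe (le_normalizer : N ≤ H)).toEquiv, sup_comm] at h
  exact (Nat.Coprime.mul_left hA hN).coprime_dvd_left h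

theorem pow_card {G : Type*} [Group G] [Finite G] {H : Subgroup G} {g : G} (hg : g ∈ H) : g ^ Nat.card H = 1 :=
  congrArg Subtype.val (pow_card_eq_one' (x := (⟨g, hg⟩ : H)))

namespace Setting

variable {G : Type*} [Group G] [Finite G] {D : Data G} {T : Setting D}

/-- Commuting with a conjugate of `z` by a nonzero exponent. -/
theorem commute_zp_z {g : G} {e : ZMod 3} (he : e ≠ 0) (h : Commute g (zp D.z e)) : Commute g D.z := by
  have := h.pow_right (e⁻¹).val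
  rwa [show zp D.z e ^ (e⁻¹).val = zp (zp D.z e) e⁻¹ from rfl, zp_zp D.z_cube, mul_inv_cancel₀ he, zp_one] at this

theorem q0_mem (T : Setting D) : T.cv (1, 0, 2, 0) ∈ T.S.Q2 ∧ T.cv (1, 0, 2, 0) ∉ D.Zc := by
  refine ⟨D.mem_fixC.2 ⟨by rw [T.cv_el]; exact T.B.el_mem _ _ _, ?_⟩, fun h => ?_⟩
  · have := T.el_conj 1 0 2
    rw [neg_zero] at this
    exact (mul_inv_eq_iff_eq_mul.1 this).symm
  · obtain ⟨k, hk⟩ := D.exists_zp h
    have hv : T.cv (T.ε⁻¹ * k, 0, 0, 0) = zp D.z k := by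
      rw [T.cv_el, ← mul_assoc, mul_inv_cancel₀ T.ε_ne, one_mul, Basis.el, zp_zero, zp_zero, mul_one, mul_one]
    have h2 := congrArg (fun v : V4 => v.2.2.1) (T.cv_inj (hk.trans hv.symm))
    exact (show ¬ ((2 : ZMod 3) = 0) by decide) h2

/-- Membership in the second component. -/
theorem mem_Lk (T : Setting D) {k : G} (hk : T.Act k kM) (hkt : Commute k T.S.t) {c : G} (hx : Commute c T.x)
    (ht : Commute c T.S.t) (ha : Commute c T.B.a2) {n : ℕ} (hn : c ^ n = 1) (hc : n.Coprime 3) :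
    c ∈ T.Lc k := by
  have e1 : k * T.cv (1, 0, 0, 0) * k⁻¹ = T.x := by rw [hk.eq, q0_facts.2, T.cv_x]
  have e2 : k * T.cv (1, 0, 2, 0) * k⁻¹ = T.B.a2 := by rw [hk.eq, q0_facts.1, T.cv_a2]
  refine ⟨k⁻¹ * c * k, T.S.mem_L_of_fix T.q0_mem.1 T.q0_mem.2 ?_ ((hkt.inv_left.mul_left ht).mul_left hkt) (n := n) ?_ hc ?_,
    by simp [mul_assoc]⟩
  · refine commute_zp_z T.ε_ne ?_
    rw [← T.cv_z]
    rw [← e1] at hx
    simpa [mul_assoc] using hx.map (MulAut.conj k⁻¹).toMonoidHom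
  · have := conj_pow (a := k⁻¹) (b := c) (i := n)
    rw [inv_inv] at this
    rw [this, hn]; group
  · rw [← e2] at ha
    simpa [mul_assoc] using ha.map (MulAut.conj k⁻¹).toMonoidHom

theorem comp_commute (T : Setting D) {k : G} (hk : T.Act k kM) (hkt : Commute k T.S.t) {c : G}
    (hc : c ∈ T.S.L ⊔ T.Lc k) : Commute c T.B.a2 ∧ Commute c T.S.t := by
  have e2 : k * T.cv (1, 0, 2, 0) * k⁻¹ = T.B.a2 := by rw [hk.eq, q0_facts.1, T.cv_a2]
  have h : T.S.L ⊔ T.Lc k ≤ centralizer ({T.B.a2} : Set G) ⊓ centralizer ({T.S.t} : Set G) := by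
    refine sup_le (fun l hl => ⟨mem_centralizer_singleton_iff.2 ((T.S.mem_L.1 hl).2 _ T.B.ha2).symm,
      mem_centralizer_singleton_iff.2 (T.S.L_t hl)⟩) ?_
    rintro _ ⟨l, hl, rfl⟩
    refine ⟨mem_centralizer_singleton_iff.2 ?_, mem_centralizer_singleton_iff.2
      ((hkt.mul_left (T.S.L_t hl)).mul_left hkt.inv_left)⟩
    rw [← e2]
    simpa [mul_assoc] using (((T.S.mem_L.1 hl).2 _ T.q0_mem.1).symm.map (MulAut.conj k).toMonoidHom).eq
  exact ⟨mem_centralizer_singleton_iff.1 (h hc).1, mem_centralizer_singleton_iff.1 (h hc).2⟩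

theorem A2_fixed (T : Setting D) {w : G}
    (hw : w ∈ zpowers D.z ⊔ zpowers T.x ⊔ zpowers T.B.a2) : w ∈ T.J ∧ Commute w T.S.t := by
  have h : zpowers D.z ⊔ zpowers T.x ⊔ zpowers T.B.a2 ≤ T.J ⊓ centralizer ({T.S.t} : Set G) := by
    refine sup_le (sup_le ?_ ?_) ?_ <;> rw [zpowers_le]
    · exact ⟨T.h.z_mem_J T.B T.hx, mem_centralizer_singleton_iff.2 T.S.t_z.symm⟩
    · exact ⟨T.h.x_mem_J T.B T.hx, mem_centralizer_singleton_iff.2 T.tx.symm⟩
    · exact ⟨T.cv_a2 ▸ T.cv_mem _, mem_centralizer_singleton_iff.2 (D.mem_fixC.1 T.B.ha2).2⟩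
  exact ⟨(h hw).1, mem_centralizer_singleton_iff.1 (h hw).2⟩

/-- An element fixing `a₂` and mapping `z` or `x` into the hyperplane permutes the two points. -/
theorem image_cases (T : Setting D) {n : G} (hn : Commute n T.B.a2) {v : V4} (hv : v = (1, 0, 0, 0) ∨ v = (0, 0, 0, 1))
    {w : G} (e : n * T.cv v * n⁻¹ = w) (hw : w ∈ zpowers D.z ⊔ zpowers T.x ⊔ zpowers T.B.a2) :
    ∃ e : ZMod 3, e ≠ 0 ∧ (w = zp (T.cv (1, 0, 0, 0)) e ∨ w = zp (T.cv (0, 0, 0, 1)) e) := by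
  obtain ⟨hwJ, hwt⟩ := T.A2_fixed hw
  obtain ⟨u, rfl⟩ := T.exists_cv hwJ
  have hvp : IsPtv v := by rcases hv with rfl | rfl <;> decide
  have hu := T.isPtv_of_conj (T.pt_of_isPtv hvp) e
  have hns : ∀ c : ZMod 3, c ≠ 0 → ¬ IsPtv (u + c • (0, 0, 1, 0)) := by
    intro c hc hp
    have hx : n⁻¹ * T.cv (u + c • (0, 0, 1, 0)) * n⁻¹⁻¹ = T.cv (v + c • (0, 0, 1, 0)) := by
      rw [T.cv_add, T.cv_add, T.cv_smul, T.cv_a2, ← e]
      have hcc := (zp_comm hn.symm c).eq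
      calc n⁻¹ * (n * T.cv v * n⁻¹ * zp T.B.a2 c) * n⁻¹⁻¹ = T.cv v * (n⁻¹ * (zp T.B.a2 c * n)) := by group
        _ = T.cv v * zp T.B.a2 c := by rw [hcc]; group
    have h2 := T.isPtv_of_conj (T.pt_of_isPtv hp) hx
    rcases hv with rfl | rfl
    · exact (e0_shift 1 c one_ne_zero hc).1 (by simpa using h2)
    · exact (e0_shift 1 c one_ne_zero hc).2 (by simpa using h2)
  obtain ⟨f, hf, rfl | rfl⟩ := e0_cases u hu (T.cv_fixed hwt) hns
  · exact ⟨f, hf, Or.inl (T.cv_smul _ _)⟩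
  · exact ⟨f, hf, Or.inr (T.cv_smul _ _)⟩

/-- Such elements normalise the product of the two components. -/
theorem norm_pair (T : Setting D) {k : G} (hk : T.Act k kM) (hkt : Commute k T.S.t) {n : G}
    (hn : Commute n T.B.a2) (hnt : Commute n T.S.t)
    (hA : ∀ v, v = (1, 0, 0, 0) ∨ v = (0, 0, 0, 1) → n * T.cv v * n⁻¹ ∈ zpowers D.z ⊔ zpowers T.x ⊔ zpowers T.B.a2) :
    n ∈ normalizer ((T.S.L ⊔ T.Lc k : Subgroup G) : Set G) := by
  have e1 : k * T.cv (1, 0, 0, 0) * k⁻¹ = T.x := by rw [hk.eq, q0_facts.2, T.cv_x]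
  have key : ∀ v, v = (1, 0, 0, 0) ∨ v = (0, 0, 0, 1) → ∀ c, Commute c (T.cv v) → Commute c T.B.a2 →
      Commute c T.S.t → c ^ 4 = 1 → n * c * n⁻¹ ∈ T.S.L ⊔ T.Lc k := by
    intro v hv c hcv hca hct hc4
    have h4 : (n * c * n⁻¹) ^ 4 = 1 := by rw [conj_pow, hc4]; group
    have hta : Commute (n * c * n⁻¹) T.B.a2 := (hn.mul_left hca).mul_left hn.inv_left
    have htt : Commute (n * c * n⁻¹) T.S.t := (hnt.mul_left hct).mul_left hnt.inv_left
    obtain ⟨e, he, h | h⟩ := T.image_cases hn hv rfl (hA v hv)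
    · refine mem_sup_left (T.S.mem_L_of_fix T.B.ha2 T.B.swap.a1_not_Zc ?_ htt h4 (by decide) hta)
      have hm := hcv.map (MulAut.conj n).toMonoidHom
      simp only [MulEquiv.toMonoidHom_eq_coe, MonoidHom.coe_coe, MulAut.conj_apply] at hm
      rw [h, T.cv_z, zp_zp D.z_cube] at hm
      exact commute_zp_z (mul_ne_zero T.ε_ne he) hm
    · refine mem_sup_right (T.mem_Lk hk hkt ?_ htt hta h4 (by decide))
      have hm := hcv.map (MulAut.conj n).toMonoidHom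
      simp only [MulEquiv.toMonoidHom_eq_coe, MonoidHom.coe_coe, MulAut.conj_apply] at hm
      rw [h, T.cv_x] at hm
      have := hm.pow_right (e⁻¹).val
      rwa [show zp T.x e ^ (e⁻¹).val = zp (zp T.x e) e⁻¹ from rfl, zp_zp T.D'.z_cube, mul_inv_cancel₀ he, zp_one] at this
  refine mem_normalizer_of_conj_mem fun c hc => ?_
  have hle : T.S.L ⊔ T.Lc k ≤ (T.S.L ⊔ T.Lc k).comap (MulAut.conj n).toMonoidHom := by
    refine sup_le (fun l hl => ?_) ?_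
    · exact key _ (Or.inl rfl) l (by rw [T.cv_z]; exact (zp_comm (T.S.L_z hl).symm T.ε).symm)
        ((T.S.mem_L.1 hl).2 _ T.B.ha2).symm (T.S.L_t hl) (T.S.L_four hl)
    · intro c hc
      obtain ⟨l, hl, rfl⟩ := hc
      obtain ⟨ha, ht⟩ := T.comp_commute hk hkt (mem_sup_right (S := T.S.L) ⟨l, hl, rfl⟩)
      refine key _ (Or.inr rfl) _ ?_ ha ht (by
        show (k * l * k⁻¹) ^ 4 = 1
        rw [conj_pow, T.S.L_four hl]; group)
      rw [T.cv_x, ← e1, T.cv_z]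
      simpa [mul_assoc] using ((zp_comm (T.S.L_z hl).symm T.ε).symm.map (MulAut.conj k).toMonoidHom)
  exact hle hc

/-- Factorisation of the elements of `C(a₂)` centralising the involution. -/
theorem exists_decomp (h3 : T.IsThree) (hN : T.NCond) {k : G} (hk : T.Act k kM) (hkt : Commute k T.S.t) {g : G}
    (hga : Commute g T.B.a2) (hgt : Commute g T.S.t) :
    ∃ v ∈ T.S.L ⊔ T.Lc k, ∃ n, g = v * n ∧ Commute n T.B.a2 ∧ Commute n T.S.t ∧
      ∀ m, m = n ∨ m = n⁻¹ → ∀ w, w = D.z ∨ w = T.x ∨ w = T.B.a2 →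
        m * w * m⁻¹ ∈ zpowers D.z ⊔ zpowers T.x ⊔ zpowers T.B.a2 := by
  obtain ⟨X, hXa, hM, hsm, hXJ⟩ := exists_swap_data h3 hN
  have htC : T.S.t ∈ T.swap.Ca := T.swap.mem_Ca.2 (D.mem_fixC.1 T.B.ha2).2.symm
  have hxC : T.x ∈ T.swap.Ca := T.swap.J_le_Ca (T.swap_J ▸ T.h.x_mem_J T.B T.hx)
  have hmk : ∀ {a b : T.swap.Ca}, Commute (a : G) b → Commute (a : T.swap.Xa) b := fun {a b} h => by
    show _ = _
    rw [← QuotientGroup.mk_mul, ← QuotientGroup.mk_mul]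
    exact congrArg _ (Subtype.ext h)
  obtain ⟨v', hv', n', hgn, hn'⟩ := Cfsg.Lib.U62Comm.centralizer_structure X hM hsm
    (t := ((⟨T.S.t, htC⟩ : T.swap.Ca) : T.swap.Xa)) (x := ((⟨T.x, hxC⟩ : T.swap.Ca) : T.swap.Xa))
    (g := ((⟨g, T.swap.mem_Ca.2 hga⟩ : T.swap.Ca) : T.swap.Xa))
    (by rw [← QuotientGroup.mk_mul, show (⟨T.S.t, htC⟩ : T.swap.Ca) * ⟨T.S.t, htC⟩ = 1 from Subtype.ext T.S.t_sq]; rfl)
    (by
      intro e
      obtain ⟨hQ, -⟩ := T.swap.a1_pow_Q (mem_subgroupOf.1 ((QuotientGroup.eq_one_iff _).1 e))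
      have ht1 := D.eq_one_of_sq hQ T.S.t_sq
      have hc := T.ta
      rw [show T.S.t = 1 from ht1, one_mul, inv_one, mul_one] at hc
      exact T.B.a1_not_Zc (D.mem_of_sq_mem T.B.ha1.1 (by
        nth_rewrite 2 [hc]; rw [mul_inv_cancel]; exact D.Zc.one_mem)))
    (by rw [hXa]; exact T.swap.commute_za.2 T.S.t_z) (hXJ _ (T.h.x_mem_J T.B T.hx))
    (by rw [hXa]; exact T.exists_za_conj hxC) (by rw [hXa]; exact T.x_not_za hxC)
    (hmk T.tx) ((T.commute_t_iff htC).2 hgt)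
  have hle : Subgroup.closure (Cfsg.Lib.U62Comm.compGen X.a ((⟨T.x, hxC⟩ : T.swap.Ca) : T.swap.Xa)
      ((⟨T.S.t, htC⟩ : T.swap.Ca) : T.swap.Xa)) ≤
      ((T.S.L ⊔ T.Lc k).subgroupOf T.swap.Ca).map (QuotientGroup.mk' T.swap.Aa) := by
    rw [closure_le]
    rintro y ⟨h4, hyt, hy⟩
    obtain ⟨c, rfl⟩ := QuotientGroup.mk_surjective y
    obtain ⟨b, hb⟩ : ∃ b ∈ zpowers T.B.a2, (c : G) ^ 4 = b := by
      rw [← QuotientGroup.mk_pow] at h4
      exact ⟨_, mem_subgroupOf.1 ((QuotientGroup.eq_one_iff (N := T.swap.Aa) _).1 h4), rfl⟩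
    have hb3 : b ^ 3 = 1 := by
      obtain ⟨i, rfl⟩ := mem_zpowers_iff.1 hb.1
      rw [← zpow_natCast, ← zpow_mul, mul_comm, zpow_mul, zpow_natCast, T.B.a2_cube, one_zpow]
    have h9 : ((c : G) ^ 9) ^ 4 = 1 := by
      rw [← pow_mul, show 9 * 4 = 4 * 3 * 3 by rfl, pow_mul, pow_mul, hb.2, hb3, one_pow]
    have hct := (T.commute_t_iff htC).1 hyt
    have hca : Commute (c : G) T.B.a2 := T.swap.mem_Ca.1 c.2
    refine ⟨c ^ 9, mem_subgroupOf.2 ?_, ?_⟩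
    · rw [coe_pow]
      rcases hy with hy | hy
      · rw [hXa] at hy
        exact mem_sup_left (T.S.mem_L_of_fix T.B.ha2 T.B.swap.a1_not_Zc ((T.swap.commute_za.1 hy).pow_left 9)
          (hct.pow_left 9) h9 (by decide) (hca.pow_left 9))
      · refine mem_sup_right (T.mem_Lk hk hkt (Commute.pow_left ?_ 9) (hct.pow_left 9) (hca.pow_left 9) h9 (by decide))
        have h1 := T.swap.mk_eq_iff.1 (hy : ((c * ⟨T.x, hxC⟩ : T.swap.Ca) : T.swap.Xa) = _)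
        obtain ⟨i, hi⟩ := mem_powers_iff_mem_zpowers.2 h1
        change T.B.a2 ^ i = ((c : G) * T.x)⁻¹ * (T.x * (c : G)) at hi
        have hshift : (c : G)⁻¹ * T.x * (c : G)⁻¹⁻¹ = T.cv ((0, 0, 0, 1) + (i : ZMod 3) • (0, 0, 1, 0)) := by
          rw [T.cv_add, T.cv_smul, T.cv_x, T.cv_a2, zp, ZMod.val_natCast, ← pow_eq_pow_mod i T.B.a2_cube, hi]
          group
        have h2 := T.isPtv_of_conj (v := (0, 0, 0, 1)) (w := (0, 0, 0, 1) + (i : ZMod 3) • (0, 0, 1, 0))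
          (g := (c : G)⁻¹) (T.pt_of_isPtv (by decide)) (by rw [T.cv_x]; exact hshift)
        have hi0 : (i : ZMod 3) = 0 := by
          by_contra hne
          exact (e0_shift 1 _ one_ne_zero hne).2 (by simpa using h2)
        rw [hi0, zero_smul, add_zero, T.cv_x, inv_inv] at hshift
        show (c : G) * T.x = T.x * c
        conv_lhs => rw [← hshift]
        group
    · show ((c ^ 9 : T.swap.Ca) : T.swap.Xa) = (c : T.swap.Xa)
      rw [QuotientGroup.mk_pow, show 9 = 4 + 4 + 1 from rfl, pow_succ, pow_add, h4, one_mul, one_mul]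
  obtain ⟨v, hv, rfl⟩ := hle hv'
  have hvLL := mem_subgroupOf.1 hv
  obtain ⟨hva, hvt⟩ := T.comp_commute hk hkt hvLL
  refine ⟨v, hvLL, (v : G)⁻¹ * g, (mul_inv_cancel_left _ _).symm, hva.inv_left.mul_left hga, hvt.inv_left.mul_left hgt, ?_⟩
  set n : T.swap.Ca := v⁻¹ * ⟨g, T.swap.mem_Ca.2 hga⟩ with hn
  have hnn : (n : T.swap.Xa) = n' := by
    rw [hn, QuotientGroup.mk_mul, QuotientGroup.mk_inv, hgn]
    exact inv_mul_cancel_left _ _
  have hnorm : n' ∈ normalizer ((zpowers X.a ⊔ zpowers ((⟨T.x, hxC⟩ : T.swap.Ca) : T.swap.Xa) :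
      Subgroup T.swap.Xa) : Set T.swap.Xa) := mem_normalizer_of_conj_mem hn'
  have hpre : ∀ c : T.swap.Ca, (c : T.swap.Xa) ∈ zpowers X.a ⊔ zpowers ((⟨T.x, hxC⟩ : T.swap.Ca) : T.swap.Xa) →
      (c : G) ∈ zpowers D.z ⊔ zpowers T.x ⊔ zpowers T.B.a2 := by
    intro c hc
    have hle : zpowers X.a ⊔ zpowers ((⟨T.x, hxC⟩ : T.swap.Ca) : T.swap.Xa) ≤
        ((zpowers D.z ⊔ zpowers T.x ⊔ zpowers T.B.a2).subgroupOf T.swap.Ca).map (QuotientGroup.mk' T.swap.Aa) := by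
      refine sup_le ?_ ?_ <;> rw [zpowers_le]
      · rw [hXa]
        exact ⟨⟨D.z, T.swap.z_mem_Ca⟩, mem_subgroupOf.2 (mem_sup_left (mem_sup_left (mem_zpowers _))), rfl⟩
      · exact ⟨_, mem_subgroupOf.2 (mem_sup_left (mem_sup_right (mem_zpowers _))), rfl⟩
    obtain ⟨d, hd, e⟩ := hle hc
    have h1 := T.swap.mk_eq_iff.1 e
    have h2 := mul_mem (mem_subgroupOf.1 hd) (mem_sup_right (S := zpowers D.z ⊔ zpowers T.x) (T := zpowers T.B.a2)
      (show ((d : G))⁻¹ * c ∈ zpowers T.B.a2 from h1))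
    rwa [mul_inv_cancel_left] at h2
  intro m hm w hw
  obtain ⟨m', hm', hmn, rfl⟩ : ∃ m' : T.swap.Ca, (m' : T.swap.Xa) ∈ normalizer ((zpowers X.a ⊔
      zpowers ((⟨T.x, hxC⟩ : T.swap.Ca) : T.swap.Xa) : Subgroup T.swap.Xa) : Set T.swap.Xa) ∧ True ∧ (m' : G) = m := by
    rcases hm with rfl | rfl
    · exact ⟨n, hnn.symm ▸ hnorm, trivial, rfl⟩
    · exact ⟨n⁻¹, by rw [QuotientGroup.mk_inv, hnn]; exact inv_mem hnorm, trivial, rfl⟩
  rcases hw with rfl | rfl | rfl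
  · refine hpre (m' * ⟨D.z, T.swap.z_mem_Ca⟩ * m'⁻¹) ?_
    rw [QuotientGroup.mk_mul, QuotientGroup.mk_mul, QuotientGroup.mk_inv]
    exact (mem_normalizer_iff.1 hm' _).1 (mem_sup_left (hXa ▸ mem_zpowers _))
  · refine hpre (m' * ⟨T.x, hxC⟩ * m'⁻¹) ?_
    rw [QuotientGroup.mk_mul, QuotientGroup.mk_mul, QuotientGroup.mk_inv]
    exact (mem_normalizer_iff.1 hm' _).1 (mem_sup_right (mem_zpowers _))
  · rw [(show Commute (m' : G) T.B.a2 from T.swap.mem_Ca.1 m'.2).eq, mul_inv_cancel_right]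
    exact mem_sup_right (mem_zpowers _)

end Setting

end Cfsg.Lib.U6Three
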