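import Cfsg.Agent.Lib.U6Three.Diag

/-!
# The elementary group of order 81 determined by two commuting points
-/

set_option autoImplicit false
set_option linter.unusedSectionVars false

namespace Cfsg.Lib.U6Three

open Subgroup
open scoped commutatorElement

/-- Coordinates. -/
abbrev V4 : Type := ZMod 3 × ZMod 3 × ZMod 3 × ZMod 3

/-- A function on the line with nonzero second difference. -/
def Quad (f : ZMod 3 → ZMod 3) : Prop := f 0 + f 1 + f 2 ≠ 0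

theorem shift_quad : ∀ m c : ZMod 3, c ≠ 0 → ∀ f1 f2 : ZMod 3,
    (∀ i : ZMod 3, (if i - c = 0 then 0 else if i - c = 1 then f1 else f2) =
      (if i = 0 then 0 else if i = 1 then f1 else f2) + i + m) → 0 + f1 + f2 ≠ 0 := by decide +kernel

theorem shift_exists : ∀ m c : ZMod 3, c ≠ 0 → ∀ i : ZMod 3,
    (m * (-(i - c) * c) + c * (-(i - c) * c) * (-(i - c) * c - 1)) =
      (m * (-i * c) + c * (-i * c) * (-i * c - 1)) + i + m := by decide +kernel

/-- The third value in terms of the second. -/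
def three (f1 f2 i : ZMod 3) : ZMod 3 := if i = 0 then 0 else if i = 1 then f1 else f2

/-- A pair of slopes avoiding the zeros of a separable quadratic. -/
def slopeOk (f1 f2 g1 g2 a b : ZMod 3) : Bool :=
  decide (∀ i j : ZMod 3, i ≠ 0 ∨ j ≠ 0 → three f1 f2 i + three g1 g2 j + i * a + j * b ≠ 0)

set_option synthInstance.maxSize 2000 in
set_option synthInstance.maxHeartbeats 200000 in
theorem quad_lines_aux : ∀ p : ZMod 3 × ZMod 3 × ZMod 3 × ZMod 3, p.1 + p.2.1 ≠ 0 → p.2.2.1 + p.2.2.2 ≠ 0 →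
    ∀ u v : ZMod 3 × ZMod 3, slopeOk p.1 p.2.1 p.2.2.1 p.2.2.2 u.1 u.2 = true →
      slopeOk p.1 p.2.1 p.2.2.1 p.2.2.2 v.1 v.2 = true → u = v := by decide +kernel

theorem quad_lines {f1 f2 g1 g2 : ZMod 3} (hf : f1 + f2 ≠ 0) (hg : g1 + g2 ≠ 0) (a b a' b' : ZMod 3)
    (h : ∀ i j : ZMod 3, i ≠ 0 ∨ j ≠ 0 →
      three f1 f2 i + three g1 g2 j + i * a + j * b ≠ 0 ∧ three f1 f2 i + three g1 g2 j + i * a' + j * b' ≠ 0) :
    a = a' ∧ b = b' :=
  Prod.mk.injEq _ _ _ _ ▸ quad_lines_aux (f1, f2, g1, g2) hf hg (a, b) (a', b')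
    (decide_eq_true fun i j hij => (h i j hij).1) (decide_eq_true fun i j hij => (h i j hij).2)

theorem three_eq : ∀ i : ZMod 3, i = 0 ∨ i = 1 ∨ i = 2 := by decide

theorem ite_three (f : ZMod 3 → ZMod 3) (h0 : f 0 = 0) (i : ZMod 3) :
    f i = three (f 1) (f 2) i := by
  unfold three
  rcases three_eq i with rfl | rfl | rfl
  · simp [h0]
  · simp
  · rw [if_neg (by decide), if_neg (by decide)]

namespace Pair

variable {G : Type*} [Group G] [Finite G] {D D' : Data G} (h : Pair D D') {S : Split D} (B : Basis S)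
  (hx : D'.z ∈ B.Stab)

include h hx

theorem comm_el (k i j : ZMod 3) : Commute D'.z (B.el k i j) :=
  ((zp_comm h.comm.symm k).symm.mul_right (zp_comm (h.full B hx).1.symm i).symm).mul_right
    (zp_comm (h.full B hx).2.symm j).symm

/-- The elements of `Q` fixed modulo the centre form the plane. -/
theorem mem_el {w : G} (hw : w ∈ D.Q) (hwx : ⁅D'.z, w⁆ ∈ D.Zc) : ∃ k i j, w = B.el k i j := by
  obtain ⟨c, hc, d, hd, ew⟩ := S.decomp w hw
  obtain ⟨u, hu, i, j, ec⟩ := B.normal_form hc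
  obtain ⟨v, hv, i', j', ed⟩ := B.swap.normal_form (show d ∈ S.swap.Q1 from hd)
  change d = v * zp B.a2 i' * zp B.b2 j' at ed
  set F := D.fixMod D'.z hx.1
  have hZF : ∀ {u : G}, u ∈ D.Zc → u ∈ F := fun hu => ⟨D.Zc_le hu, by
    rw [commutatorElement_eq_one_iff_commute.2 (D.comm_Zc hx.1 hu)]; exact D.Zc.one_mem⟩
  have hwF : w ∈ F := ⟨hw, hwx⟩
  set δ := w⁻¹ * (D'.z * w * D'.z⁻¹) with hδe
  have hδ : δ ∈ D.Zc := by
    rw [hδe, show w⁻¹ * (D'.z * w * D'.z⁻¹) = w⁻¹ * ⁅D'.z, w⁆ * w⁻¹⁻¹ by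
      simp only [commutatorElement_def]; group, (D.comm_Q_Zc (D.Q.inv_mem hw) hwx).eq, mul_inv_cancel_right]
    exact hwx
  have hxc : c⁻¹ * (D'.z * c * D'.z⁻¹) ∈ D.Zc := by
    refine S.inf_eq.le ⟨S.Q1.mul_mem (S.Q1.inv_mem hc) (B.norm_one hx c hc), ?_⟩
    have e : c⁻¹ * (D'.z * c * D'.z⁻¹) = d * δ * (D'.z * d * D'.z⁻¹)⁻¹ := by
      rw [eq_mul_inv_iff_mul_eq]
      calc c⁻¹ * (D'.z * c * D'.z⁻¹) * (D'.z * d * D'.z⁻¹) = c⁻¹ * (D'.z * (c * d) * D'.z⁻¹) := by group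
        _ = c⁻¹ * (w * δ) := by rw [← ew, hδe]; group
        _ = d * δ := by rw [ew]; group
    rw [e]
    exact S.Q2.mul_mem (S.Q2.mul_mem hd (D.Zc_le_fixC S.t_z hδ))
      (S.Q2.inv_mem (B.swap.norm_one (B.swap_Stab hx) d hd))
  have hcF : c ∈ F := ⟨hc.1, by
    rw [show ⁅D'.z, c⁆ = c * (c⁻¹ * (D'.z * c * D'.z⁻¹)) * c⁻¹ by simp only [commutatorElement_def]; group,
      (D.comm_Q_Zc hc.1 hxc).eq, mul_inv_cancel_right]
    exact hxc⟩
  have hdF : d ∈ F := by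
    have := F.mul_mem (F.inv_mem hcF) hwF
    rwa [ew, inv_mul_cancel_left] at this
  obtain ⟨hd1, hd2⟩ := h.diag B hx
  have hj : j = 0 := by
    by_contra hj
    have h' := F.mul_mem (F.inv_mem (F.mul_mem (hZF hu) (zp_mem (show B.a1 ∈ F from ⟨B.ha1.1, hx.2.1⟩) i))) hcF
    rw [ec, inv_mul_cancel_left] at h'
    have := zp_mem h' j⁻¹
    rw [zp_zp B.b1_cube, mul_inv_cancel₀ hj, zp_one] at this
    exact hd1 (B.k1_eq _ (by simpa [zp_zero] using this.2))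
  have hj' : j' = 0 := by
    by_contra hj'
    have h' := F.mul_mem (F.inv_mem (F.mul_mem (hZF hv) (zp_mem (show B.a2 ∈ F from ⟨B.ha2.1, hx.2.2⟩) i'))) hdF
    rw [ed, inv_mul_cancel_left] at h'
    have := zp_mem h' j'⁻¹
    rw [zp_zp B.b2_cube, mul_inv_cancel₀ hj', zp_one] at this
    exact hd2 (B.swap.k1_eq ⟨D'.z, B.swap_Stab hx⟩
      (show ⁅D'.z, B.b2⁆ * (zp B.a2 0)⁻¹ ∈ D.Zc by simpa [zp_zero] using this.2))
  subst hj hj'
  rw [zp_zero, mul_one] at ec ed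
  obtain ⟨k1, rfl⟩ := D.exists_zp hu
  obtain ⟨k2, rfl⟩ := D.exists_zp hv
  refine ⟨k1 + k2, i, i', ?_⟩
  rw [ew, ec, ed, Basis.el, zp_add D.z_cube, mul_assoc (zp D.z k1) (zp B.a1 i), ← mul_assoc (zp B.a1 i),
    ((zp_comm (D.comm_z _ (zp_mem B.ha1.1 i)).symm k2).symm).eq]
  group

/-- The orbit of the point under `Q`. -/
theorem orbit : ∃ f g : ZMod 3 → ZMod 3, f 0 = 0 ∧ g 0 = 0 ∧ Quad f ∧ Quad g ∧
    ∀ i j, ∃ q ∈ D.Q, q * D'.z * q⁻¹ = B.el (f i + g j) i j * D'.z := by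
  obtain ⟨hd1, hd2⟩ := h.diag B hx
  obtain ⟨m1, hm1⟩ := B.step_conj hx
  obtain ⟨m2, hm2⟩ := B.swap.step_conj (B.swap_Stab hx)
  set c1 := B.k1 ⟨_, hx⟩
  set c2 := B.k2 ⟨_, hx⟩
  let F : ZMod 3 → ZMod 3 → ZMod 3 → ZMod 3 := fun m c i => m * (-i * c) + c * (-i * c) * (-i * c - 1)
  have hF0 : ∀ m c, F m c 0 = 0 := fun m c => by simp [F]
  have hFs : ∀ m c, c ≠ 0 → ∀ i, F m c (i - c) = F m c i + i + m := fun m c hc i => shift_exists m c hc i
  have hFq : ∀ m c, c ≠ 0 → Quad (F m c) := fun m c hc => by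
    unfold Quad
    rw [hF0]
    exact shift_quad m c hc _ _ (fun i => by
      show three _ _ _ = three _ _ _ + i + m; rw [← ite_three _ (hF0 m c), ← ite_three _ (hF0 m c)]; exact hFs m c hc i)
  refine ⟨F m1 c1, F m2 c2, hF0 _ _, hF0 _ _, hFq _ _ hd1, hFq _ _ hd2, ?_⟩
  set R : ZMod 3 → ZMod 3 → ZMod 3 → Prop := fun k i j => ∃ q ∈ D.Q, q * D'.z * q⁻¹ = B.el k i j * D'.z with hR
  have hnext : ∀ {q r e e' : G}, q * D'.z * q⁻¹ = e → r * e * r⁻¹ = e' → (r * q) * D'.z * (r * q)⁻¹ = e' :=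
    fun {q r e e'} h1 h2 => by rw [← h2, ← h1]; group
  have h1 : ∀ i, R (F m1 c1 i + F m2 c2 0) i 0 :=
    zp_step (P := fun i => R (F m1 c1 i + F m2 c2 0) i 0) hd1
      ⟨1, D.Q.one_mem, by rw [hF0, hF0, add_zero, B.el_zero]; group⟩
      (fun i ⟨q, hq, e⟩ => by
        rw [hF0, add_zero] at e
        refine ⟨B.b1 * q, D.Q.mul_mem B.hb1.1 hq, ?_⟩
        rw [hnext e (hm1 i 0 _), hFs _ _ hd1, hF0, add_zero])
  intro i j
  refine zp_step (P := fun j => R (F m1 c1 i + F m2 c2 j) i j) hd2 (h1 i) (fun j ⟨q, hq, e⟩ => ?_) j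
  have e2 := hm2 j i (F m1 c1 i + F m2 c2 j)
  rw [Basis.el_swap, Basis.el_swap] at e2
  refine ⟨B.swap.b1 * q, D.Q.mul_mem B.hb2.1 hq, ?_⟩
  rw [hnext e e2, hFs _ _ hd2, show F m1 c1 i + (F m2 c2 j + j + m2) = F m1 c1 i + F m2 c2 j + j + m2 by ring]
  rfl

theorem orbit_pt {f g : ZMod 3 → ZMod 3} {i j : ZMod 3}
    (ho : ∃ q ∈ D.Q, q * D'.z * q⁻¹ = B.el (f i + g j) i j * D'.z) : Pt D.z (B.el (f i + g j) i j * D'.z) := by
  obtain ⟨q, -, e⟩ := ho
  exact e ▸ h.pt.conj q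

/-- The coordinate map. -/
def vec : Multiplicative V4 →* G where
  toFun v := B.el v.toAdd.1 v.toAdd.2.1 v.toAdd.2.2.1 * zp D'.z v.toAdd.2.2.2
  map_one' := by simp [Basis.el, zp_zero]
  map_mul' p q := by
    set k := p.toAdd.1
    set i := p.toAdd.2.1
    set j := p.toAdd.2.2.1
    set l := p.toAdd.2.2.2
    set k' := q.toAdd.1
    set i' := q.toAdd.2.1
    set j' := q.toAdd.2.2.1
    set l' := q.toAdd.2.2.2
    show B.el (k + k') (i + i') (j + j') * zp D'.z (l + l') = B.el k i j * zp D'.z l * (B.el k' i' j' * zp D'.z l')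
    have c1 : Commute (zp D'.z l) (B.el k' i' j') := zp_comm (h.comm_el B hx k' i' j') l
    have hadd : B.el (k + k') (i + i') (j + j') = B.el k i j * B.el k' i' j' := by
      have ca := fun m n : ZMod 3 => (zp_comm (zp_comm B.comm_a m).symm n : Commute (zp B.a2 n) (zp B.a1 m))
      have cz := fun {q : G} (hq : q ∈ D.Q) (m : ZMod 3) => ((zp_comm (D.comm_z q hq).symm m).symm : Commute q (zp D.z m))
      simp only [Basis.el, zp_add D.z_cube, zp_add B.a1_cube, zp_add B.a2_cube]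
      calc zp D.z k * zp D.z k' * (zp B.a1 i * zp B.a1 i') * (zp B.a2 j * zp B.a2 j')
          = zp D.z k * zp D.z k' * zp B.a1 i * (zp B.a1 i' * zp B.a2 j) * zp B.a2 j' := by group
        _ = zp D.z k * (zp D.z k' * (zp B.a1 i * zp B.a2 j)) * zp B.a1 i' * zp B.a2 j' := by
          rw [← (ca i' j).eq]; group
        _ = zp D.z k * zp B.a1 i * zp B.a2 j * (zp D.z k' * zp B.a1 i' * zp B.a2 j') := by
          rw [← (cz (D.Q.mul_mem (zp_mem B.ha1.1 i) (zp_mem B.ha2.1 j)) k').eq]; group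
    rw [hadd, zp_add D'.z_cube]
    calc B.el k i j * B.el k' i' j' * (zp D'.z l * zp D'.z l')
        = B.el k i j * (B.el k' i' j' * zp D'.z l) * zp D'.z l' := by group
      _ = _ := by rw [← c1.eq]; group

theorem vec_apply (v : V4) : h.vec B hx (Multiplicative.ofAdd v) = B.el v.1 v.2.1 v.2.2.1 * zp D'.z v.2.2.2 := rfl

theorem vec_inj : Function.Injective (h.vec B hx) := by
  rw [injective_iff_map_eq_one]
  intro p e
  obtain ⟨⟨k, i, j, l⟩, rfl⟩ := Multiplicative.ofAdd.surjective p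
  rw [h.vec_apply] at e
  dsimp only at e
  have hl : l = 0 := by
    by_contra hl
    exact h.zp_not_mem hl (by rw [eq_inv_of_mul_eq_one_right e]; exact D.Q.inv_mem (B.el_mem _ _ _))
  subst hl
  rw [zp_zero, mul_one] at e
  obtain ⟨rfl, rfl, rfl⟩ := B.el_eq_one e
  rfl

/-- The group of order 81. -/
def J : Subgroup G := (h.vec B hx).range

theorem card_J : Nat.card (h.J B hx) = 81 := by
  rw [J, ← Nat.card_congr (MonoidHom.ofInjective (h.vec_inj B hx)).toEquiv]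
  simp [ZMod.card, Nat.card_eq_fintype_card]

theorem el_mem_J (k i j : ZMod 3) : B.el k i j ∈ h.J B hx :=
  ⟨Multiplicative.ofAdd (k, i, j, 0), by rw [h.vec_apply]; simp [zp_zero]⟩

theorem x_mem_J : D'.z ∈ h.J B hx :=
  ⟨Multiplicative.ofAdd (0, 0, 0, 1), by rw [h.vec_apply, B.el_zero, one_mul, zp_one]⟩

theorem z_mem_J : D.z ∈ h.J B hx := by
  simpa [Basis.el, zp_zero, zp_one] using h.el_mem_J B hx 1 0 0

/-- An element of `Q'` centralising `z` lies in the group. -/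
theorem mem_J_of_Q' {w : G} (hw : w ∈ D'.Q) (hwz : Commute w D.z) : w ∈ h.J B hx := by
  obtain ⟨S'⟩ := D'.exists_split
  obtain ⟨B', hz⟩ := h.symm.exists_basis S'
  have hmem : ∀ k i j, B'.el k i j ∈ B.Stab := fun k i j => h.mem_Stab B hx (h.symm.comm_el B' hz k i j).symm
    (D'.comm_z _ (B'.el_mem _ _ _)) ⟨1, by rw [pow_one]; exact S'.exp_Q (B'.el_mem _ _ _)⟩
  obtain ⟨f, g, f0, g0, hf, hg, horb⟩ := h.symm.orbit B' hz
  obtain ⟨hd1, hd2⟩ := h.diag B hx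
  set c1 := B.k1 ⟨_, hx⟩
  set c2 := B.k2 ⟨_, hx⟩
  set α : B.Stab := ⟨B'.el 0 1 0, hmem _ _ _⟩
  set β : B.Stab := ⟨B'.el 0 0 1, hmem _ _ _⟩
  have hxk : ∀ k, zp D'.z k ∈ B.Stab := fun k => zp_mem hx k
  have ecoord : ∀ k i j : ZMod 3, (⟨B'.el k i j, hmem k i j⟩ : B.Stab) =
      ⟨_, hxk k⟩ * ⟨_, zp_mem α.2 i⟩ * ⟨_, zp_mem β.2 j⟩ := fun k i j => Subtype.ext (by
    show B'.el k i j = zp D'.z k * zp (B'.el 0 1 0) i * zp (B'.el 0 0 1) j
    simp [Basis.el, zp_zero, zp_one])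
  have e1 : ∀ k i j, B.k1 ⟨B'.el k i j, hmem k i j⟩ = k * c1 + i * B.k1 α + j * B.k1 β := fun k i j => by
    rw [ecoord, B.k1_mul, B.k1_mul, B.k1_zp ⟨_, hx⟩ k, B.k1_zp α i, B.k1_zp β j]
  have e2 : ∀ k i j, B.k2 ⟨B'.el k i j, hmem k i j⟩ = k * c2 + i * B.k2 α + j * B.k2 β := fun k i j => by
    rw [ecoord, B.k2_mul, B.k2_mul, B.k2_zp ⟨_, hx⟩ k, B.k2_zp α i, B.k2_zp β j]
  have hlines := quad_lines (f1 := f 1) (f2 := f 2) (g1 := g 1) (g2 := g 2) (by simpa [Quad, f0] using hf) (by simpa [Quad, g0] using hg)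
    (B.k1 α * c1⁻¹) (B.k1 β * c1⁻¹) (B.k2 α * c2⁻¹) (B.k2 β * c2⁻¹) (fun i j hij => by
      rw [← ite_three f f0, ← ite_three g g0]
      set y := B'.el (f i + g j) i j * D.z with hy
      have hyp : Pt D.z y := (Pt.iff_of_pt h.pt).1 (h.symm.orbit_pt B' hz (horb i j))
      have hyz : Commute y D.z := (h.symm.comm_el B' hz _ _ _).symm.mul_left (Commute.refl _)
      have hyQ : y ∉ D.Q := fun hq => by
        have h1 : B'.el (f i + g j) i j ∈ D.Zc := by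
          have := D.Zc.mul_mem (D.pt_mem_Q hyp hq) (D.Zc.inv_mem (mem_zpowers _))
          rwa [hy, mul_inv_cancel_right] at this
        have h2 := h.symm.Zc_inf _ h1 (B'.el_mem _ _ _)
        obtain ⟨-, u, v⟩ := B'.el_eq_one h2
        rcases hij with hh | hh
        exacts [hh u, hh v]
      obtain ⟨D'', hD''⟩ := D.exists_view hyp
      have h'' : Pair D D'' := ⟨by rw [hD'']; exact hyp, by rw [hD'']; exact hyz, by rw [hD'']; exact hyQ⟩
      have hyS : y ∈ B.Stab := B.Stab.mul_mem (hmem _ _ _) (B.Q_le_Stab D.z_mem)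
      obtain ⟨u1, u2⟩ := h''.diag B (hx := by rw [hD'']; exact hyS)
      rw [show (⟨D''.z, _⟩ : B.Stab) = ⟨_, hmem (f i + g j) i j⟩ * ⟨_, B.Q_le_Stab D.z_mem⟩ from Subtype.ext hD'',
        B.k1_mul, B.k1_of_Q D.z_mem, add_zero, e1] at u1
      rw [show (⟨D''.z, _⟩ : B.Stab) = ⟨_, hmem (f i + g j) i j⟩ * ⟨_, B.Q_le_Stab D.z_mem⟩ from Subtype.ext hD'',
        B.k2_mul, B.k2_of_Q D.z_mem, add_zero, e2] at u2
      constructor
      · intro e
        refine u1 ?_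
        have := congrArg (· * c1) e
        simp only [zero_mul, add_mul, mul_assoc, inv_mul_cancel₀ hd1, mul_one] at this
        rw [← this]; ring
      · intro e
        refine u2 ?_
        have := congrArg (· * c2) e
        simp only [zero_mul, add_mul, mul_assoc, inv_mul_cancel₀ hd2, mul_one] at this
        rw [← this]; ring)
  obtain ⟨k, i, j, rfl⟩ := h.symm.mem_el B' hz hw (by
    rw [commutatorElement_eq_one_iff_commute.2 hwz.symm]; exact D'.Zc.one_mem)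
  set m := k + i * (B.k1 α * c1⁻¹) + j * (B.k1 β * c1⁻¹) with hm
  have hm1 : B.k1 ⟨_, hmem k i j⟩ = m * c1 := by
    rw [e1, hm, add_mul, add_mul, mul_assoc i, inv_mul_cancel_right₀ hd1, mul_assoc j, inv_mul_cancel_right₀ hd1]
  have hm2 : B.k2 ⟨_, hmem k i j⟩ = m * c2 := by
    rw [e2, hm, hlines.1, hlines.2, add_mul, add_mul, mul_assoc i, inv_mul_cancel_right₀ hd2, mul_assoc j,
      inv_mul_cancel_right₀ hd2]
  set q := B'.el k i j * zp D'.z (-m) with hq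
  have hqS : q ∈ B.Stab := B.Stab.mul_mem (hmem _ _ _) (hxk _)
  have hqQ : q ∈ D.Q := B.kappa_eq_one.1 (show B.kappa ⟨q, hqS⟩ = 1 by
    show Multiplicative.ofAdd (B.k1 _, B.k2 _) = 1
    rw [show (⟨q, hqS⟩ : B.Stab) = ⟨_, hmem k i j⟩ * ⟨_, hxk (-m)⟩ from rfl, B.k1_mul, B.k2_mul,
      B.k1_zp ⟨_, hx⟩ (-m), B.k2_zp ⟨_, hx⟩ (-m), hm1, hm2, neg_mul, neg_mul, add_neg_cancel, add_neg_cancel]
    rfl)
  have hqx : Commute q D'.z := (D'.comm_z _ (B'.el_mem _ _ _)).mul_left (zp_comm (Commute.refl _) _)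
  obtain ⟨k', i', j', e⟩ := h.mem_el B hx hqQ (by
    rw [commutatorElement_eq_one_iff_commute.2 hqx.symm]; exact D.Zc.one_mem)
  refine ⟨Multiplicative.ofAdd (k', i', j', m), ?_⟩
  rw [h.vec_apply]
  dsimp only
  rw [← e, hq, mul_assoc, ← zp_add D'.z_cube, neg_add_cancel, zp_zero, mul_one]

/-- The group seen from the other point is the same. -/
theorem J_symm {S' : Split D'} (B' : Basis S') (hz : D.z ∈ B'.Stab) : h.symm.J B' hz = h.J B hx := by
  refine Subgroup.eq_of_le_of_card_ge ?_ (by rw [h.card_J B hx, h.symm.card_J B' hz])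
  rintro _ ⟨p, rfl⟩
  exact (h.J B hx).mul_mem (h.mem_J_of_Q' B hx (B'.el_mem _ _ _) (h.symm.comm_el B' hz _ _ _).symm)
    (zp_mem (h.z_mem_J B hx) _)

end Pair

end Cfsg.Lib.U6Three
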