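import Cfsg.Agent.Lib.U6Three.Frame

/-!
# A second point in the centraliser: both components nontrivial, both lines centralised
-/

set_option autoImplicit false
set_option linter.unusedSectionVars false
set_option linter.style.haveILetI false

namespace Cfsg.Lib.U6Three

open Subgroup
open scoped commutatorElement

theorem kappa_exists_axis : ∀ x f : ZMod 3 × ZMod 3, x.1 ≠ 0 → x.2 ≠ 0 → (∀ m : ZMod 3, f ≠ (m * x.1, m * x.2)) →
    ∃ m : ZMod 3, (f.1 + m * x.1 = 0 ∧ f.2 + m * x.2 ≠ 0) ∨ (f.1 + m * x.1 ≠ 0 ∧ f.2 + m * x.2 = 0) := by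
  decide

theorem zp_nat {G : Type*} [Group G] {a : G} (ha : a ^ 3 = 1) (n : ℕ) : zp a (n : ZMod 3) = a ^ n := by
  rw [zp, ZMod.val_natCast, ← pow_eq_pow_mod n ha]

theorem zp_zp {G : Type*} [Group G] {a : G} (ha : a ^ 3 = 1) (i j : ZMod 3) : zp (zp a i) j = zp a (i * j) := by
  rw [zp, zp, ← pow_mul, ← zp_nat ha, Nat.cast_mul, ZMod.natCast_zmod_val, ZMod.natCast_zmod_val]

theorem zp_mul {G : Type*} [Group G] {a b : G} (h : Commute a b) (k : ZMod 3) : zp (a * b) k = zp a k * zp b k :=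
  h.mul_pow _

namespace Data

variable {G : Type*} [Group G] [Finite G] (D : Data G)

/-- The data at a conjugate. -/
def conjBy (g : G) : Data G where
  z := g * D.z * g⁻¹
  hz := by
    rw [← D.hz]; exact orderOf_injective (MulAut.conj g).toMonoidHom (MulAut.conj g).injective D.z
  Q := D.Q.map (MulAut.conj g).toMonoidHom
  card_Q := by rw [Subgroup.card_map_of_injective (MulAut.conj g).injective, D.card_Q]
  z_mem := ⟨D.z, D.z_mem, rfl⟩
  comm_z := by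
    rintro _ ⟨q, hq, rfl⟩
    exact (D.comm_z q hq).map (MulAut.conj g).toMonoidHom
  norm_Q := by
    rintro h hh _ ⟨q, hq, rfl⟩
    refine ⟨g⁻¹ * h * g * q * (g⁻¹ * h * g)⁻¹, D.norm_Q _ ?_ q hq, by
      show g * (g⁻¹ * h * g * q * (g⁻¹ * h * g)⁻¹) * g⁻¹ = h * (g * q * g⁻¹) * h⁻¹; group⟩
    have := hh.map (MulAut.conj g⁻¹).toMonoidHom
    simpa [mul_assoc] using this
  center_Q := by
    rintro _ ⟨x, hx, rfl⟩ h
    obtain ⟨k, hk⟩ := mem_zpowers_iff.1 (D.center_Q x hx fun y hy =>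
      Commute.of_map (MulAut.conj g).injective (h _ ⟨y, hy, rfl⟩))
    exact mem_zpowers_iff.2 ⟨k, by subst hk; exact (map_zpow (MulAut.conj g).toMonoidHom D.z k).symm⟩
  comm_Q := by
    rintro _ ⟨x, hx, rfl⟩ _ ⟨y, hy, rfl⟩
    obtain ⟨k, hk⟩ := mem_zpowers_iff.1 (D.comm_Q x hx y hy)
    refine mem_zpowers_iff.2 ⟨k, ?_⟩
    rw [← map_commutatorElement, ← hk]
    exact (map_zpow (MulAut.conj g).toMonoidHom D.z k).symm
  cube_Q := by
    rintro _ ⟨x, hx, rfl⟩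
    obtain ⟨k, hk⟩ := mem_zpowers_iff.1 (D.cube_Q x hx)
    refine mem_zpowers_iff.2 ⟨k, ?_⟩
    rw [← map_pow, ← hk]
    exact (map_zpow (MulAut.conj g).toMonoidHom D.z k).symm
  cent_Q := by
    intro h hh hc
    have hh' : Commute (g⁻¹ * h * g) D.z := by
      have := hh.map (MulAut.conj g⁻¹).toMonoidHom
      simpa [mul_assoc] using this
    obtain ⟨k, hk⟩ := mem_zpowers_iff.1 (D.cent_Q _ hh' fun q hq => by
      have := (hc _ ⟨q, hq, rfl⟩).map (MulAut.conj g⁻¹).toMonoidHom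
      simpa [mul_assoc] using this)
    refine mem_zpowers_iff.2 ⟨k, ?_⟩
    rw [show h = g * (g⁻¹ * h * g) * g⁻¹ by group, ← hk, conj_zpow]
  ι := (MulAut.conj g).toMonoidHom.comp D.ι
  ι_inj := (MulAut.conj g).injective.comp D.ι_inj
  ι_z := fun p => (D.ι_z p).map (MulAut.conj g).toMonoidHom
  ι_normal := by
    intro h hh p
    have hh' : Commute (g⁻¹ * h * g) D.z := by
      have := hh.map (MulAut.conj g⁻¹).toMonoidHom
      simpa [mul_assoc] using this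
    obtain ⟨p', hp⟩ := D.ι_normal _ hh' p
    refine ⟨p', _, hp, ?_⟩
    show g * ((D.ι p')⁻¹ * (g⁻¹ * h * g * D.ι p * (g⁻¹ * h * g)⁻¹)) * g⁻¹ =
      (g * D.ι p' * g⁻¹)⁻¹ * (h * (g * D.ι p * g⁻¹) * h⁻¹)
    group
  wc := by
    rintro h ⟨q, hq, e⟩
    change g * q * g⁻¹ = h * (g * D.z * g⁻¹) * h⁻¹ at e
    have e' : g⁻¹ * h * g * D.z * (g⁻¹ * h * g)⁻¹ = q := by
      rw [show q = g⁻¹ * (g * q * g⁻¹) * g by group, e]; group
    obtain ⟨k, hk⟩ := mem_zpowers_iff.1 (D.wc _ (e' ▸ hq))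
    refine mem_zpowers_iff.2 ⟨k, ?_⟩
    rw [← e, conj_zpow, hk, e']
  nwc := by
    obtain ⟨a, ha, ha'⟩ := D.nwc
    refine ⟨g * a * g⁻¹, ?_, fun h => ha' ?_⟩
    · rw [show g * a * g⁻¹ * (g * D.z * g⁻¹) * (g * a * g⁻¹)⁻¹ = g * (a * D.z * a⁻¹) * g⁻¹ by group]
      exact ha.map (MulAut.conj g).toMonoidHom
    · obtain ⟨k, hk⟩ := mem_zpowers_iff.1 h
      refine mem_zpowers_iff.2 ⟨k, ?_⟩
      rw [conj_zpow, show g * a * g⁻¹ * (g * D.z * g⁻¹) * (g * a * g⁻¹)⁻¹ = g * (a * D.z * a⁻¹) * g⁻¹ by group] at hk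
      exact mul_left_cancel (mul_right_cancel hk)

/-- The data at the inverse. -/
def invert : Data G where
  z := D.z⁻¹
  hz := by rw [orderOf_inv, D.hz]
  Q := D.Q
  card_Q := D.card_Q
  z_mem := D.Q.inv_mem D.z_mem
  comm_z := fun q hq => (D.comm_z q hq).inv_right
  norm_Q := fun g hg => D.norm_Q g (by simpa using hg.inv_right)
  center_Q := fun x hx h => by rw [zpowers_inv]; exact D.center_Q x hx h
  comm_Q := fun x hx y hy => by rw [zpowers_inv]; exact D.comm_Q x hx y hy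
  cube_Q := fun x hx => by rw [zpowers_inv]; exact D.cube_Q x hx
  cent_Q := fun g hg h => by rw [zpowers_inv]; exact D.cent_Q g (by simpa using hg.inv_right) h
  ι := D.ι
  ι_inj := D.ι_inj
  ι_z := fun p => (D.ι_z p).inv_right
  ι_normal := fun g hg => D.ι_normal g (by simpa using hg.inv_right)
  wc := fun g hg => by
    rw [← conj_inv] at hg ⊢
    rw [zpowers_inv]
    exact D.Zc.inv_mem (D.wc g (inv_mem_iff.1 hg))
  nwc := by
    obtain ⟨g, hg, hg'⟩ := D.nwc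
    refine ⟨g, ?_, ?_⟩
    · rw [← conj_inv]; exact hg.inv_left.inv_right
    · rw [← conj_inv, zpowers_inv, inv_mem_iff]; exact hg'

theorem exists_view {x : G} (h : Pt D.z x) : ∃ D' : Data G, D'.z = x := by
  obtain ⟨g, hg | hg⟩ := h
  · exact ⟨D.conjBy g, hg⟩
  · refine ⟨D.invert.conjBy g, ?_⟩
    show g * D.z⁻¹ * g⁻¹ = x
    rw [← conj_inv, hg, inv_inv]

theorem pt_mem_Q {h : G} (hp : Pt D.z h) (hq : h ∈ D.Q) : h ∈ D.Zc := by
  obtain ⟨g, hg | hg⟩ := hp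
  · exact hg ▸ D.wc g (hg ▸ hq)
  · exact inv_mem_iff.1 (hg ▸ D.wc g (hg ▸ D.Q.inv_mem hq))

end Data

/-- Two commuting conjugates of the centre, seen from each other. -/
structure Pair {G : Type*} [Group G] [Finite G] (D D' : Data G) : Prop where
  pt : Pt D.z D'.z
  comm : Commute D'.z D.z
  notin : D'.z ∉ D.Q

namespace Pair

variable {G : Type*} [Group G] [Finite G] {D D' : Data G} (h : Pair D D')

include h

theorem symm : Pair D' D where
  pt := h.pt.symm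
  comm := h.comm.symm
  notin := fun hm => h.notin (by
    rcases D'.cases_Zc (D'.pt_mem_Q h.pt.symm hm) with e | e | e
    · exact absurd e D.z_ne
    · rw [← e]; exact D.z_mem
    · rw [← inv_inv D'.z, ← e]; exact D.Q.inv_mem D.z_mem)

theorem zp_not_mem {k : ZMod 3} (hk : k ≠ 0) : zp D'.z k ∉ D.Q := fun hm => h.notin (by
  have := zp_mem hm k⁻¹
  rwa [zp_zp D'.z_cube, mul_inv_cancel₀ hk, zp_one] at this)

theorem Zc_inf : ∀ w ∈ D'.Zc, w ∈ D.Q → w = 1 := fun w hw hq => by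
  obtain ⟨k, rfl⟩ := D'.exists_zp hw
  by_contra hne
  exact h.zp_not_mem (fun hk => hne (by rw [hk, zp_zero])) hq

/-- A line joining the second point to an element of both subgroups has no further point. -/
theorem no_line {w : G} (hw : w ∈ D.Q) (hw' : w ∈ D'.Q) (hp : Pt D.z (w * D'.z)) : w = 1 := by
  have h1 := D'.pt_mem_Q ((Pt.iff_of_pt h.pt).2 hp) (D'.Q.mul_mem hw' D'.z_mem)
  exact h.Zc_inf w (by simpa using D'.Zc.mul_mem h1 (D'.Zc.inv_mem (mem_zpowers _))) hw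

theorem exists_basis (S : Split D) : ∃ B : Basis S, D'.z ∈ B.Stab := by
  obtain ⟨B, hB⟩ := S.exists_basis_of_three (P := D'.Zc) (IsPGroup.of_card (n := 1) (by rw [D'.card_Zc, pow_one]))
    (fun g hg => (D'.comm_Zc h.comm.symm hg).symm)
  exact ⟨B, hB (mem_zpowers _)⟩

theorem comm_mem' {S : Split D} (B : Basis S) {u v : G} (hu : u ∈ B.Stab) (hux : Commute u D'.z) (hv : v ∈ B.Stab)
    (hvx : Commute v D'.z) : ⁅u, v⁆ ∈ D'.Q := by
  obtain ⟨S'⟩ := D'.exists_split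
  set P := B.Stab ⊓ centralizer ({D'.z} : Set G) with hP
  obtain ⟨B', hB'⟩ := S'.exists_basis_of_three (P := P) (B.Stab_pgroup.to_le inf_le_left)
    (fun g hg => mem_centralizer_singleton_iff.1 hg.2)
  exact B'.comm_mem_Q (hB' ⟨hu, mem_centralizer_singleton_iff.2 hux⟩) (hB' ⟨hv, mem_centralizer_singleton_iff.2 hvx⟩)

theorem commute_in_Q {S : Split D} (B : Basis S) {u v : G} (hu : u ∈ D.Q) (hux : Commute u D'.z) (hv : v ∈ D.Q)
    (hvx : Commute v D'.z) : Commute u v := by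
  have h1 := h.comm_mem' B (B.Q_le_Stab hu) hux (B.Q_le_Stab hv) hvx
  have hw := D.comm_form hu hv
  refine commutatorElement_eq_one_iff_commute.1 ?_
  rcases D.cases_Zc hw with e | e | e
  · exact e
  · exact absurd (e ▸ h1) h.symm.notin
  · exact absurd (inv_mem_iff.1 (e ▸ h1)) h.symm.notin

/-- Three independent elements of order three of `Q` centralising the second point meet the other subgroup. -/
theorem exists_kernel {S : Split D} (B : Basis S) {u v w : G} (hu : u ∈ D.Q) (hux : Commute u D'.z) (hv : v ∈ D.Q)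
    (hvx : Commute v D'.z) (hw : w ∈ D.Q) (hwx : Commute w D'.z) (u3 : u ^ 3 = 1) (v3 : v ^ 3 = 1) (w3 : w ^ 3 = 1)
    (hind : ∀ k i j : ZMod 3, zp u k * zp v i * zp w j = 1 → k = 0 ∧ i = 0 ∧ j = 0) :
    ∃ k i j : ZMod 3, (k ≠ 0 ∨ i ≠ 0 ∨ j ≠ 0) ∧ zp u k * zp v i * zp w j ∈ D'.Q := by
  classical
  obtain ⟨S'⟩ := D'.exists_split
  set P := B.Stab ⊓ centralizer ({D'.z} : Set G)
  obtain ⟨B', hB'⟩ := S'.exists_basis_of_three (P := P) (B.Stab_pgroup.to_le inf_le_left)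
    (fun g hg => mem_centralizer_singleton_iff.1 hg.2)
  have cuv := h.commute_in_Q B hu hux hv hvx
  have cuw := h.commute_in_Q B hu hux hw hwx
  have cvw := h.commute_in_Q B hv hvx hw hwx
  let el : ZMod 3 × ZMod 3 × ZMod 3 → G := fun p => zp u p.1 * zp v p.2.1 * zp w p.2.2
  have hel : ∀ p, el p ∈ B'.Stab := fun p => hB' ⟨B.Q_le_Stab (D.Q.mul_mem (D.Q.mul_mem (zp_mem hu _)
    (zp_mem hv _)) (zp_mem hw _)), mem_centralizer_singleton_iff.2
      (((zp_comm hux _).mul_left (zp_comm hvx _)).mul_left (zp_comm hwx _))⟩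
  have hadd : ∀ p q, el p * el q = el (p + q) := by
    intro p q
    show zp u p.1 * zp v p.2.1 * zp w p.2.2 * (zp u q.1 * zp v q.2.1 * zp w q.2.2) =
      zp u (p.1 + q.1) * zp v (p.2.1 + q.2.1) * zp w (p.2.2 + q.2.2)
    rw [zp_add u3, zp_add v3, zp_add w3]
    have c1 : Commute (zp w p.2.2) (zp u q.1) := (zp_comm (zp_comm cuw q.1).symm p.2.2)
    have c2 : Commute (zp w p.2.2) (zp v q.2.1) := (zp_comm (zp_comm cvw q.2.1).symm p.2.2)
    have c3 : Commute (zp v p.2.1) (zp u q.1) := (zp_comm (zp_comm cuv q.1).symm p.2.1)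
    calc zp u p.1 * zp v p.2.1 * zp w p.2.2 * (zp u q.1 * zp v q.2.1 * zp w q.2.2)
        = zp u p.1 * zp v p.2.1 * (zp w p.2.2 * (zp u q.1 * zp v q.2.1)) * zp w q.2.2 := by group
      _ = zp u p.1 * (zp v p.2.1 * zp u q.1) * zp v q.2.1 * zp w p.2.2 * zp w q.2.2 := by
          rw [(c1.mul_right c2).eq]; group
      _ = _ := by rw [c3.eq]; group
  let f : Multiplicative (ZMod 3 × ZMod 3 × ZMod 3) →* Multiplicative (ZMod 3 × ZMod 3) :=
    B'.kappa.comp (MonoidHom.mk' (fun p => (⟨el p.toAdd, hel _⟩ : B'.Stab))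
      (fun p q => Subtype.ext (hadd p.toAdd q.toAdd).symm))
  obtain ⟨p, q, hpq, e⟩ := Fintype.exists_ne_map_eq_of_card_lt f (by simp [ZMod.card])
  have hr : f (p * q⁻¹) = 1 := by rw [map_mul, map_inv, e, mul_inv_cancel]
  refine ⟨(p * q⁻¹).toAdd.1, (p * q⁻¹).toAdd.2.1, (p * q⁻¹).toAdd.2.2, ?_, B'.kappa_eq_one.1 hr⟩
  by_contra hc
  simp only [ne_eq, not_or, not_not] at hc
  exact hpq (mul_inv_eq_one.1 (Multiplicative.toAdd.injective (Prod.ext hc.1 (Prod.ext hc.2.1 hc.2.2))))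

end Pair

namespace Basis

variable {G : Type*} [Group G] [Finite G] {D : Data G} {S : Split D} (B : Basis S)

theorem ind {a : G} (ha : a ∈ S.Q2) (haZ : a ∉ D.Zc) :
    ∀ k i j : ZMod 3, zp D.z k * zp B.a1 i * zp a j = 1 → k = 0 ∧ i = 0 ∧ j = 0 := by
  intro k i j e
  have hl : zp D.z k * zp B.a1 i ∈ S.Q1 :=
    S.Q1.mul_mem (D.Zc_le_fixC S.s_z (zp_mem (mem_zpowers _) _)) (zp_mem B.ha1 _)
  have hZ : zp a j ∈ D.Zc := S.inf_eq.le ⟨by rw [eq_inv_of_mul_eq_one_right e]; exact S.Q1.inv_mem hl, zp_mem ha _⟩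
  have hj : j = 0 := by
    by_contra hj
    refine haZ ?_
    have := zp_mem hZ j⁻¹
    rwa [zp_zp (S.exp_two ha), mul_inv_cancel₀ hj, zp_one] at this
  subst hj
  rw [zp_zero, mul_one] at e
  have hi : i = 0 := B.shift_unique (by
    rw [eq_inv_of_mul_eq_one_right e]; exact D.Zc.inv_mem (zp_mem (mem_zpowers _) _))
  subst hi
  rw [zp_zero, mul_one] at e
  exact ⟨zp_eq_one D.hz e, rfl, rfl⟩

theorem kappa_def (g : B.Stab) : B.kappa g = Multiplicative.ofAdd (B.k1 g, B.k2 g) := rfl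

theorem k1_zp (g : B.Stab) (m : ZMod 3) {hm : zp (g : G) m ∈ B.Stab} : B.k1 ⟨_, hm⟩ = m * B.k1 g := by
  have : ∀ n : ℕ, ∀ h : (g : G) ^ n ∈ B.Stab, B.k1 ⟨_, h⟩ = n * B.k1 g := by
    intro n
    induction n with
    | zero => intro h; rw [Nat.cast_zero, zero_mul]; exact B.k1_eq _ (by simp [zp_zero])
    | succ n ih =>
      intro h
      rw [show (⟨_, h⟩ : B.Stab) = ⟨_, B.Stab.pow_mem g.2 n⟩ * g from Subtype.ext (pow_succ _ _),
        B.k1_mul, ih, Nat.cast_succ]; ring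
  exact (this m.val hm).trans (by rw [ZMod.natCast_zmod_val])

theorem k2_zp (g : B.Stab) (m : ZMod 3) {hm : zp (g : G) m ∈ B.Stab} : B.k2 ⟨_, hm⟩ = m * B.k2 g :=
  B.swap.k1_zp ⟨g.1, B.swap_Stab g.2⟩ m

theorem k2_mul (g h : B.Stab) : B.k2 (g * h) = B.k2 g + B.k2 h :=
  B.swap.k1_mul ⟨g.1, B.swap_Stab g.2⟩ ⟨h.1, B.swap_Stab h.2⟩

theorem k1_of_Q {q : G} (hq : q ∈ D.Q) : B.k1 ⟨q, B.Q_le_Stab hq⟩ = 0 :=
  B.k1_eq _ (by simpa [zp_zero] using D.comm_form hq B.hb1.1)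

theorem k2_of_Q {q : G} (hq : q ∈ D.Q) : B.k2 ⟨q, B.Q_le_Stab hq⟩ = 0 := B.swap.k1_of_Q hq

/-- The commutator with the partner. -/
theorem comm_b1 {x : G} (hx : x ∈ B.Stab) :
    ∃ w ∈ D.Zc, ⁅B.b1, x⁆ = w * zp B.a1 (- B.k1 ⟨x, hx⟩) := by
  have h := B.k1_spec ⟨x, hx⟩
  refine ⟨_, D.Zc.inv_mem h, ?_⟩
  rw [← zp_inv B.a1_cube, ← commutatorElement_inv x B.b1, mul_inv_rev, inv_inv]
  show ⁅x, B.b1⁆⁻¹ = zp B.a1 _ * ⁅x, B.b1⁆⁻¹ * (zp B.a1 _)⁻¹
  have hc : Commute (zp B.a1 (B.k1 ⟨x, hx⟩)) ⁅x, B.b1⁆ := by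
    have := (D.comm_Q_Zc (zp_mem B.ha1 (B.k1 ⟨x, hx⟩)).1 h).mul_right (Commute.refl _)
    rwa [inv_mul_cancel_right] at this
  rw [hc.inv_right.eq, mul_inv_cancel_right]

/-- No point acts on one half alone. -/
theorem no_axis {D' : Data G} (h : Pair D D') (hx : D'.z ∈ B.Stab) (h1 : B.k1 ⟨_, hx⟩ ≠ 0)
    (h2 : B.k2 ⟨_, hx⟩ = 0) : False := by
  set x := D'.z with hxdef
  have htriv : ∀ m ∈ S.Q2, ⁅x, m⁆ ∈ D.Zc := by
    intro m hm
    obtain ⟨w, hw, i, j, rfl⟩ := B.swap.normal_form (show m ∈ S.swap.Q1 from hm)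
    have hb : ⁅x, B.b2⁆ ∈ D.Zc := by
      have := B.swap.k1_spec ⟨x, B.swap_Stab hx⟩
      rwa [show B.swap.k1 ⟨x, _⟩ = 0 from h2, zp_zero, inv_one, mul_one] at this
    refine ((D.fixMod x hx.1).mul_mem ((D.fixMod x hx.1).mul_mem ⟨D.Zc_le hw, ?_⟩
      (zp_mem (show B.a2 ∈ D.fixMod x hx.1 from ⟨B.ha2.1, hx.2.2⟩) _))
      (zp_mem (show B.b2 ∈ D.fixMod x hx.1 from ⟨B.hb2.1, hb⟩) _)).2
    rw [commutatorElement_eq_one_iff_commute.2 (D.comm_Zc hx.1 hw)]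
    exact D.Zc.one_mem
  have hmulR : ∀ u ∈ D.Q, ∀ v, ⁅x, v⁆ ∈ D.Zc → ⁅x, u * v⁆ = ⁅x, u⁆ * ⁅x, v⁆ := fun u hu v hv => by
    rw [show ⁅x, u * v⁆ = ⁅x, u⁆ * (u * ⁅x, v⁆ * u⁻¹) by simp only [commutatorElement_def]; group,
      (D.comm_Q_Zc hu hv).eq, mul_inv_cancel_right]
  have hzp : ∀ v ∈ S.Q2, ∀ m : ZMod 3, ⁅x, zp v m⁆ = zp ⁅x, v⁆ m := by
    intro v hv m
    have : ∀ n : ℕ, ⁅x, v ^ n⁆ = ⁅x, v⁆ ^ n := fun n => by
      induction n with
      | zero => simp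
      | succ n ih => rw [pow_succ, hmulR _ (D.Q.pow_mem hv.1 n) _ (htriv v hv), ih, pow_succ]
    exact this _
  -- a pair adapted to the character
  obtain ⟨a, ha, b, hb, hab, hxa, hxb⟩ : ∃ a ∈ S.Q2, ∃ b ∈ S.Q2, ¬ Commute b a ∧ Commute x a ∧ ¬ Commute x b := by
    by_cases e : Commute x B.a2
    · refine ⟨B.a2, B.ha2, B.b2, B.hb2, B.swap.notComm, e, fun e' => B.swap.notComm ?_⟩
      exact h.commute_in_Q B B.hb2.1 e'.symm B.ha2.1 e.symm
    · obtain ⟨α, hα⟩ := D.exists_zp (htriv _ B.ha2)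
      obtain ⟨β, hβ⟩ := D.exists_zp (htriv _ B.hb2)
      have hα0 : α ≠ 0 := fun hh => e (commutatorElement_eq_one_iff_commute.1 (by rw [hα, hh, zp_zero]))
      refine ⟨B.b2 * zp B.a2 (-β * α⁻¹), S.Q2.mul_mem B.hb2 (zp_mem B.ha2 _), B.a2, B.ha2, fun hc => ?_,
        commutatorElement_eq_one_iff_commute.1 ?_, e⟩
      · refine B.swap.notComm ?_
        have h' := hc.mul_right ((zp_comm (Commute.refl B.a2) (-β * α⁻¹)).symm.inv_right)
        rw [mul_inv_cancel_right] at h'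
        exact h'.symm
      · rw [hmulR _ B.hb2.1 _ (htriv _ (zp_mem B.ha2 _)), hzp _ B.ha2, hβ, hα, zp_zp D.z_cube, ← zp_add D.z_cube,
          show β + α * (-β * α⁻¹) = 0 by field_simp; ring, zp_zero]
  obtain ⟨β, hβ⟩ := D.exists_zp (htriv b hb)
  have hβ0 : β ≠ 0 := fun e => hxb (commutatorElement_eq_one_iff_commute.1 (by rw [hβ, e, zp_zero]))
  have hxa1 : Commute x B.a1 := by
    obtain ⟨γ, hγ⟩ := D.exists_zp hx.2.1
    by_contra hne
    have hγ0 : γ ≠ 0 := fun e => hne (commutatorElement_eq_one_iff_commute.1 (by rw [hγ, e, zp_zero]))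
    have hm : Commute x (B.a1 * zp b (-γ * β⁻¹)) := commutatorElement_eq_one_iff_commute.1 (by
      rw [hmulR _ B.ha1.1 _ (htriv _ (zp_mem hb _)), hzp _ hb, hγ, hβ, zp_zp D.z_cube, ← zp_add D.z_cube,
        show γ + β * (-γ * β⁻¹) = 0 by field_simp; ring, zp_zero])
    have hc := h.commute_in_Q B (D.Q.mul_mem B.ha1.1 (zp_mem hb _).1) hm.symm ha.1 hxa.symm
    have hc2 : Commute (zp b (-γ * β⁻¹)) a := by
      have := ((S.comm12 B.ha1 ha).inv_left).mul_left hc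
      rwa [inv_mul_cancel_left] at this
    refine hab ?_
    have := zp_comm hc2 (-γ * β⁻¹)⁻¹
    rwa [zp_zp (S.exp_two hb), mul_inv_cancel₀ (mul_ne_zero (neg_ne_zero.2 hγ0) (inv_ne_zero hβ0)), zp_one] at this
  -- the orbit
  have hZstep : ∀ e : G, Commute b e → Commute e D.z → Pt D.z (e * x) → ∀ k, Pt D.z (zp D.z k * e * x) := by
    intro e he hez hp k
    have hm : ∀ m : ZMod 3, zp b m * (e * x) * (zp b m)⁻¹ = zp D.z (-β * m) * e * x := by
      intro m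
      have hbx : ⁅zp b m, x⁆ = zp D.z (-β * m) := by
        rw [← commutatorElement_inv x, hzp _ hb, hβ, zp_zp D.z_cube, zp_inv D.z_cube, neg_mul]
      rw [show zp b m * (e * x) * (zp b m)⁻¹ = (zp b m * e * (zp b m)⁻¹) * (zp b m * x * (zp b m)⁻¹) by group,
        (zp_comm he m).eq, mul_inv_cancel_right, Data.conj_eq, hbx, ← mul_assoc, ((zp_comm hez.symm _).eq).symm]
    have := hp.conj (zp b (-k * β⁻¹))
    rwa [hm, show -β * (-k * β⁻¹) = k by field_simp] at this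
  have hbase : ∀ i k : ZMod 3, Pt D.z (zp D.z k * zp B.a1 i * x) := by
    set c := B.k1 ⟨x, hx⟩
    have hec : ∀ i : ZMod 3, Commute b (zp B.a1 i) ∧ Commute (zp B.a1 i) D.z := fun i =>
      ⟨(S.comm12 (zp_mem B.ha1 i) hb).symm, D.comm_z _ (zp_mem B.ha1 i).1⟩
    have step : ∀ i : ZMod 3, (∀ k, Pt D.z (zp D.z k * zp B.a1 i * x)) →
        ∀ k, Pt D.z (zp D.z k * zp B.a1 (i - c) * x) := by
      intro i hp k
      obtain ⟨w, hw, e⟩ := B.comm_b1 hx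
      obtain ⟨m, rfl⟩ := D.exists_zp hw
      have hba : ⁅B.b1, zp B.a1 i⁆ = zp D.z i := by
        rw [← commutatorElement_inv (zp B.a1 i), D.form_zp_left B.ha1.1 B.hb1.1 B.h1'
          (by rw [inv_pow, D.z_cube, inv_one]), zp, zp, inv_pow, inv_inv]
      have := (hp (k - i - m)).conj B.b1
      rw [show B.b1 * (zp D.z (k - i - m) * zp B.a1 i * x) * B.b1⁻¹ =
        (B.b1 * zp D.z (k - i - m) * B.b1⁻¹) * (B.b1 * zp B.a1 i * B.b1⁻¹) * (B.b1 * x * B.b1⁻¹) by group,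
        (zp_comm (D.comm_z _ B.hb1.1).symm (k - i - m)).symm.eq, mul_inv_cancel_right, Data.conj_eq, hba,
        Data.conj_eq, e, show zp D.z (k - i - m) * (zp D.z i * zp B.a1 i) * (zp D.z m * zp B.a1 (-c) * x) =
          zp D.z (k - i - m) * zp D.z i * (zp B.a1 i * zp D.z m) * zp B.a1 (-c) * x by group,
        ((zp_comm (hec i).2.symm m)).eq.symm, show zp D.z (k - i - m) * zp D.z i * (zp D.z m * zp B.a1 i) *
          zp B.a1 (-c) * x = zp D.z (k - i - m) * zp D.z i * zp D.z m * (zp B.a1 i * zp B.a1 (-c)) * x by group,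
        ← zp_add D.z_cube, ← zp_add D.z_cube, ← zp_add B.a1_cube, ← sub_eq_add_neg,
        show k - i - m + i + m = k by ring] at this
      exact this
    have hn : ∀ n : ℕ, ∀ k, Pt D.z (zp D.z k * zp B.a1 ((n : ZMod 3) * -c) * x) := by
      intro n
      induction n with
      | zero =>
        intro k
        have := hZstep 1 (Commute.one_right _) (Commute.one_left _) (by rw [one_mul]; exact h.pt) k
        simpa [zp_zero] using this
      | succ n ih =>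
        intro k
        have := step _ ih k
        rwa [show (n : ZMod 3) * -c - c = ((n + 1 : ℕ) : ZMod 3) * -c by push_cast; ring] at this
    intro i k
    have := hn (i * (-c)⁻¹).val k
    rwa [ZMod.natCast_zmod_val, inv_mul_cancel_right₀ (neg_ne_zero.2 h1)] at this
  -- the reflected point
  set r := S.s * x * S.s⁻¹ * x⁻¹ with hr
  have hsz : Commute (S.s * x * S.s⁻¹) D.z := (S.s_z.mul_left hx.1).mul_left S.s_z.inv_left
  have hrz : Commute r D.z := hsz.mul_left hx.1.inv_left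
  have r1 : ∀ q ∈ S.Q1, Commute r q := by
    intro q hq
    have hq' := B.norm_one (B.Stab.inv_mem hx) q hq
    refine mul_inv_eq_iff_eq_mul.1 ?_
    rw [hr, show S.s * x * S.s⁻¹ * x⁻¹ * q * (S.s * x * S.s⁻¹ * x⁻¹)⁻¹ =
      S.s * x * (S.s⁻¹ * (x⁻¹ * q * x⁻¹⁻¹) * S.s) * x⁻¹ * S.s⁻¹ by group,
      show S.s⁻¹ * (x⁻¹ * q * x⁻¹⁻¹) * S.s = x⁻¹ * q * x⁻¹⁻¹ by
        rw [((D.mem_fixC.1 hq').2).inv_right.symm.eq]; group,
      show S.s * x * (x⁻¹ * q * x⁻¹⁻¹) * x⁻¹ * S.s⁻¹ = S.s * q * S.s⁻¹ by group,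
      (D.mem_fixC.1 hq).2.symm.eq, mul_inv_cancel_right]
  have r2 : ∀ q ∈ S.Q2, ⁅r, q⁆ = ⁅x, q⁆ := by
    intro q hq
    have hw := htriv q hq
    have hxi : x⁻¹ * q * x = ⁅x, q⁆⁻¹ * q := by
      have hc := D.comm_Zc hx.1.inv_left hw
      have hexp : q = x⁻¹ * (⁅x, q⁆ * q) * x := by rw [← Data.conj_eq]; group
      rw [show x⁻¹ * (⁅x, q⁆ * q) * x = (x⁻¹ * ⁅x, q⁆ * x) * (x⁻¹ * q * x) by group, hc.eq,
        inv_mul_cancel_right] at hexp
      rw [eq_inv_mul_iff_mul_eq]; exact hexp.symm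
    set q' := S.s⁻¹ * q * S.s with hq'
    have hu : q' * q ∈ D.Zc := by
      have := S.s_neg q hq
      rwa [show S.s * q * S.s⁻¹ = S.s⁻¹ * q * S.s by rw [inv_eq_of_mul_eq_one_right S.s_sq]] at this
    have hxq' : ⁅x, q'⁆ = ⁅x, q⁆⁻¹ := by
      have e1 : ⁅x, q' * q⁆ = ⁅x, q'⁆ * ⁅x, q⁆ := hmulR _ (by
        have := D.Q.mul_mem (D.Zc_le hu) (D.Q.inv_mem hq.1); rwa [mul_inv_cancel_right] at this) q hw
      rw [commutatorElement_eq_one_iff_commute.2 (D.comm_Zc hx.1 hu)] at e1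
      exact eq_inv_of_mul_eq_one_left e1.symm
    have hconj : r * q * r⁻¹ = ⁅x, q⁆⁻¹ * (⁅x, q⁆⁻¹ * q) := by
      rw [hr, show S.s * x * S.s⁻¹ * x⁻¹ * q * (S.s * x * S.s⁻¹ * x⁻¹)⁻¹ =
        S.s * x * S.s⁻¹ * (x⁻¹ * q * x) * (S.s * x * S.s⁻¹)⁻¹ by group, hxi,
        show S.s * x * S.s⁻¹ * (⁅x, q⁆⁻¹ * q) * (S.s * x * S.s⁻¹)⁻¹ =
          (S.s * x * S.s⁻¹ * ⁅x, q⁆⁻¹ * (S.s * x * S.s⁻¹)⁻¹) * (S.s * (x * q' * x⁻¹) * S.s⁻¹) by rw [hq']; group,
        (D.comm_Zc hsz (D.Zc.inv_mem hw)).eq, mul_inv_cancel_right, show x * q' * x⁻¹ = ⁅x, q⁆⁻¹ * q' by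
          rw [← hxq']; exact Data.conj_eq,
        show S.s * (⁅x, q⁆⁻¹ * q') * S.s⁻¹ = (S.s * ⁅x, q⁆⁻¹ * S.s⁻¹) * (S.s * q' * S.s⁻¹) by group,
        (D.comm_Zc S.s_z (D.Zc.inv_mem hw)).eq, mul_inv_cancel_right,
        show S.s * q' * S.s⁻¹ = q by rw [hq']; group]
    rw [commutatorElement_def r q, hconj, show ⁅x, q⁆⁻¹ * (⁅x, q⁆⁻¹ * q) * q⁻¹ = (⁅x, q⁆ ^ 2)⁻¹ by
      generalize ⁅x, q⁆ = w; group]
    exact inv_eq_of_mul_eq_one_right (by rw [← pow_succ]; exact D.cube_Zc hw)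
  have hrQ : r ∈ D.Q := B.mem_Q_of_fix hrz
    (by rw [commutatorElement_eq_one_iff_commute.2 (r1 _ B.ha1)]; exact D.Zc.one_mem)
    (by rw [commutatorElement_eq_one_iff_commute.2 (r1 _ B.hb1)]; exact D.Zc.one_mem)
    (by rw [r2 _ B.ha2]; exact htriv _ B.ha2) (by rw [r2 _ B.hb2]; exact htriv _ B.hb2)
  have hr2 : r ∈ S.Q2 := by
    obtain ⟨c, hc, m, hm, e⟩ := S.decomp r hrQ
    rw [e]
    refine S.Q2.mul_mem (D.Zc_le_fixC S.t_z (S.center_one hc fun y hy => ?_)) hm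
    have := (e ▸ r1 y hy).mul_left ((S.comm12 hy hm).symm.inv_left)
    rwa [mul_inv_cancel_right] at this
  have haZ : a ∉ D.Zc := fun hh => hab (D.comm_Q_Zc hb.1 hh)
  obtain ⟨α, hα0, m, hra⟩ : ∃ α : ZMod 3, α ≠ 0 ∧ ∃ m : ZMod 3, r = zp D.z m * zp a α := by
    obtain ⟨B', f1, -⟩ := S.swap.exists_basis (a1 := a) ha haZ (a2 := B.a1) B.ha1 B.a1_not_Zc
    obtain ⟨w, hw, i, j, e⟩ := B'.normal_form (show r ∈ S.swap.Q1 from hr2)
    have hj : j = 0 := by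
      have h' := B'.form_nf hw i j
      rw [← e, f1, r2 a ha, commutatorElement_eq_one_iff_commute.2 hxa] at h'
      exact zp_eq_one D.hz h'.symm
    subst hj
    rw [zp_zero, mul_one, f1] at e
    obtain ⟨m, rfl⟩ := D.exists_zp hw
    refine ⟨i, fun hi => hxb (commutatorElement_eq_one_iff_commute.1 ?_), m, e⟩
    rw [← r2 b hb, e, hi, zp_zero, mul_one]
    exact D.form_Zc_left (zp_mem (mem_zpowers _) _) hb.1
  have hsecond : ∀ i k : ZMod 3, Pt D.z (zp D.z k * zp B.a1 i * zp a α * x) := by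
    intro i k
    have := (hbase i (k - m)).conj S.s
    rw [show S.s * (zp D.z (k - m) * zp B.a1 i * x) * S.s⁻¹ =
      (S.s * zp D.z (k - m) * S.s⁻¹) * (S.s * zp B.a1 i * S.s⁻¹) * (S.s * x * S.s⁻¹) by group,
      (zp_comm S.s_z.symm (k - m)).symm.eq, mul_inv_cancel_right,
      (D.mem_fixC.1 (zp_mem B.ha1 i)).2.symm.eq, mul_inv_cancel_right,
      show S.s * x * S.s⁻¹ = r * x by rw [hr]; group, hra,
      show zp D.z (k - m) * zp B.a1 i * (zp D.z m * zp a α * x) =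
        zp D.z (k - m) * (zp B.a1 i * zp D.z m) * zp a α * x by group,
      ((zp_comm (D.comm_z _ (zp_mem B.ha1 i).1).symm m)).eq.symm, ← mul_assoc, ← zp_add D.z_cube,
      sub_add_cancel] at this
    exact this
  obtain ⟨k, i, j, hne, hker⟩ := h.exists_kernel B D.z_mem hx.1.symm B.ha1.1 hxa1.symm ha.1 hxa.symm D.z_cube
    B.a1_cube (S.exp_two ha) (B.ind ha haZ)
  have hwQ : ∀ k i j : ZMod 3, zp D.z k * zp B.a1 i * zp a j ∈ D.Q := fun k i j =>
    D.Q.mul_mem (D.Q.mul_mem (zp_mem D.z_mem k) (zp_mem B.ha1.1 i)) (zp_mem ha.1 j)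
  by_cases hj : j = 0
  · subst hj
    have h1' := h.no_line (hwQ k i 0) hker (by rw [zp_zero, mul_one]; exact hbase i k)
    obtain ⟨e1, e2, -⟩ := B.ind ha haZ _ _ _ h1'
    simp [e1, e2] at hne
  · have hker' := zp_mem hker (α * j⁻¹)
    have c12 : Commute (zp D.z k * zp B.a1 i) (zp a j) :=
      (zp_comm (D.comm_z _ (zp_mem ha.1 j)).symm k).mul_left (S.comm12 (zp_mem B.ha1 i) (zp_mem ha j))
    rw [zp_mul c12, zp_mul (zp_comm (D.comm_z _ (zp_mem B.ha1.1 i)).symm k), zp_zp D.z_cube, zp_zp B.a1_cube,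
      zp_zp (S.exp_two ha), show j * (α * j⁻¹) = α by field_simp] at hker'
    have h1' := h.no_line (hwQ _ _ α) hker' (hsecond _ _)
    exact hα0 (B.ind ha haZ _ _ _ h1').2.2

end Basis

end Cfsg.Lib.U6Three
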