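import Cfsg.Agent.Lib.U6Three.Norm
import Cfsg.Agent.Lib.PSpThree.CaseN

/-!
# The quotient of the normaliser of the extraspecial group is `PSp₄(3)` or its automorphism group
-/

set_option autoImplicit false
set_option linter.unusedSectionVars false
set_option linter.style.haveILetI false
set_option synthInstance.maxSize 4000
set_option maxRecDepth 20000

namespace Cfsg.Lib.U6Three

open Subgroup Cfsg.Lib.PSpThree Cfsg.Lib.SymNine

theorem axis_facts : ((Finset.univ : Finset (Fin 27)).filter fun i => ∃ s k, act s k 1 = i).card ≤ 6 ∧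
    (∀ s k, act s k one1 ≠ 1 ∧ act s k (vSmul 2 one1) ≠ 1) ∧ (∀ i, act 7 0 i = vSmul 2 i) := by
  decide +kernel

theorem plane_t_facts : (∀ v : V4, nrm v = 0 ∨ nrm v = 1 ∨ nrm v = 2) ∧
    Fintype.card {v : V4 // v.2.1 = 0 ∧ nrm v = 1} = 12 ∧ (∀ v : V4, v.2.1 = 0 → (app sM v).2.1 = 0) := by
  decide +kernel

namespace Setting

variable {G : Type*} [Group G] [Finite G] {D : Data G} {T : Setting D}

theorem gensT_plane (m : Cols) (hm : m ∈ gensT) : ∀ v : V4, v.2.1 = 0 → (app m v).2.1 = 0 := by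
  simp only [gensT, List.mem_cons, List.not_mem_nil, or_false] at hm
  rcases hm with rfl | rfl | rfl | rfl <;> decide +kernel

theorem orderOf_cv (T : Setting D) {v : V4} (hv : v ≠ 0) : orderOf (T.cv v) = 3 := by
  refine orderOf_eq_prime ?_ fun e => hv (T.cv_inj (e.trans T.cv_zero.symm))
  rw [pow_three, ← T.cv_add, ← T.cv_add,
    show v + (v + v) = 0 from (show ∀ a : V4, a + (a + a) = 0 by decide +kernel) v, T.cv_zero]

theorem recog (h3 : T.IsThree) (hN : T.NCond) (F : Type*) [Field F] [Fintype F] (hF : Fintype.card F = 3) :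
    Nonempty (T.Yq ≃* Cfsg.PSp 2 F) ∨ Nonempty (T.Yq ≃* MulAut (Cfsg.PSp 2 F)) := by
  classical
  obtain ⟨Y, hYa, hY1, hY2, hM⟩ := exists_quot_data h3 hN
  by_cases hinv : ∃ g, g * Y.a * g⁻¹ = Y.a⁻¹
  swap
  · rcases Cfsg.Lib.PSpThree.Setting.not_inverted Y (fun g e => hinv ⟨g, e⟩) F hF with ⟨M, hMn, hMi⟩ | h
    exacts [absurd hMi (hM M hMn), Or.inl h]
  rcases Cfsg.Lib.PSpThree.Setting.inverted Y hinv with h | ⟨S, hS, ⟨Df⟩⟩
  · exfalso
    obtain ⟨k, hk, hkt⟩ := exists_k h3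
    have hkN := T.H4_le_Nr (T.H4_of_act hkt hk (ptsA_closed kM (by simp [gensT])))
    have hxN := T.H4_le_Nr (T.A_le_H4 (T.h.x_mem_J T.B T.hx) T.tx.symm)
    have hkx : k * zp D.z T.ε * k⁻¹ = T.x := by rw [← T.cv_z, hk.eq, q0_facts.2, T.cv_x]
    set q : T.Nr →* T.Yq := QuotientGroup.mk' T.Rn
    have hnorm : q ⟨k, hkN⟩ ∈ normalizer (zpowers Y.a : Set T.Yq) := h ▸ mem_top _
    have h1 : q ⟨T.x, hxN⟩ ∈ zpowers T.zy := by
      rw [← hYa, show (⟨T.x, hxN⟩ : T.Nr) = ⟨k, hkN⟩ * ⟨D.z, T.z_mem_Nr⟩ ^ T.ε.val * ⟨k, hkN⟩⁻¹ from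
        Subtype.ext hkx.symm, map_mul, map_mul, map_inv, map_pow]
      exact (mem_normalizer_iff.1 hnorm _).1 (pow_mem (show T.zy ∈ zpowers Y.a from hYa ▸ mem_zpowers _) _)
    obtain ⟨i, hi⟩ := mem_zpowers_iff.1 h1
    have h2 : T.x * (D.z ^ i)⁻¹ ∈ T.Rt := by
      refine mem_subgroupOf.1 ((QuotientGroup.eq_one_iff (N := T.Rn) (⟨T.x, hxN⟩ * (⟨D.z, T.z_mem_Nr⟩ ^ i)⁻¹ : T.Nr)).1 ?_)
      show q _ = 1
      rw [map_mul, map_inv, map_zpow, ← hi]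
      exact mul_inv_cancel _
    have h3' : T.x * (D.z ^ i)⁻¹ = 1 := by
      refine Rt_three h3 hN h2 ?_
      have hc : Commute T.x (D.z ^ i)⁻¹ := (T.hx.1.zpow_right i).inv_right
      rw [hc.mul_pow, show T.x ^ 3 = 1 from T.D'.z_cube, one_mul, inv_pow,
        D.cube_Zc (zpow_mem (mem_zpowers _) i), inv_one]
    refine T.h.notin ?_
    rw [show T.D'.z = T.x from rfl, mul_inv_eq_one.1 h3']
    exact zpow_mem D.z_mem i
  refine Or.inr (S.aut_of_small Df ?_ F hF)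
  subst hS
  set q : T.Nr →* T.Yq := QuotientGroup.mk' T.Rn
  have hker : ∀ g : T.Nr, q g = 1 ↔ (g : G) ∈ T.Rt := fun g => (QuotientGroup.eq_one_iff g).trans mem_subgroupOf
  have hmemA : ∀ g : T.Nr, (g : G) ∈ T.Apl → q g ∈ S.F.J := fun g hg => S.hJ ▸ hY1 g hg
  have hconj : ∀ g : T.Nr, (g : G) ∈ normalizer (T.J : Set G) → q g ∈ normalizer (S.F.J : Set T.Yq) := fun g hg =>
    mem_normalizer_of_conj_mem fun y hy => by
      obtain ⟨a, ha, rfl⟩ := hY2 y (S.hJ ▸ hy)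
      have : q g * q a * (q g)⁻¹ = q (g * a * g⁻¹) := by rw [map_mul, map_mul, map_inv]
      refine this ▸ hmemA _ ⟨(mem_normalizer_iff.1 hg _).1 ha.1, mem_centralizer_singleton_iff.2 ?_⟩
      exact (((T.mem_Nr.1 g.2).1.mul_left (mem_centralizer_singleton_iff.1 ha.2)).mul_left
        (T.mem_Nr.1 g.2).1.inv_left)
  -- an element inverting the centre and the second line
  have hI : T.swap.Inv := by
    have ha2 : T.B.a2 ∈ T.Apl := T.cv_a2 ▸ T.cv_Apl rfl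
    have hJinv : ∀ y ∈ S.F.J, Df.inv * y * Df.inv⁻¹ = y⁻¹ := by
      intro y hy
      obtain ⟨i, rfl⟩ := S.F.mem_J.1 hy
      exact (Df.inv_act i).trans ((congrArg S.F.v (axis_facts.2.2 i)).trans (S.F.v_inv i).symm)
    obtain ⟨g, hg⟩ := QuotientGroup.mk'_surjective T.Rn Df.inv
    have e1 : (g : G) * D.z * (g : G)⁻¹ * D.z⁻¹⁻¹ ∈ T.Rt := by
      refine (hker (g * ⟨D.z, T.z_mem_Nr⟩ * g⁻¹ * (⟨D.z, T.z_mem_Nr⟩ : T.Nr)⁻¹⁻¹)).1 ?_
      have hz := hJinv S.D.a (S.hx ▸ S.F.x_mem)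
      rw [hYa] at hz
      rw [map_mul, map_inv, map_mul, map_mul, map_inv, map_inv, show q g = Df.inv from hg,
        show q ⟨D.z, T.z_mem_Nr⟩ = T.zy from rfl, hz, mul_inv_cancel]
    obtain ⟨r, hr, hrz⟩ := lift_conj h3 hN D.hz (T.mem_Nr.1 T.z_mem_Nr).2
      (inv_mem (mem_zpowers D.z)) e1
    obtain ⟨hb, -⟩ := Rt_block h3 hN
    have hrN : r ∈ T.Nr := T.mem_Nr.2 ⟨(hb.comm r hr).symm, le_normalizer hr⟩
    set b : T.Nr := ⟨r, hrN⟩ * g
    change (b : G) * D.z * (b : G)⁻¹ = D.z⁻¹ at hrz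
    have hqb : q b = Df.inv := by rw [map_mul, (hker ⟨r, hrN⟩).2 hr, one_mul, ← hg]
    set a : T.Nr := ⟨T.B.a2, T.Apl_le_Nr ha2⟩
    have hd : (b : G) * T.B.a2 * (b : G)⁻¹ * T.B.a2 ∈ T.Rt := by
      refine (hker (b * a * b⁻¹ * a)).1 ?_
      rw [map_mul, map_mul, map_mul, map_inv, hqb, hJinv _ (hmemA a ha2), inv_mul_cancel]
    have hdz : Commute ((b : G) * T.B.a2 * (b : G)⁻¹) D.z := by
      have h1 := ((D.comm_z _ T.B.ha2.1).inv_right).map (MulAut.conj (b : G)).toMonoidHom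
      simp only [MulEquiv.toMonoidHom_eq_coe, MonoidHom.coe_coe, MulAut.conj_apply] at h1
      rwa [show (b : G) * D.z⁻¹ * (b : G)⁻¹ = ((b : G) * D.z * (b : G)⁻¹)⁻¹ by group, hrz, inv_inv] at h1
    obtain ⟨d, hdd⟩ : ∃ d, (b : G) * T.B.a2 * (b : G)⁻¹ * T.B.a2 = d := ⟨_, rfl⟩
    rw [hdd] at hd
    have hdL : d ∈ T.S.L := Rt_z h3 hN hd (hdd ▸ hdz.mul_left (D.comm_z _ T.B.ha2.1))
    have hda : Commute d T.B.a2 := ((T.S.mem_L.1 hdL).2 _ T.B.ha2).symm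
    have hd1 : d = 1 := by
      refine Rt_three h3 hN hd ?_
      have h1 : ((b : G) * T.B.a2 * (b : G)⁻¹) ^ 3 = 1 := by rw [conj_pow, T.B.a2_cube]; group
      rw [show (b : G) * T.B.a2 * (b : G)⁻¹ = d * T.B.a2⁻¹ by rw [← hdd]; group, hda.inv_right.mul_pow, inv_pow,
        T.B.a2_cube, inv_one, mul_one] at h1
      exact h1
    have hba : (b : G) * T.B.a2 * (b : G)⁻¹ = T.B.a2⁻¹ := mul_eq_one_iff_eq_inv.1 (hdd.trans hd1)
    refine ⟨T.S.s * b, ?_, ?_⟩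
    · show T.S.s * b * T.B.a2 = T.B.a2 * (T.S.s * b)
      refine mul_inv_eq_iff_eq_mul.1 ?_
      rw [show T.S.s * b * T.B.a2 * (T.S.s * b)⁻¹ = T.S.s * ((b : G) * T.B.a2 * (b : G)⁻¹) * T.S.s⁻¹ by group, hba,
        show T.S.s * T.B.a2⁻¹ * T.S.s⁻¹ = (T.S.s * T.B.a2 * T.S.s⁻¹)⁻¹ by group,
        show T.S.s * T.B.a2 * T.S.s⁻¹ = T.B.a2⁻¹ from T.sa, inv_inv]
    · rw [show T.S.s * b * D.z * (T.S.s * b)⁻¹ = T.S.s * ((b : G) * D.z * (b : G)⁻¹) * T.S.s⁻¹ by group]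
      rw [hrz, (T.S.s_z.inv_right).eq, mul_inv_cancel_right]
  have hn := hN hI
  intro c hc
  -- the axis is an element of the third kind
  obtain ⟨a, ha, hav⟩ := hY2 _ (S.hJ ▸ S.F.v_mem 1)
  obtain ⟨w, hw⟩ := T.exists_cv ha.1
  have hw1 : w.2.1 = 0 := T.cv_fixed (hw ▸ mem_centralizer_singleton_iff.1 ha.2)
  have hw0 : w ≠ 0 := fun e => by
    have : S.F.v 1 = 1 := by
      rw [← hav, show a = 1 from Subtype.ext (by rw [← hw, e, T.cv_zero]; rfl)]; rfl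
    exact absurd (S.F.v_eq_one.1 this) (by decide)
  have hcvN : ∀ v : V4, v.2.1 = 0 → T.cv v ∈ T.Nr := fun v hv => T.Apl_le_Nr (T.cv_Apl hv)
  let qv : ∀ v : V4, v.2.1 = 0 → T.Yq := fun v hv => q ⟨T.cv v, hcvN v hv⟩
  have hav' : qv w hw1 = S.F.v 1 := by
    rw [← hav]; exact congrArg q (Subtype.ext hw)
  have hmove : ∀ v0 : V4, ∀ h0 : v0.2.1 = 0, ∀ n, ∀ v ∈ orb gensT v0 n, ∀ hv : v.2.1 = 0,
      ∃ y ∈ normalizer (S.F.J : Set T.Yq), y * qv v0 h0 * y⁻¹ = qv v hv := by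
    intro v0 h0 n v hv hv1
    obtain ⟨h, hh, hhn, e⟩ := exists_of_orb (H := T.H4) (T.gensT_H4 h3) v0 n v hv
    refine ⟨q ⟨h, T.H4_le_Nr hh⟩, hconj _ hhn, ?_⟩
    show q ⟨h, T.H4_le_Nr hh⟩ * q _ * _ = q _
    rw [← map_inv, ← map_mul, ← map_mul]
    exact congrArg q (Subtype.ext e)
  rcases plane_t_facts.1 w with hn0 | hn1 | hn2
  · exfalso
    obtain ⟨e, he, hwe⟩ := nrm_facts.2.2 w hw0 hw1 hn0
    obtain ⟨p, hp, hp1, rfl⟩ : ∃ p, p ∈ orb gensT (1, 0, 0, 0) 2 ∧ p.2.1 = 0 ∧ w = e • p := by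
      rcases hwe with rfl | ⟨j, rfl⟩
      · exact ⟨_, by decide +kernel, rfl, rfl⟩
      · exact ⟨_, orb_pt j, (show ∀ j, (ptv 0 j).2.1 = 0 by decide +kernel) j, rfl⟩
    obtain ⟨y, -, hy⟩ := hmove (1, 0, 0, 0) rfl 2 p hp hp1
    have hz : qv (1, 0, 0, 0) rfl = T.zy ^ T.ε.val := by
      show q _ = _
      rw [show (⟨T.cv (1, 0, 0, 0), hcvN _ rfl⟩ : T.Nr) = ⟨D.z, T.z_mem_Nr⟩ ^ T.ε.val from Subtype.ext T.cv_z,
        map_pow]
      rfl
    have hp' : qv (e • p) hw1 = qv p hp1 ^ e.val := by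
      show q _ = q _ ^ e.val
      rw [← map_pow]
      exact congrArg q (Subtype.ext (T.cv_smul e p))
    rw [hp', ← hy, conj_pow, hz, ← pow_mul, ← hYa, ← S.hx] at hav'
    have hcase : S.F.x ^ (T.ε.val * e.val) = S.F.v one1 ∨ S.F.x ^ (T.ε.val * e.val) = S.F.v (vSmul 2 one1) := by
      have hεe : ∀ a b : ZMod 3, a ≠ 0 → b ≠ 0 → a.val * b.val = 1 ∨ a.val * b.val = 2 ∨ a.val * b.val = 4 := by decide
      have h2 : S.F.x ^ 2 = S.F.v (vSmul 2 one1) := by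
        rw [← S.F.v_inv]
        exact eq_inv_of_mul_eq_one_left (by rw [← S.F.v_cube one1]; exact (pow_succ _ 2).symm)
      rcases hεe T.ε e T.ε_ne he with h | h | h <;> rw [h]
      · exact Or.inl (pow_one _)
      · exact Or.inr h2
      · left
        show S.F.v one1 ^ 4 = _
        rw [pow_succ, S.F.v_cube, one_mul]
    rcases hcase with h | h <;> rw [h] at hav' <;> obtain ⟨s, k, -, hsk⟩ := Df.isCase.conj_cases hav'
    · exact (axis_facts.2.1 s k).1 hsk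
    · exact (axis_facts.2.1 s k).2 hsk
  · exfalso
    obtain ⟨y0, hy0n, hy0⟩ := hmove (0, 0, 1, 0) rfl 3 w (orb_a w hw1 hn1) hw1
    have hall : ∀ v : {v : V4 // v.2.1 = 0 ∧ nrm v = 1}, ∃ i ∈ (Finset.univ : Finset (Fin 27)).filter
        (fun i => ∃ s k, act s k 1 = i), S.F.v i = qv v.1 v.2.1 := by
      rintro ⟨v, hv1, hvn⟩
      obtain ⟨y, hyn, hy⟩ := hmove (0, 0, 1, 0) rfl 3 v (orb_a v hv1 hvn) hv1
      obtain ⟨s, k, -, hsk⟩ := Df.isCase.exists_act (mul_mem hyn (inv_mem hy0n))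
      refine ⟨act s k 1, Finset.mem_filter.2 ⟨Finset.mem_univ _, s, k, rfl⟩, ?_⟩
      refine (hsk 1).symm.trans ?_
      rw [← hav', ← hy0]
      show _ = qv v hv1
      rw [← hy]
      group
    choose f hf hfv using hall
    have hle := Finset.card_le_card_of_injOn f (fun v _ => hf v) (s := Finset.univ) (fun v _ v' _ e => ?_)
    · rw [Finset.card_univ, plane_t_facts.2.1] at hle
      have := axis_facts.1
      omega
    · have h1 : qv v.1 v.2.1 = qv v'.1 v'.2.1 := by rw [← hfv, ← hfv, e]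
      refine Subtype.ext (T.cv_inj (mul_inv_eq_one.1 (Rt_three h3 hN
        ((hker (⟨_, hcvN _ v.2.1⟩ * (⟨_, hcvN _ v'.2.1⟩ : T.Nr)⁻¹)).1 ?_) ?_)))
      · rw [map_mul, map_inv]
        exact mul_inv_eq_one.2 h1
      · have hc : ∀ u u' : V4, Commute (T.cv u) (T.cv u') := fun u u' =>
          T.h.comm_P T.B T.hx (T.h.J_le_P T.B T.hx (T.cv_mem u)) (T.cv_mem u')
        have h3c : ∀ u : V4, T.cv u ^ 3 = 1 := fun u => by
          rw [pow_three, ← T.cv_add, ← T.cv_add,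
            show u + (u + u) = 0 from (show ∀ a : V4, a + (a + a) = 0 by decide +kernel) u, T.cv_zero]
        rw [(hc _ _).inv_right.mul_pow, inv_pow, h3c, h3c, inv_one, mul_one]
  · obtain ⟨g, rfl⟩ := QuotientGroup.mk'_surjective T.Rn c
    obtain ⟨g', e, hg'⟩ := (mk_commute_iff h3 hN (g := g) (y := ⟨T.cv w, hcvN w hw1⟩) (T.orderOf_cv hw0)).1
      (by
        show q g * qv w hw1 = qv w hw1 * q g
        rw [hav']; exact hc)
    show q g ∈ _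
    rw [show q g = q g' from e.symm]
    exact hconj g' (cent_le_of_n hn hn2 hn2 (mul_inv_eq_iff_eq_mul.2 hg'.eq))

end Setting

end Cfsg.Lib.U6Three
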