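import Cfsg.Agent.Lib.U6Three.Count

/-!
# Weak closure of the plane and coordinates adapted to the two involutions
-/

set_option autoImplicit false
set_option linter.unusedSectionVars false
set_option maxHeartbeats 800000

namespace Cfsg.Lib.U6Three

open Subgroup
open scoped commutatorElement

theorem eq_invert {G : Type*} [Group G] {j u a : G} (hju : j * u * j⁻¹ = u) (hc : Commute u a) (hu : u ^ 3 = 1)
    (h : j * a * j⁻¹ = u * a⁻¹) : j * (u * a) * j⁻¹ = (u * a)⁻¹ := by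
  rw [show j * (u * a) * j⁻¹ = (j * u * j⁻¹) * (j * a * j⁻¹) by group, hju, h, mul_inv_rev,
    hc.inv_inv.symm.eq, ← mul_assoc]
  congr 1
  exact (inv_eq_of_mul_eq_one_right (by rw [← hu, pow_three])).symm

theorem lambda_facts : ∀ e1 e2 b c : ZMod 3, e1 ≠ 0 → e2 ≠ 0 →
    (∀ i j : ZMod 3, i ≠ 0 ∨ j ≠ 0 → e1 * (i * i) + e2 * (j * j) + b * i + c * j ≠ 0) →
    e1 = e2 ∧ b = 0 ∧ c = 0 := by decide +kernel

theorem even_sq : ∀ f1 f2 : ZMod 3, f1 = f2 → f1 + f2 ≠ 0 →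
    f1 ≠ 0 ∧ ∀ i : ZMod 3, three f1 f2 i = f1 * (i * i) := by decide +kernel

namespace Basis

variable {G : Type*} [Group G] [Finite G] {D : Data G} {S : Split D} (B : Basis S)

/-- An element of `C(z)` fixing or inverting both lines normalises the stabiliser. -/
theorem norm_Stab {j : G} (hj : Commute j D.z) {u1 u2 : ZMod 3}
    (h1 : ∀ a, (a = B.a1 → j⁻¹ * a * j * (zp a u1)⁻¹ ∈ D.Zc) ∧ (a = B.a2 → j⁻¹ * a * j * (zp a u2)⁻¹ ∈ D.Zc)) :
    ∀ g ∈ B.Stab, j * g * j⁻¹ ∈ B.Stab := by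
  rintro g ⟨hg, g1, g2⟩
  refine ⟨(hj.mul_left hg).mul_left hj.inv_left, ?_, ?_⟩
  all_goals
    first
      | (have hm := (h1 B.a1).1 rfl
         have hmem : j⁻¹ * B.a1 * j ∈ D.fixMod g hg := by
           have := (D.fixMod g hg).mul_mem
             (show j⁻¹ * B.a1 * j * (zp B.a1 u1)⁻¹ ∈ D.fixMod g hg from ⟨D.Zc_le hm, by
               rw [commutatorElement_eq_one_iff_commute.2 (D.comm_Zc hg hm)]; exact D.Zc.one_mem⟩)
             (zp_mem (show B.a1 ∈ D.fixMod g hg from ⟨B.ha1.1, g1⟩) u1)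
           rwa [inv_mul_cancel_right] at this
         rw [show ⁅j * g * j⁻¹, B.a1⁆ = j * ⁅g, j⁻¹ * B.a1 * j⁆ * j⁻¹ by simp only [commutatorElement_def]; group,
           (D.comm_Zc hj hmem.2).eq, mul_inv_cancel_right]
         exact hmem.2)
      | (have hm := (h1 B.a2).2 rfl
         have hmem : j⁻¹ * B.a2 * j ∈ D.fixMod g hg := by
           have := (D.fixMod g hg).mul_mem
             (show j⁻¹ * B.a2 * j * (zp B.a2 u2)⁻¹ ∈ D.fixMod g hg from ⟨D.Zc_le hm, by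
               rw [commutatorElement_eq_one_iff_commute.2 (D.comm_Zc hg hm)]; exact D.Zc.one_mem⟩)
             (zp_mem (show B.a2 ∈ D.fixMod g hg from ⟨B.ha2.1, g2⟩) u2)
           rwa [inv_mul_cancel_right] at this
         rw [show ⁅j * g * j⁻¹, B.a2⁆ = j * ⁅g, j⁻¹ * B.a2 * j⁆ * j⁻¹ by simp only [commutatorElement_def]; group,
           (D.comm_Zc hj hmem.2).eq, mul_inv_cancel_right]
         exact hmem.2)

theorem t_norm_Stab : ∀ g ∈ B.Stab, S.t * g * S.t⁻¹ ∈ B.Stab :=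
  B.norm_Stab S.t_z (u1 := -1) (u2 := 1) fun a => ⟨fun e => by
    subst e
    rw [← zp_inv B.a1_cube, zp_one, inv_inv, inv_eq_of_mul_eq_one_right S.t_sq]
    have := S.t_neg _ B.ha1
    rwa [inv_eq_of_mul_eq_one_right S.t_sq] at this, fun e => by
    subst e
    rw [zp_one, mul_assoc S.t⁻¹, (D.mem_fixC.1 B.ha2).2.eq, inv_mul_cancel_left, mul_inv_cancel]
    exact D.Zc.one_mem⟩

theorem s_norm_Stab : ∀ g ∈ B.Stab, S.s * g * S.s⁻¹ ∈ B.Stab := fun g hg =>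
  B.swap.swap_Stab (B.swap.t_norm_Stab g (B.swap_Stab hg))

/-- An element of `Q` commuting with both lines is in the plane. -/
theorem mem_el_of_comm {q : G} (hq : q ∈ D.Q) (h1 : Commute q B.a1) (h2 : Commute q B.a2) :
    ∃ k i j, q = B.el k i j := by
  obtain ⟨c, hc, d, hd, rfl⟩ := S.decomp q hq
  obtain ⟨u, hu, i, j, ec⟩ := B.normal_form hc
  obtain ⟨v, hv, i', j', ed⟩ := B.swap.normal_form (show d ∈ S.swap.Q1 from hd)
  change d = v * zp B.a2 i' * zp B.b2 j' at ed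
  have e1 : ⁅c, B.a1⁆ = 1 := by
    have := D.form_mul_left hc.1 hd.1 B.ha1.1
    rw [commutatorElement_eq_one_iff_commute.2 h1, commutatorElement_eq_one_iff_commute.2 (S.comm12 B.ha1 hd).symm,
      mul_one] at this
    exact this.symm
  have e2 : ⁅d, B.a2⁆ = 1 := by
    have := D.form_mul_left hc.1 hd.1 B.ha2.1
    rw [commutatorElement_eq_one_iff_commute.2 h2, commutatorElement_eq_one_iff_commute.2 (S.comm12 hc B.ha2),
      one_mul] at this
    exact this.symm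
  rw [ec, B.form_nf hu] at e1
  have e2' : zp D.z j' = 1 := by
    rw [ed] at e2
    exact (B.swap.form_nf hv i' j').symm.trans e2
  obtain rfl := zp_eq_one D.hz e1
  obtain rfl := zp_eq_one D.hz e2'
  rw [zp_zero, mul_one] at ec ed
  obtain ⟨k1, rfl⟩ := D.exists_zp hu
  obtain ⟨k2, rfl⟩ := D.exists_zp hv
  refine ⟨k1 + k2, i, i', ?_⟩
  rw [ec, ed, Basis.el, zp_add D.z_cube, mul_assoc (zp D.z k1) (zp B.a1 i), ← mul_assoc (zp B.a1 i),
    ((zp_comm (D.comm_z _ (zp_mem B.ha1.1 i)).symm k2).symm).eq]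
  group

theorem el_mul (k i j k' i' j' : ZMod 3) : B.el k i j * B.el k' i' j' = B.el (k + k') (i + i') (j + j') := by
  have ca : ∀ m n : ZMod 3, Commute (zp B.a2 n) (zp B.a1 m) := fun m n => zp_comm (zp_comm B.comm_a m).symm n
  have cz : ∀ q ∈ D.Q, ∀ m : ZMod 3, Commute q (zp D.z m) := fun q hq m => (zp_comm (D.comm_z q hq).symm m).symm
  simp only [Basis.el, zp_add D.z_cube, zp_add B.a1_cube, zp_add B.a2_cube]
  calc zp D.z k * zp B.a1 i * zp B.a2 j * (zp D.z k' * zp B.a1 i' * zp B.a2 j')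
      = zp D.z k * ((zp B.a1 i * zp B.a2 j) * zp D.z k') * zp B.a1 i' * zp B.a2 j' := by group
    _ = zp D.z k * zp D.z k' * zp B.a1 i * (zp B.a2 j * zp B.a1 i') * zp B.a2 j' := by
      rw [(cz _ (D.Q.mul_mem (zp_mem B.ha1.1 i) (zp_mem B.ha2.1 j)) k').eq]; group
    _ = _ := by rw [(ca i' j).eq]; group

end Basis

namespace Pair

variable {G : Type*} [Group G] [Finite G] {D D' : Data G} (h : Pair D D') {S : Split D} (B : Basis S)
  (hx : D'.z ∈ B.Stab)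

include h hx

/-- The group does not depend on the basis. -/
theorem J_indep {S2 : Split D} (B2 : Basis S2) (hx2 : D'.z ∈ B2.Stab) : h.J B2 hx2 = h.J B hx := by
  obtain ⟨S'⟩ := D'.exists_split
  obtain ⟨B', hz⟩ := h.symm.exists_basis S'
  rw [← h.J_symm B2 hx2 B' hz, h.J_symm B hx B' hz]

/-- A point of the stabiliser centralises the group. -/
theorem pt_mem_P {y : G} (hy : y ∈ B.Stab) (hp : Pt D.z y) : y ∈ centralizer (h.J B hx : Set G) := by
  by_cases hq : y ∈ D.Q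
  · obtain ⟨k, rfl⟩ := D.exists_zp (D.pt_mem_Q hp hq)
    exact h.J_le_P B hx (zp_mem (h.z_mem_J B hx) k)
  obtain ⟨D'', hD'', h'⟩ := D.pair_of_pt hp hy.1 hq
  obtain ⟨c1, c2⟩ := h'.full B (hx := by rw [hD'']; exact hy)
  rw [hD''] at c1 c2
  obtain ⟨d1, d2⟩ := h.full B hx
  set r := y * D'.z * y⁻¹ * D'.z⁻¹ with hr
  have hrQ : r ∈ D.Q := by
    have := B.comm_mem_Q hy hx
    rwa [commutatorElement_def] at this
  have hra : ∀ {a : G}, Commute y a → Commute D'.z a → Commute r a := fun {a} e e' =>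
    ((e.mul_left e').mul_left e.inv_left).mul_left e'.inv_left
  obtain ⟨k, i, j, hel⟩ := B.mem_el_of_comm hrQ (hra c1 d1) (hra c2 d2)
  have hx' : y * D'.z * y⁻¹ = B.el k i j * D'.z := by rw [← hel, hr]; group
  obtain ⟨f, g, -, -, -, -, horb, hpts⟩ := h.points B hx
  have helP : ∀ k i j, B.el k i j ∈ centralizer (h.J B hx : Set G) := fun k i j =>
    h.J_le_P B hx (h.el_mem_J B hx k i j)
  have hxP := h.J_le_P B hx (h.x_mem_J B hx)
  obtain ⟨i', j', e⟩ : ∃ i' j', y * D'.z * y⁻¹ = B.el (f i' + g j') i' j' * D'.z := by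
    rcases hpts (y * D'.z * y⁻¹) (hx' ▸ mul_mem (helP _ _ _) hxP) (h.pt.conj y) with hz | ⟨i', j', e | e⟩
    · exfalso
      refine h.notin ?_
      have := D.Q.mul_mem (D.Q.inv_mem (B.el_mem k i j)) (D.Zc_le hz)
      rwa [hx', inv_mul_cancel_left] at this
    · exact ⟨i', j', e⟩
    · exfalso
      obtain ⟨hd1, -⟩ := h.diag B hx
      have e1 : B.el k i j * D'.z * (B.el (f i' + g j') i' j' * D'.z) = 1 := by
        rw [← hx', e, inv_mul_cancel]
      have e2 := congrArg (fun u : B.Stab => B.k1 u) (show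
        (⟨_, B.Q_le_Stab (B.el_mem k i j)⟩ * ⟨_, hx⟩ * (⟨_, B.Q_le_Stab (B.el_mem (f i' + g j') i' j')⟩ * ⟨_, hx⟩) : B.Stab)
          = 1 from Subtype.ext e1)
      simp only [B.k1_mul, B.k1_of_Q (B.el_mem _ _ _), zero_add] at e2
      rw [show B.k1 1 = 0 from B.k1_eq 1 (by simp [zp_zero])] at e2
      revert e2 hd1
      generalize B.k1 ⟨_, hx⟩ = c
      revert c
      decide
  obtain ⟨q, hq, eq⟩ := horb i' j'
  have hqy : Commute (q⁻¹ * y) D'.z := mul_inv_eq_iff_eq_mul.1 (by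
    rw [show q⁻¹ * y * D'.z * (q⁻¹ * y)⁻¹ = q⁻¹ * (y * D'.z * y⁻¹) * q by group, e, ← eq]; group)
  have hP : q⁻¹ * y ∈ centralizer (h.J B hx : Set G) :=
    (h.mem_cent_J B hx).2 ⟨B.Stab.mul_mem (B.Stab.inv_mem (B.Q_le_Stab hq)) hy, hqy⟩
  have hqa : ∀ {a : G}, Commute y a → Commute (q⁻¹ * y) a → Commute q a := fun {a} e e' => by
    have := (e'.mul_left e.inv_left).inv_left
    rwa [mul_inv_cancel_right, inv_inv] at this
  have ha1 : B.a1 ∈ h.J B hx := by simpa [Basis.el, zp_zero, zp_one] using h.el_mem_J B hx 0 1 0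
  have ha2 : B.a2 ∈ h.J B hx := by simpa [Basis.el, zp_zero, zp_one] using h.el_mem_J B hx 0 0 1
  obtain ⟨k', i'', j'', eq'⟩ := B.mem_el_of_comm hq (hqa c1 (h.comm_P B hx hP ha1)) (hqa c2 (h.comm_P B hx hP ha2))
  have := mul_mem (helP k' i'' j'') hP
  rwa [← eq', mul_inv_cancel_left] at this

/-- Points of the stabiliser lie in the group. -/
theorem pt_mem_J {y : G} (hy : y ∈ B.Stab) (hp : Pt D.z y) : y ∈ h.J B hx := by
  obtain ⟨f, g, -, -, -, -, -, hpts⟩ := h.points B hx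
  rcases hpts y (h.pt_mem_P B hx hy hp) hp with hz | ⟨i, j, e | e⟩
  · exact zpowers_le.2 (h.z_mem_J B hx) hz
  · rw [e]; exact mul_mem (h.el_mem_J B hx _ _ _) (h.x_mem_J B hx)
  · rw [e]; exact inv_mem (mul_mem (h.el_mem_J B hx _ _ _) (h.x_mem_J B hx))

/-- An element of `C(z)` normalising the stabiliser normalises the group. -/
theorem norm_J_of_Stab {u : G} (hu : Commute u D.z) (hn : ∀ g ∈ B.Stab, u * g * u⁻¹ ∈ B.Stab)
    (hel : ∀ k i j, u * B.el k i j * u⁻¹ ∈ h.J B hx) : u ∈ normalizer (h.J B hx : Set G) := by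
  have hxu : u * D'.z * u⁻¹ ∈ h.J B hx := h.pt_mem_J B hx (hn _ hx) (h.pt.conj u)
  have hgen : (h.J B hx).map (MulAut.conj u).toMonoidHom ≤ h.J B hx := by
    rintro _ ⟨w, ⟨p, rfl⟩, rfl⟩
    obtain ⟨⟨k, i, j, l⟩, rfl⟩ := Multiplicative.ofAdd.surjective p
    rw [h.vec_apply, map_mul]
    refine mul_mem (hel k i j) ?_
    show u * zp D'.z l * u⁻¹ ∈ h.J B hx
    rw [zp, ← conj_pow]
    exact pow_mem hxu _
  have hfin : (h.J B hx).map (MulAut.conj u).toMonoidHom = h.J B hx := Subgroup.eq_of_le_of_card_ge hgen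
    (le_of_eq (Subgroup.card_map_of_injective (MulAut.conj u).injective).symm)
  rw [mem_normalizer_iff]
  intro w
  refine ⟨fun hw => hgen ⟨w, hw, rfl⟩, fun hw => ?_⟩
  obtain ⟨v, hv, e⟩ := hfin.ge hw
  exact mul_left_cancel (mul_right_cancel e) ▸ hv

end Pair

/-- Coordinates adapted to the involutions. -/
structure Setting {G : Type*} [Group G] [Finite G] (D : Data G) where
  /-- The splitting. -/
  S : Split D
  /-- The second point. -/
  D' : Data G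
  h : Pair D D'
  /-- The basis. -/
  B : Basis S
  hx : D'.z ∈ B.Stab
  tx : Commute S.t D'.z
  sx : Commute S.s D'.z
  ta : S.t * B.a1 * S.t⁻¹ = B.a1⁻¹
  sa : S.s * B.a2 * S.s⁻¹ = B.a2⁻¹
  /-- The sign of the form. -/
  ε : ZMod 3
  ε_ne : ε ≠ 0
  orbit : ∀ i j, ∃ q ∈ D.Q, q * D'.z * q⁻¹ = B.el (ε * (i * i + j * j)) i j * D'.z
  el_Q' : ∀ i j, B.el 0 i j ∈ D'.Q
  points : ∀ y ∈ centralizer (h.J B hx : Set G), Pt D.z y → y ∈ D.Zc ∨
    ∃ i j, y = B.el (ε * (i * i + j * j)) i j * D'.z ∨ y = (B.el (ε * (i * i + j * j)) i j * D'.z)⁻¹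

theorem Basis.t_el {G : Type*} [Group G] [Finite G] {D : Data G} {S : Split D} (B : Basis S)
    (ta : S.t * B.a1 * S.t⁻¹ = B.a1⁻¹) (k i j : ZMod 3) : S.t * B.el k i j * S.t⁻¹ = B.el k (-i) j := by
  rw [Basis.el, Basis.el, show S.t * (zp D.z k * zp B.a1 i * zp B.a2 j) * S.t⁻¹ =
    (S.t * zp D.z k * S.t⁻¹) * (S.t * zp B.a1 i * S.t⁻¹) * (S.t * zp B.a2 j * S.t⁻¹) by group,
    (zp_comm S.t_z.symm k).symm.eq, mul_inv_cancel_right, (D.mem_fixC.1 (zp_mem B.ha2 j)).2.symm.eq,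
    mul_inv_cancel_right, ← zp_inv B.a1_cube]
  congr 2
  rw [zp, ← conj_pow, ta, inv_pow]

theorem Data.exists_setting {G : Type*} [Group G] [Finite G] (D : Data G) : Nonempty (Setting D) := by
  obtain ⟨g, hg, hg'⟩ := D.nwc
  obtain ⟨E, hE, hE'⟩ := D.pair_of_pt (y := g * D.z * g⁻¹) ⟨g, Or.inl rfl⟩ hg fun hq => hg' (D.wc g hq)
  obtain ⟨S⟩ := D.exists_split
  obtain ⟨B0, hx0⟩ := hE'.exists_basis S
  -- adjust the basis: the lines exactly inverted
  obtain ⟨B, hB, ta, sa⟩ : ∃ B : Basis S, (∀ u, u ∈ B0.Stab → u ∈ B.Stab) ∧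
      S.t * B.a1 * S.t⁻¹ = B.a1⁻¹ ∧ S.s * B.a2 * S.s⁻¹ = B.a2⁻¹ := by
    set u := S.t * B0.a1 * S.t⁻¹ * B0.a1 with hu
    set v := S.s * B0.a2 * S.s⁻¹ * B0.a2 with hv
    have hu' : u ∈ D.Zc := S.t_neg _ B0.ha1
    have hv' : v ∈ D.Zc := S.s_neg _ B0.ha2
    have e1 : S.t * (u * B0.a1) * S.t⁻¹ = (u * B0.a1)⁻¹ := eq_invert
      (by rw [(D.comm_Zc S.t_z hu').eq, mul_inv_cancel_right]) (D.comm_Q_Zc B0.ha1.1 hu').symm (D.cube_Zc hu')
      (by rw [hu]; group)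
    have e2 : S.s * (v * B0.a2) * S.s⁻¹ = (v * B0.a2)⁻¹ := eq_invert
      (by rw [(D.comm_Zc S.s_z hv').eq, mul_inv_cancel_right]) (D.comm_Q_Zc B0.ha2.1 hv').symm (D.cube_Zc hv')
      (by rw [hv]; group)
    have m1 : u * B0.a1 ∉ D.Zc := fun hh => B0.a1_not_Zc (by
      have := D.Zc.mul_mem (D.Zc.inv_mem hu') hh; rwa [inv_mul_cancel_left] at this)
    have m2 : v * B0.a2 ∉ D.Zc := fun hh => B0.swap.a1_not_Zc (by
      have := D.Zc.mul_mem (D.Zc.inv_mem hv') hh; rwa [inv_mul_cancel_left] at this)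
    obtain ⟨B, f1, f2⟩ := S.exists_basis (S.Q1.mul_mem (D.Zc_le_fixC S.s_z hu') B0.ha1) m1
      (S.Q2.mul_mem (D.Zc_le_fixC S.t_z hv') B0.ha2) m2
    refine ⟨B, fun w hw => ⟨hw.1, ?_, ?_⟩, by rw [f1]; exact e1, by rw [f2]; exact e2⟩
    · rw [f1]
      exact ((D.fixMod w hw.1).mul_mem ⟨D.Zc_le hu', by
        rw [commutatorElement_eq_one_iff_commute.2 (D.comm_Zc hw.1 hu')]; exact D.Zc.one_mem⟩ ⟨B0.ha1.1, hw.2.1⟩).2
    · rw [f2]
      exact ((D.fixMod w hw.1).mul_mem ⟨D.Zc_le hv', by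
        rw [commutatorElement_eq_one_iff_commute.2 (D.comm_Zc hw.1 hv')]; exact D.Zc.one_mem⟩ ⟨B0.ha2.1, hw.2.2⟩).2
  have hxE := hB _ hx0
  obtain ⟨f, g', f0, g0, hf, hg', horb, hpts⟩ := hE'.points B hxE
  obtain ⟨hd1, -⟩ := hE'.diag B hxE
  -- the images of the point under the involutions
  have himg : ∀ u : G, Commute u D.z → (∀ g ∈ B.Stab, u * g * u⁻¹ ∈ B.Stab) →
      B.k1 ⟨_, hxE⟩ = 0 ∨ ((∀ a ∈ B.Stab, ∀ (h' : u * a * u⁻¹ ∈ B.Stab) (ha : a ∈ B.Stab), B.k1 ⟨_, h'⟩ = B.k1 ⟨a, ha⟩) →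
        ∃ i j, u * E.z * u⁻¹ = B.el (f i + g' j) i j * E.z) := by
    intro u hu hn
    refine Or.inr fun hk => ?_
    have hmem : u * E.z * u⁻¹ ∈ B.Stab := hn _ hxE
    have hp : u * E.z * u⁻¹ ∈ centralizer (hE'.J B hxE : Set G) := hE'.pt_mem_P B hxE hmem (hE'.pt.conj u)
    have hkk := hk _ hxE hmem hxE
    rcases hpts _ hp (hE'.pt.conj u) with hz | ⟨i, j, e | e⟩
    · exact absurd ((B.k1_of_Q (D.Zc_le hz)).symm.trans hkk).symm hd1
    · exact ⟨i, j, e⟩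
    · exfalso
      have hm : (B.el (f i + g' j) i j * E.z) ∈ B.Stab := B.Stab.mul_mem (B.Q_le_Stab (B.el_mem _ _ _)) hxE
      have e1 : B.k1 (⟨_, hmem⟩ * ⟨_, hm⟩) = 0 := by
        rw [show (⟨_, hmem⟩ : B.Stab) * ⟨_, hm⟩ = 1 from Subtype.ext (by
          show u * E.z * u⁻¹ * (B.el (f i + g' j) i j * E.z) = 1
          rw [e, inv_mul_cancel])]
        exact B.k1_eq 1 (by simp [zp_zero])
      rw [B.k1_mul, hkk, show (⟨_, hm⟩ : B.Stab) = ⟨_, B.Q_le_Stab (B.el_mem _ _ _)⟩ * ⟨_, hxE⟩ from rfl,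
        B.k1_mul, B.k1_of_Q (B.el_mem _ _ _), zero_add] at e1
      revert e1 hd1
      generalize B.k1 ⟨_, hxE⟩ = c
      revert c
      decide
  have hkt : ∀ a ∈ B.Stab, ∀ (h' : S.t * a * S.t⁻¹ ∈ B.Stab) (ha : a ∈ B.Stab), B.k1 ⟨_, h'⟩ = B.k1 ⟨a, ha⟩ := by
    intro a _ h' ha
    refine B.k1_eq _ ?_
    have hti : S.t⁻¹ = S.t := inv_eq_of_mul_eq_one_right S.t_sq
    have hq : S.t * B.b1 * S.t⁻¹ ∈ S.Q1 := by
      rcases S.conj_half S.t_z with hh | hh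
      · exact hh _ B.hb1
      · exfalso
        refine B.a1_not_Zc ?_
        have := S.inf_eq.le ⟨S.Q1.inv_mem B.ha1, ta ▸ hh _ B.ha1⟩
        simpa using D.Zc.inv_mem this
    obtain ⟨w, hw, e⟩ : ∃ w ∈ D.Zc, S.t * B.b1 * S.t⁻¹ = w * B.b1⁻¹ := ⟨_, S.t_neg _ B.hb1, by group⟩
    set k := B.k1 ⟨a, ha⟩
    obtain ⟨w', hw', e'⟩ : ∃ w' ∈ D.Zc, ⁅a, B.b1⁆ = w' * zp B.a1 k := ⟨_, B.k1_spec ⟨a, ha⟩, (inv_mul_cancel_right _ _).symm⟩
    have hab : a * B.b1⁻¹ * a⁻¹ * B.b1 = (B.b1⁻¹ * ⁅a, B.b1⁆ * B.b1⁻¹⁻¹)⁻¹ := by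
      simp only [commutatorElement_def]; group
    obtain ⟨w'', hw'', e''⟩ : ∃ w'' ∈ D.Zc, a * B.b1⁻¹ * a⁻¹ * B.b1 = w'' * zp B.a1 (-k) := by
      refine ⟨(⁅B.b1⁻¹, zp B.a1 k⁆ * w')⁻¹, D.Zc.inv_mem (D.Zc.mul_mem
        (D.comm_form (D.Q.inv_mem B.hb1.1) (zp_mem B.ha1.1 k)) hw'), ?_⟩
      rw [hab, e', show B.b1⁻¹ * (w' * zp B.a1 k) * B.b1⁻¹⁻¹ = (B.b1⁻¹ * w' * B.b1⁻¹⁻¹) * (B.b1⁻¹ * zp B.a1 k * B.b1⁻¹⁻¹) by
        group, (D.comm_Q_Zc (D.Q.inv_mem B.hb1.1) hw').eq, mul_inv_cancel_right, Data.conj_eq, ← zp_inv B.a1_cube]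
      have hz' := (D.comm_Q_Zc (zp_mem B.ha1.1 k) (D.Zc.mul_mem hw' (D.comm_form (D.Q.inv_mem B.hb1.1) (zp_mem B.ha1.1 k))))
      rw [← mul_assoc, mul_inv_rev, hz'.inv_inv.eq]
      congr 2
      exact (D.comm_Q_Zc (D.Zc_le hw') (D.comm_form (D.Q.inv_mem B.hb1.1) (zp_mem B.ha1.1 k))).eq
    have key : ⁅S.t * a * S.t⁻¹, B.b1⁆ = S.t * w'' * S.t⁻¹ * zp B.a1 k := by
      have hw1 : S.t * B.b1 * S.t = w * B.b1⁻¹ := by rw [← e, hti]
      have e3 : ⁅a, S.t⁻¹ * B.b1 * S.t⁆ = w'' * zp B.a1 (-k) := by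
        rw [hti, hw1, ← e'', commutatorElement_def, show a * (w * B.b1⁻¹) * a⁻¹ * (w * B.b1⁻¹)⁻¹ =
          (a * w * a⁻¹) * (a * B.b1⁻¹ * a⁻¹ * B.b1) * w⁻¹ by group, (D.comm_Zc ha.1 hw).eq, mul_inv_cancel_right]
        have hm : a * B.b1⁻¹ * a⁻¹ * B.b1 ∈ D.Q :=
          D.Q.mul_mem (D.norm_Q a ha.1 _ (D.Q.inv_mem B.hb1.1)) B.hb1.1
        rw [← (D.comm_Q_Zc hm hw).eq, mul_inv_cancel_right]
      rw [show ⁅S.t * a * S.t⁻¹, B.b1⁆ = S.t * ⁅a, S.t⁻¹ * B.b1 * S.t⁆ * S.t⁻¹ by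
        simp only [commutatorElement_def]; group, e3,
        show S.t * (w'' * zp B.a1 (-k)) * S.t⁻¹ = (S.t * w'' * S.t⁻¹) * (S.t * zp B.a1 (-k) * S.t⁻¹) by group]
      congr 1
      rw [zp, ← conj_pow, ta, inv_pow]
      exact (zp_inv B.a1_cube (-k)).trans (by rw [neg_neg])
    rw [key, mul_inv_cancel_right, (D.comm_Zc S.t_z hw'').eq, mul_inv_cancel_right]
    exact hw''
  have hks : ∀ a ∈ B.Stab, ∀ (h' : S.s * a * S.s⁻¹ ∈ B.Stab) (ha : a ∈ B.Stab), B.k1 ⟨_, h'⟩ = B.k1 ⟨a, ha⟩ := by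
    intro a _ h' ha
    refine B.k1_eq _ ?_
    have hb := (D.mem_fixC.1 B.hb1).2
    have hw := B.k1_spec ⟨a, ha⟩
    have hzq : Commute S.s (zp B.a1 (B.k1 ⟨a, ha⟩)) := (zp_comm (D.mem_fixC.1 B.ha1).2 _).symm
    rw [show ⁅S.s * a * S.s⁻¹, B.b1⁆ = S.s * ⁅a, S.s⁻¹ * B.b1 * S.s⁆ * S.s⁻¹ by
      simp only [commutatorElement_def]; group, mul_assoc S.s⁻¹, hb.eq, inv_mul_cancel_left]
    have : S.s * ⁅a, B.b1⁆ * S.s⁻¹ * (zp B.a1 (B.k1 ⟨a, ha⟩))⁻¹ =
        S.s * (⁅a, B.b1⁆ * (zp B.a1 (B.k1 ⟨a, ha⟩))⁻¹) * S.s⁻¹ := by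
      rw [show S.s * (⁅a, B.b1⁆ * (zp B.a1 (B.k1 ⟨a, ha⟩))⁻¹) * S.s⁻¹ =
        S.s * ⁅a, B.b1⁆ * S.s⁻¹ * (S.s * zp B.a1 (B.k1 ⟨a, ha⟩) * S.s⁻¹)⁻¹ by group, hzq.eq, mul_inv_cancel_right]
    rw [this, (D.comm_Zc S.s_z hw).eq, mul_inv_cancel_right]
    exact hw
  obtain ⟨it, jt, et⟩ := ((himg S.t S.t_z B.t_norm_Stab).resolve_left hd1) hkt
  obtain ⟨is_, js, es⟩ := ((himg S.s S.s_z B.s_norm_Stab).resolve_left hd1) hks
  -- the el-action of the involutions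
  have tel := B.t_el ta
  have sel : ∀ k i j : ZMod 3, S.s * B.el k i j * S.s⁻¹ = B.el k i (-j) := fun k i j => by
    have := B.swap.t_el sa k j i
    rwa [Basis.el_swap, Basis.el_swap] at this
  have hinj := fun {p q : V4} (e : B.el p.1 p.2.1 p.2.2.1 * zp E.z p.2.2.2 = B.el q.1 q.2.1 q.2.2.1 * zp E.z q.2.2.2) =>
    Multiplicative.ofAdd.injective (hE'.vec_inj B hxE (a₁ := Multiplicative.ofAdd p) (a₂ := Multiplicative.ofAdd q) e)
  have hjt : jt = 0 := by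
    have e1 : B.el (f it + g' jt) (-it) jt * (B.el (f it + g' jt) it jt * E.z) = E.z := by
      rw [← et, ← tel, show S.t * B.el (f it + g' jt) it jt * S.t⁻¹ * (S.t * E.z * S.t⁻¹) =
        S.t * (B.el (f it + g' jt) it jt * E.z) * S.t⁻¹ by group, ← et,
        show S.t * (S.t * E.z * S.t⁻¹) * S.t⁻¹ = (S.t * S.t) * E.z * (S.t * S.t)⁻¹ by group, S.t_sq]
      group
    rw [← mul_assoc, B.el_mul] at e1
    have e2 := hinj (p := (f it + g' jt + (f it + g' jt), -it + it, jt + jt, 1)) (q := (0, 0, 0, 1))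
      (by simp only [zp_one, B.el_zero, one_mul]; exact e1)
    simp only [Prod.mk.injEq] at e2
    exact (show ∀ j : ZMod 3, j + j = 0 → j = 0 by decide) jt e2.2.2.1
  have his : is_ = 0 := by
    have e1 : B.el (f is_ + g' js) is_ (-js) * (B.el (f is_ + g' js) is_ js * E.z) = E.z := by
      rw [← es, ← sel, show S.s * B.el (f is_ + g' js) is_ js * S.s⁻¹ * (S.s * E.z * S.s⁻¹) =
        S.s * (B.el (f is_ + g' js) is_ js * E.z) * S.s⁻¹ by group, ← es,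
        show S.s * (S.s * E.z * S.s⁻¹) * S.s⁻¹ = (S.s * S.s) * E.z * (S.s * S.s)⁻¹ by group, S.s_sq]
      group
    rw [← mul_assoc, B.el_mul] at e1
    have e2 := hinj (p := (f is_ + g' js + (f is_ + g' js), is_ + is_, -js + js, 1)) (q := (0, 0, 0, 1))
      (by simp only [zp_one, B.el_zero, one_mul]; exact e1)
    simp only [Prod.mk.injEq] at e2
    exact (show ∀ j : ZMod 3, j + j = 0 → j = 0 by decide) is_ e2.2.1
  subst hjt his
  -- the fixed point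
  obtain ⟨q, hq, eq⟩ := horb (-it) (-js)
  set x := q * E.z * q⁻¹ with hxdef
  have hxP : x ∈ centralizer (hE'.J B hxE : Set G) := by
    rw [eq]
    exact hE'.J_le_P B hxE (mul_mem (hE'.el_mem_J B hxE _ _ _) (hE'.x_mem_J B hxE))
  have hxpt : Pt D.z x := hE'.pt.conj q
  have hfix : ∀ u : G, Commute u D.z → (∀ g ∈ B.Stab, u * g * u⁻¹ ∈ B.Stab) →
      (∃ k, u * x * u⁻¹ = B.el k (-it) (-js) * E.z) → Commute u x := by
    intro u hu hn ⟨k, hk⟩
    refine mul_inv_eq_iff_eq_mul.1 ?_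
    have hux : u * x * u⁻¹ ∈ centralizer (hE'.J B hxE : Set G) :=
      hE'.pt_mem_P B hxE (hn _ (hE'.P_le_Stab B hxE hxP)) (hxpt.conj u)
    rcases hpts _ hux (hxpt.conj u) with hz | ⟨i, j, e | e⟩
    · exfalso
      refine hE'.notin ?_
      have := D.Q.mul_mem (D.Q.inv_mem (B.el_mem k (-it) (-js))) (D.Zc_le hz)
      rwa [hk, inv_mul_cancel_left] at this
    · have e2 := hinj (p := (k, -it, -js, 1)) (q := (f i + g' j, i, j, 1)) (by
        simp only [zp_one]; rw [← hk, e])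
      simp only [Prod.mk.injEq, and_true] at e2
      obtain ⟨-, rfl, rfl⟩ := e2
      rw [e, eq]
    · exfalso
      have e1 : B.el (k + (f i + g' j)) (-it + i) (-js + j) * zp E.z (1 + 1) = B.el 0 0 0 * zp E.z 0 := by
        have cE := hE'.comm_el B hxE (f i + g' j) i j
        rw [B.el_zero, zp_zero, one_mul, zp_add E.z_cube, zp_one, ← B.el_mul]
        calc B.el k (-it) (-js) * B.el (f i + g' j) i j * (E.z * E.z)
            = B.el k (-it) (-js) * (B.el (f i + g' j) i j * E.z) * E.z := by group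
          _ = B.el k (-it) (-js) * ((B.el (f i + g' j) i j * E.z) * E.z) := mul_assoc _ _ _
          _ = B.el k (-it) (-js) * ((E.z * B.el (f i + g' j) i j) * E.z) := by rw [cE.eq]
          _ = B.el k (-it) (-js) * E.z * (B.el (f i + g' j) i j * E.z) := by group
          _ = 1 := by rw [← hk, e, inv_mul_cancel]
      have e2 := hinj (p := (k + (f i + g' j), -it + i, -js + j, 1 + 1)) (q := (0, 0, 0, 0)) e1
      simp only [Prod.mk.injEq] at e2
      exact absurd e2.2.2.2 (by decide)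
  have htx : Commute S.t x := hfix _ S.t_z B.t_norm_Stab ⟨f (-it) + g' (-js) + (f it + g' 0), by
    rw [eq, show S.t * (B.el (f (-it) + g' (-js)) (-it) (-js) * E.z) * S.t⁻¹ =
      (S.t * B.el (f (-it) + g' (-js)) (-it) (-js) * S.t⁻¹) * (S.t * E.z * S.t⁻¹) by group, tel, et, ← mul_assoc,
      B.el_mul, add_zero, show -(-it) + it = -it by rw [neg_neg]; exact (show ∀ i : ZMod 3, i + i = -i by decide) it]⟩
  have hsx : Commute S.s x := hfix _ S.s_z B.s_norm_Stab ⟨f (-it) + g' (-js) + (f 0 + g' js), by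
    rw [eq, show S.s * (B.el (f (-it) + g' (-js)) (-it) (-js) * E.z) * S.s⁻¹ =
      (S.s * B.el (f (-it) + g' (-js)) (-it) (-js) * S.s⁻¹) * (S.s * E.z * S.s⁻¹) by group, sel, es, ← mul_assoc,
      B.el_mul, add_zero, show -(-js) + js = -js by rw [neg_neg]; exact (show ∀ i : ZMod 3, i + i = -i by decide) js]⟩
  -- coordinates at the new point
  have hxQ : x ∉ D.Q := fun hh => hE'.notin (by
    have := D.Q.mul_mem (D.Q.mul_mem (D.Q.inv_mem hq) hh) hq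
    rwa [hxdef, show q⁻¹ * (q * E.z * q⁻¹) * q = E.z by group] at this)
  obtain ⟨D', hD', h'⟩ := D.pair_of_pt hxpt (hE'.P_le_Stab B hxE hxP).1 hxQ
  have hxS : D'.z ∈ B.Stab := by rw [hD']; exact hE'.P_le_Stab B hxE hxP
  rw [← hD'] at htx hsx
  obtain ⟨F, Gf, F0, G0, hF, hGf, hOrb, hPts⟩ := h'.points B hxS
  have hnormJ : ∀ u, Commute u D.z → (∀ g ∈ B.Stab, u * g * u⁻¹ ∈ B.Stab) → Commute u D'.z →
      ∀ i j i' j', (∀ k, u * B.el k i j * u⁻¹ = B.el k i' j') → F i + Gf j = F i' + Gf j' := by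
    intro u hu hn hux i j i' j' hcc
    obtain ⟨q', -, eq'⟩ := hOrb i j
    have hpt : Pt D.z (B.el (F i + Gf j) i' j' * D'.z) := by
      have := (h'.pt.conj q').conj u
      rwa [eq', show u * (B.el (F i + Gf j) i j * D'.z) * u⁻¹ =
        (u * B.el (F i + Gf j) i j * u⁻¹) * (u * D'.z * u⁻¹) by group, hcc, hux.eq, mul_inv_cancel_right] at this
    have hinj' := fun {p q : V4} (e : B.el p.1 p.2.1 p.2.2.1 * zp D'.z p.2.2.2 = B.el q.1 q.2.1 q.2.2.1 * zp D'.z q.2.2.2) =>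
      Multiplicative.ofAdd.injective (h'.vec_inj B hxS (a₁ := Multiplicative.ofAdd p) (a₂ := Multiplicative.ofAdd q) e)
    rcases hPts _ (mul_mem (h'.J_le_P B hxS (h'.el_mem_J B hxS _ _ _)) (h'.J_le_P B hxS (h'.x_mem_J B hxS))) hpt with
      hz | ⟨m, n, e | e⟩
    · exfalso
      refine h'.notin ?_
      have := D.Q.mul_mem (D.Q.inv_mem (B.el_mem (F i + Gf j) i' j')) (D.Zc_le hz)
      rwa [inv_mul_cancel_left] at this
    · have e2 := hinj' (p := (F i + Gf j, i', j', 1)) (q := (F m + Gf n, m, n, 1)) (by simpa only [zp_one] using e)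
      simp only [Prod.mk.injEq, and_true] at e2
      obtain ⟨e3, rfl, rfl⟩ := e2
      exact e3
    · exfalso
      have cE := h'.comm_el B hxS (F m + Gf n) m n
      have e1 : B.el (F i + Gf j + (F m + Gf n)) (i' + m) (j' + n) * zp D'.z (1 + 1) = B.el 0 0 0 * zp D'.z 0 := by
        rw [B.el_zero, zp_zero, one_mul, zp_add D'.z_cube, zp_one, ← B.el_mul]
        calc B.el (F i + Gf j) i' j' * B.el (F m + Gf n) m n * (D'.z * D'.z)
            = B.el (F i + Gf j) i' j' * (B.el (F m + Gf n) m n * D'.z) * D'.z := by group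
          _ = B.el (F i + Gf j) i' j' * ((B.el (F m + Gf n) m n * D'.z) * D'.z) := mul_assoc _ _ _
          _ = B.el (F i + Gf j) i' j' * ((D'.z * B.el (F m + Gf n) m n) * D'.z) := by rw [cE.eq]
          _ = B.el (F i + Gf j) i' j' * D'.z * (B.el (F m + Gf n) m n * D'.z) := by group
          _ = 1 := by rw [e, inv_mul_cancel]
      have e2 := hinj' (p := (F i + Gf j + (F m + Gf n), i' + m, j' + n, 1 + 1)) (q := (0, 0, 0, 0)) e1
      simp only [Prod.mk.injEq] at e2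
      exact absurd e2.2.2.2 (by decide)
  obtain ⟨u1, hu1⟩ : ∃ u1, F 1 = u1 := ⟨_, rfl⟩
  have hFeven : F 1 = F 2 := by
    have := hnormJ S.t S.t_z B.t_norm_Stab htx 1 0 (-1) 0 (fun k => tel k 1 0)
    simpa [show (-1 : ZMod 3) = 2 from rfl] using this
  have hGeven : Gf 1 = Gf 2 := by
    have := hnormJ S.s S.s_z B.s_norm_Stab hsx 0 1 0 (-1) (fun k => by simpa using sel k 0 1)
    simpa [show (-1 : ZMod 3) = 2 from rfl] using this
  obtain ⟨hF1, hFsq⟩ := even_sq _ _ hFeven (by simpa [Quad, F0] using hF)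
  obtain ⟨hG1, hGsq⟩ := even_sq _ _ hGeven (by simpa [Quad, G0] using hGf)
  have hFi : ∀ i, F i = F 1 * (i * i) := fun i => (ite_three F F0 i).trans (hFsq i)
  have hGj : ∀ j, Gf j = Gf 1 * (j * j) := fun j => (ite_three Gf G0 j).trans (hGsq j)
  -- the hyperplane of the other point
  obtain ⟨S'⟩ := D'.exists_split
  obtain ⟨B', hz⟩ := h'.symm.exists_basis S'
  have hc : ∀ k i j, ∃ k' i' j' l, B.el k i j = B'.el k' i' j' * zp D.z l := fun k i j => by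
    obtain ⟨p, hp⟩ := (h'.J_symm B hxS B' hz).ge (h'.el_mem_J B hxS k i j)
    obtain ⟨⟨k', i', j', l⟩, rfl⟩ := Multiplicative.ofAdd.surjective p
    exact ⟨k', i', j', l, hp.symm.trans (h'.symm.vec_apply B' hz _)⟩
  choose K' I' J' L hL using hc
  have hadd : ∀ k i j k' i' j', L (k + k') (i + i') (j + j') = L k i j + L k' i' j' := by
    intro k i j k' i' j'
    have e : B'.el (K' (k + k') (i + i') (j + j')) (I' (k + k') (i + i') (j + j')) (J' (k + k') (i + i') (j + j')) *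
        zp D.z (L (k + k') (i + i') (j + j')) =
        B'.el (K' k i j + K' k' i' j') (I' k i j + I' k' i' j') (J' k i j + J' k' i' j') *
          zp D.z (L k i j + L k' i' j') := by
      rw [← hL, ← B.el_mul, hL k i j, hL k' i' j', ← B'.el_mul, zp_add D.z_cube]
      have c := h'.symm.comm_el B' hz (K' k' i' j') (I' k' i' j') (J' k' i' j')
      calc B'.el (K' k i j) (I' k i j) (J' k i j) * zp D.z (L k i j) *
            (B'.el (K' k' i' j') (I' k' i' j') (J' k' i' j') * zp D.z (L k' i' j'))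
          = B'.el (K' k i j) (I' k i j) (J' k i j) * (zp D.z (L k i j) * B'.el (K' k' i' j') (I' k' i' j') (J' k' i' j')) *
              zp D.z (L k' i' j') := by group
        _ = _ := by rw [(zp_comm c (L k i j)).eq]; group
    have e2 := h'.symm.vec_inj B' hz (a₁ := Multiplicative.ofAdd (_, _, _, _)) (a₂ := Multiplicative.ofAdd (_, _, _, _)) e
    exact (Prod.mk.injEq _ _ _ _ ▸ (Prod.mk.injEq _ _ _ _ ▸ (Prod.mk.injEq _ _ _ _ ▸
      Multiplicative.ofAdd.injective e2).2).2).2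
  have hlin : ∀ k i j, L k i j = k * L 1 0 0 + i * L 0 1 0 + j * L 0 0 1 := by
    have h0 : L 0 0 0 = 0 := by simpa using hadd 0 0 0 0 0 0
    have two : L 2 0 0 = L 1 0 0 + L 1 0 0 ∧ L 0 2 0 = L 0 1 0 + L 0 1 0 ∧ L 0 0 2 = L 0 0 1 + L 0 0 1 :=
      ⟨by simpa [one_add_one_eq_two] using hadd 1 0 0 1 0 0, by simpa [one_add_one_eq_two] using hadd 0 1 0 0 1 0,
        by simpa [one_add_one_eq_two] using hadd 0 0 1 0 0 1⟩
    intro k i j
    have e := hadd k i 0 0 0 j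
    have e' := hadd k 0 0 0 i 0
    simp only [add_zero, zero_add] at e e'
    rw [e, e']
    rcases three_eq k with rfl | rfl | rfl <;> rcases three_eq i with rfl | rfl | rfl <;>
      rcases three_eq j with rfl | rfl | rfl <;> simp [h0, two] <;> ring
  have hQ' : ∀ k i j, L k i j = 0 → B.el k i j ∈ D'.Q := fun k i j e => by
    rw [hL, e, zp_zero, mul_one]; exact B'.el_mem _ _ _
  have hα : L 1 0 0 ≠ 0 := fun e => h'.symm.notin (by
    simpa [Basis.el, zp_zero, zp_one] using hQ' 1 0 0 e)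
  obtain ⟨he, hb, hc'⟩ := lambda_facts (F 1) (Gf 1) (L 0 1 0 * (L 1 0 0)⁻¹) (L 0 0 1 * (L 1 0 0)⁻¹) hF1 hG1
    fun i j hij e => by
      have hl : L (F i + Gf j) i j = 0 := by
        rw [hlin, hFi, hGj]
        have := congrArg (· * L 1 0 0) e
        simp only [add_mul, zero_mul] at this
        rw [show L 0 1 0 * (L 1 0 0)⁻¹ * i * L 1 0 0 = i * L 0 1 0 by field_simp,
          show L 0 0 1 * (L 1 0 0)⁻¹ * j * L 1 0 0 = j * L 0 0 1 by field_simp] at this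
        linear_combination this
      obtain ⟨q', -, eq'⟩ := hOrb i j
      have h1 := h'.no_line (B.el_mem _ _ _) (hQ' _ _ _ hl) (eq' ▸ h'.pt.conj q')
      obtain ⟨-, u, v⟩ := B.el_eq_one h1
      rcases hij with hh | hh
      exacts [hh u, hh v]
  have hKF : ∀ i j : ZMod 3, F 1 * (i * i + j * j) = F i + Gf j := fun i j => by rw [hFi i, hGj j, ← he]; ring
  refine ⟨{
    S := S, D' := D', h := h', B := B, hx := hxS, tx := htx, sx := hsx, ta := ta, sa := sa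
    ε := F 1, ε_ne := hF1
    orbit := fun i j => ?_
    el_Q' := fun i j => hQ' 0 i j ?_
    points := fun y hy hp => ?_ }⟩
  · rw [hKF]; exact hOrb i j
  · rw [mul_eq_zero, inv_eq_zero] at hb hc'
    rw [hlin, hb.resolve_right hα, hc'.resolve_right hα]; ring
  · rcases hPts y hy hp with hh | ⟨i, j, hh⟩
    · exact Or.inl hh
    · exact Or.inr ⟨i, j, by rw [hKF]; exact hh⟩

end Cfsg.Lib.U6Three
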