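import Cfsg.Agent.Lib.U6Three.Orbit
import Cfsg.Agent.Lib.U6Three.Cent

/-!
# The centralisers in the quotient of the elements of the plane that are not points
-/

set_option autoImplicit false
set_option linter.unusedSectionVars false
set_option synthInstance.maxSize 4000
set_option maxRecDepth 20000

namespace Cfsg.Lib.U6Three

open Subgroup

theorem coset_cases : ∀ v : V4, ∀ b : ZMod 3, (v.1, v.2.2.1, v.2.2.2) ≠ (0, 0, 0) →
    (∃ i : ZMod 3, nrm (v + (0, i, 0, 0)) = 2 ∧ nrm (v + (0, i + b, 0, 0)) = 2) ∨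
    (∃ i : ZMod 3, IsPtv (v + (0, i, 0, 0)) ∧ ¬ IsPtv (v + (0, i + b, 0, 0))) ∨
    (∃ e : ZMod 3, e ≠ 0 ∧ ∃ p ∈ ([(1, 0, 0, 0), (0, 0, 0, 1), (1, 0, 1, 1), (1, 0, 2, 1)] : List V4), (v.1, 0, v.2.2.1, v.2.2.2) = e • p) := by
  decide +kernel

theorem pt_list : ∀ p ∈ ([(1, 0, 0, 0), (0, 0, 0, 1), (1, 0, 1, 1), (1, 0, 2, 1)] : List V4),
    p ∈ orb gensT (1, 0, 0, 0) 2 := by decide +kernel

theorem gensT_fix (m : Cols) (hm : m ∈ gensT) : app m (0, 1, 0, 0) = (0, 1, 0, 0) := by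
  simp only [gensT, List.mem_cons, List.not_mem_nil, or_false] at hm
  rcases hm with rfl | rfl | rfl | rfl <;> decide +kernel

namespace Setting

variable {G : Type*} [Group G] [Finite G] {D : Data G} {T : Setting D}

theorem pt_of_isPtv (T : Setting D) {v : V4} (h : IsPtv v) : Pt D.z (T.cv v) := by
  have h2 : ∀ u : V4, Pt D.z (T.cv u) → Pt D.z (T.cv (2 • u)) := fun u hu => by
    rw [two_smul, T.cv_add]
    obtain ⟨g, hg⟩ := hu
    have h3 : T.cv u * T.cv u = (T.cv u)⁻¹ := by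
      refine eq_inv_of_mul_eq_one_left ?_
      rw [← T.cv_add, ← T.cv_add,
        show u + u + u = 0 from (show ∀ a : V4, a + a + a = 0 by decide +kernel) u, T.cv_zero]
    rw [h3]
    exact Pt.inv ⟨g, hg⟩
  rcases h with rfl | rfl | ⟨i, j, rfl | rfl⟩
  · exact T.cv_z_pt
  · exact h2 (1, 0, 0, 0) T.cv_z_pt
  · exact T.pt_ptv i j
  · exact h2 _ (T.pt_ptv i j)

theorem cv_shift (T : Setting D) (v : V4) (b : ZMod 3) : T.cv (v + (0, b, 0, 0)) = T.cv v * zp T.B.a1 b := by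
  rw [T.cv_add, show ((0, b, 0, 0) : V4) = b • (0, 1, 0, 0) by simp [Prod.ext_iff], T.cv_smul, T.cv_a1]

/-- The elements of the quotient plane other than points have small centralisers. -/
theorem Xa_small (h3 : T.IsThree) (hn : centralizer ({T.B.a1 * T.B.a2} : Set G) ≤ normalizer (T.J : Set G))
    (X : Cfsg.Lib.PSpThree.Data T.Xa) (hXa : X.a = T.za)
    (hX : ∀ g : T.Ca, (g : G) ∈ T.J → (g : T.Xa) ∈ X.J)
    (hX' : ∀ y ∈ X.J, ∃ g : T.Ca, (g : G) ∈ T.J ∧ (g : T.Xa) = y) :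
    ∀ y ∈ X.J, y ≠ 1 → (∀ g : T.Xa, g * X.a * g⁻¹ ≠ y ∧ g * X.a * g⁻¹ ≠ y⁻¹) →
      centralizer ({y} : Set T.Xa) ≤ normalizer (X.J : Set T.Xa) := by
  intro y hy hy1 hyp c hc
  obtain ⟨g0, hg0, rfl⟩ := hX' y hy
  obtain ⟨g, rfl⟩ := QuotientGroup.mk_surjective c
  obtain ⟨v, hv⟩ := T.exists_cv hg0
  have hga : Commute (g : G) T.B.a1 := T.mem_Ca.1 g.2
  obtain ⟨b, hb⟩ : ∃ b : ZMod 3, (g : G) * T.cv v * (g : G)⁻¹ = T.cv v * zp T.B.a1 b := by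
    have h := mem_centralizer_singleton_iff.1 hc
    rw [← QuotientGroup.mk_mul, ← QuotientGroup.mk_mul] at h
    obtain ⟨n, hn⟩ := mem_powers_iff_mem_zpowers.2 (T.mk_eq_iff.1 h)
    change T.B.a1 ^ n = ((g : G) * g0)⁻¹ * ((g0 : G) * g) at hn
    refine ⟨-(n : ZMod 3), ?_⟩
    have e : zp T.B.a1 (n : ZMod 3) = T.B.a1 ^ n := by
      rw [zp, ZMod.val_natCast]; exact (pow_eq_pow_mod n T.B.a1_cube).symm
    rw [← zp_inv T.B.a1_cube, e, hv]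
    have hcn : (g : G) * (T.B.a1 ^ n)⁻¹ = (T.B.a1 ^ n)⁻¹ * g := (hga.pow_right n).inv_right.eq
    calc (g : G) * g0 * (g : G)⁻¹ = g0 * (g : G) * (T.B.a1 ^ n)⁻¹ * (g : G)⁻¹ := by rw [hn]; group
      _ = g0 * (T.B.a1 ^ n)⁻¹ := by rw [mul_assoc (g0 : G), hcn]; group
  have hshift : ∀ i, (g : G) * T.cv (v + (0, i, 0, 0)) * (g : G)⁻¹ = T.cv (v + (0, i + b, 0, 0)) := fun i => by
    rw [T.cv_shift, T.cv_shift, add_comm i, zp_add T.B.a1_cube, ← mul_assoc (T.cv v), ← hb]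
    calc (g : G) * (T.cv v * zp T.B.a1 i) * (g : G)⁻¹ = (g : G) * T.cv v * (zp T.B.a1 i * (g : G)⁻¹) := by group
      _ = _ := by rw [(zp_comm hga.inv_left.symm i).eq]; group
  have hv0 : (v.1, v.2.2.1, v.2.2.2) ≠ (0, 0, 0) := fun e => by
    refine hy1 ((QuotientGroup.eq_one_iff g0).2 (mem_subgroupOf.2 ?_))
    simp only [Prod.mk.injEq] at e
    rw [← hv, show v = (0, 0, 0, 0) + (0, v.2.1, 0, 0) by simp [Prod.ext_iff, e], T.cv_shift,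
      show ((0, 0, 0, 0) : V4) = 0 from rfl, T.cv_zero, one_mul]
    exact zp_mem (mem_zpowers _) _
  rcases coset_cases v b hv0 with ⟨i, h1, h2⟩ | ⟨i, h1, h2⟩ | ⟨e, he, p, hp, hpe⟩
  · have hgn := cent_le_of_n hn h1 h2 (hshift i)
    refine mem_normalizer_of_conj_mem fun w hw => ?_
    obtain ⟨u, hu, rfl⟩ := hX' w hw
    rw [← QuotientGroup.mk_inv, ← QuotientGroup.mk_mul, ← QuotientGroup.mk_mul]
    exact hX _ ((mem_normalizer_iff.1 hgn _).1 hu)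
  · exact absurd (T.isPtv_of_conj (T.pt_of_isPtv h1) (hshift i)) h2
  · exfalso
    obtain ⟨h, hhC, -, hh⟩ := exists_of_orb (H := T.Ca) (gs := gensT) (fun m hm => by
      obtain ⟨f, -, hf⟩ := gensT_act h3 m hm
      refine ⟨f, T.mem_Ca.2 (mul_inv_eq_iff_eq_mul.1 ?_), hf⟩
      rw [← T.cv_a1, hf.eq, gensT_fix m hm]) (1, 0, 0, 0) 2 p (pt_list p hp)
    have hg0v : (g0 : T.Xa) = ((⟨h, hhC⟩ * ⟨D.z, T.z_mem_Ca⟩ ^ (T.ε * e).val * ⟨h, hhC⟩⁻¹ : T.Ca) : T.Xa) := by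
      refine T.mk_eq_iff.2 ?_
      show (g0 : G)⁻¹ * (h * D.z ^ (T.ε * e).val * h⁻¹) ∈ _
      have h1 : h * D.z ^ (T.ε * e).val * h⁻¹ = T.cv (v.1, 0, v.2.2.1, v.2.2.2) := by
        rw [hpe, T.cv_smul, ← hh, T.cv_z, show zp (h * zp D.z T.ε * h⁻¹) e = h * zp (zp D.z T.ε) e * h⁻¹ from conj_pow,
          zp_zp D.z_cube]
        rfl
      rw [h1, ← hv, show T.cv v = T.cv (v.1, 0, v.2.2.1, v.2.2.2) * zp T.B.a1 v.2.1 by
        rw [← T.cv_shift]; congr 1; simp [Prod.ext_iff], mul_inv_rev, inv_mul_cancel_right]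
      exact inv_mem (zp_mem (mem_zpowers _) _)
    rw [QuotientGroup.mk_mul, QuotientGroup.mk_mul, QuotientGroup.mk_pow, QuotientGroup.mk_inv] at hg0v
    rcases (show ∀ c : ZMod 3, c ≠ 0 → c.val = 1 ∨ c.val = 2 by decide) (T.ε * e) (mul_ne_zero T.ε_ne he) with h' | h' <;>
      rw [h'] at hg0v
    · exact (hyp ((⟨h, hhC⟩ : T.Ca) : T.Xa)).1 (by rw [hXa, za, hg0v, pow_one])
    · refine (hyp ((⟨h, hhC⟩ : T.Ca) : T.Xa)).2 ?_
      rw [hXa, hg0v, za]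
      simp only [mul_inv_rev, inv_inv, mul_assoc]
      congr 2
      have h3 : ((⟨D.z, T.z_mem_Ca⟩ : T.Ca) : T.Xa) ^ 3 = 1 := by
        rw [← QuotientGroup.mk_pow, show (⟨D.z, T.z_mem_Ca⟩ : T.Ca) ^ 3 = 1 from Subtype.ext D.z_cube]; rfl
      refine eq_inv_of_mul_eq_one_left ?_
      rw [← pow_succ']; exact h3

end Setting

end Cfsg.Lib.U6Three
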