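import Cfsg.Agent.Lib.U6Three.Base

/-!
# The splitting of the extraspecial subgroup by the involutions of the complement
-/

set_option autoImplicit false
set_option linter.unusedSectionVars false

namespace Cfsg.Lib.U6Three

open Subgroup
open scoped commutatorElement

theorem quat_facts : (∀ p q : Quat2, p * p = 1 → p * q = q * p) ∧ (∀ p : Quat2, p * p * (p * p) = 1) ∧
    (∃ a b : Quat2, a * a = 1 ∧ b * b = 1 ∧ a ≠ 1 ∧ b ≠ 1 ∧ a ≠ b ∧
      ∀ p : Quat2, p * p = 1 → p = 1 ∨ p = a ∨ p = b ∨ p = a * b) := by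
  refine ⟨by decide +kernel, by decide +kernel, (QuaternionGroup.a 2, 1), (1, QuaternionGroup.a 2), ?_⟩
  decide +kernel

namespace Data

variable {G : Type*} [Group G] [Finite G] (D : Data G)

/-- The centraliser in `Q`. -/
def fixC (j : G) : Subgroup G := D.Q ⊓ centralizer ({j} : Set G)

theorem mem_fixC {j q : G} : q ∈ D.fixC j ↔ q ∈ D.Q ∧ Commute q j :=
  and_congr Iff.rfl mem_centralizer_singleton_iff

theorem Zc_le_fixC {j : G} (hj : Commute j D.z) : D.Zc ≤ D.fixC j := fun _ hw =>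
  D.mem_fixC.2 ⟨D.Zc_le hw, (D.comm_Zc hj hw).symm⟩

variable {j : G}

theorem conj_conj (hj : j * j = 1) (x : G) : j * (j * x * j⁻¹) * j⁻¹ = x := by
  rw [show j * (j * x * j⁻¹) * j⁻¹ = (j * j) * x * (j * j)⁻¹ by group, hj]; group

/-- Fixed modulo the centre is fixed. -/
theorem fixed_of_mod (hj : j * j = 1) (hjz : Commute j D.z) {c : G}
    (h : ⁅j, c⁆ ∈ D.Zc) : Commute j c := by
  have hw : ⁅j, c⁆ * ⁅j, c⁆ = 1 := by
    have e : j * c * j⁻¹ = ⁅j, c⁆ * c := conj_eq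
    have e2 : c = ⁅j, c⁆ * (⁅j, c⁆ * c) := by
      conv_lhs => rw [← conj_conj hj c]
      rw [e, show j * (⁅j, c⁆ * c) * j⁻¹ = (j * ⁅j, c⁆ * j⁻¹) * (j * c * j⁻¹) by group,
        (D.comm_Zc hjz h).eq, mul_inv_cancel_right, e]
    rw [← mul_assoc] at e2
    exact (mul_eq_right (b := c)).1 e2.symm
  exact commutatorElement_eq_one_iff_commute.1 (eq_one_of_sq_cube hw (D.cube_Zc h))

/-- The part that `j` fixes and the part it inverts modulo the centre. -/
theorem decomp (hj : j * j = 1) (hjz : Commute j D.z) {W : Subgroup G} (hW : W ≤ D.Q) (hZW : D.Zc ≤ W)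
    (hinv : ∀ x ∈ W, j * x * j⁻¹ ∈ W) {q : G} (hq : q ∈ W) :
    ∃ c ∈ W, Commute c j ∧ ∃ m ∈ W, j * m * j⁻¹ * m ∈ D.Zc ∧ q = c * m := by
  set r := j * q * j⁻¹ with hr
  have hrW : r ∈ W := hinv q hq
  have hq' := hW hq
  have hr' := hW hrW
  set c0 := q * r with hc0
  have hc0m : ⁅j, c0⁆ ∈ D.Zc := by
    have e : ⁅j, c0⁆ = ⁅r, q⁆ := by
      rw [commutatorElement_def, hc0, show j * (q * r) * j⁻¹ = r * (j * r * j⁻¹) by rw [hr]; group, hr,
        conj_conj hj, ← hr, commutatorElement_def]; group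
    exact e ▸ D.comm_form hr' hq'
  set c := c0 ^ 122 with hc
  have hcc : c * c = c0 := by
    rw [hc, ← pow_add, show 122 + 122 = 243 + 1 by rfl, pow_add, D.pow_243 (D.Q.mul_mem hq' hr'), one_mul,
      pow_one]
  have hcW : c ∈ W := W.pow_mem (W.mul_mem hq hrW) _
  have hcj : Commute j c := D.fixed_of_mod hj hjz
    ((D.fixMod j hjz).pow_mem (⟨D.Q.mul_mem hq' hr', hc0m⟩ : c0 ∈ D.fixMod j hjz) _).2
  refine ⟨c, hcW, hcj.symm, c⁻¹ * q, W.mul_mem (W.inv_mem hcW) hq, ?_, (mul_inv_cancel_left c q).symm⟩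
  have e : j * (c⁻¹ * q) * j⁻¹ * (c⁻¹ * q) = c⁻¹ * ⁅r, c⁻¹⁆ * c⁻¹ * r * q := by
    rw [show j * (c⁻¹ * q) * j⁻¹ = (j * c * j⁻¹)⁻¹ * r by rw [hr]; group, hcj.eq, mul_inv_cancel_right,
      commutatorElement_def]
    group
  have hw := D.comm_form hr' (D.Q.inv_mem (hW hcW))
  rw [e, (D.comm_Q_Zc (D.Q.inv_mem (hW hcW)) hw).eq,
    show ⁅r, c⁻¹⁆ * c⁻¹ * c⁻¹ * r * q = ⁅r, c⁻¹⁆ * ((c * c)⁻¹ * r * q) by group, hcc, hc0,
    show (q * r)⁻¹ * r * q = ⁅r⁻¹, q⁻¹⁆ * 1 by rw [commutatorElement_def]; group, mul_one]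
  exact D.Zc.mul_mem hw (D.comm_form (D.Q.inv_mem hr') (D.Q.inv_mem hq'))

/-- The fixed part commutes with the inverted part. -/
theorem comm_parts (hjz : Commute j D.z) {c m : G} (hc : c ∈ D.Q) (hcj : Commute c j) (hm : m ∈ D.Q)
    (hmj : j * m * j⁻¹ * m ∈ D.Zc) : Commute c m := by
  have hw := D.comm_form hc hm
  set u := j * m * j⁻¹ * m with hu
  have hm' : j * m * j⁻¹ = u * m⁻¹ := by rw [hu, mul_inv_cancel_right]
  have e : ⁅c, m⁆ = ⁅c, m⁻¹⁆ := by
    have h1 : j * ⁅c, m⁆ * j⁻¹ = ⁅c, u * m⁻¹⁆ := by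
      rw [← hm', commutatorElement_def, commutatorElement_def]
      conv_rhs => rw [show c = j * c * j⁻¹ by rw [hcj.symm.eq, mul_inv_cancel_right]]
      group
    rw [(D.comm_Zc hjz hw).eq, mul_inv_cancel_right, D.form_mul_right hc (D.Zc_le hmj) (D.Q.inv_mem hm),
      commutatorElement_eq_one_iff_commute.2 (D.comm_Q_Zc hc hmj), one_mul] at h1
    exact h1
  have e2 : ⁅c, m⁆ * ⁅c, m⁆ = 1 := by
    nth_rewrite 2 [e]
    rw [← D.form_mul_right hc hm (D.Q.inv_mem hm), mul_inv_cancel, commutatorElement_one_right]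
  exact commutatorElement_eq_one_iff_commute.1 (eq_one_of_sq_cube e2 (D.cube_Zc hw))

/-- An involution centralises or inverts an invariant subgroup of order 27 with centre in the centre. -/
theorem act_cases (hj : j * j = 1) (hjz : Commute j D.z) {W : Subgroup G} (hW : W ≤ D.Q) (hZW : D.Zc ≤ W)
    (hcard : Nat.card W = 27) (hcen : ∀ x ∈ W, (∀ y ∈ W, Commute x y) → x ∈ D.Zc)
    (hinv : ∀ x ∈ W, j * x * j⁻¹ ∈ W) :
    (∀ x ∈ W, Commute x j) ∨ (∀ x ∈ W, j * x * j⁻¹ * x ∈ D.Zc) := by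
  haveI : Fact (Nat.Prime 3) := ⟨Nat.prime_three⟩
  by_cases hC : ∀ c ∈ W, Commute c j → c ∈ D.Zc
  · refine Or.inr fun q hq => ?_
    obtain ⟨c, hcW, hcj, m, hmW, hm, rfl⟩ := D.decomp hj hjz hW hZW hinv hq
    have hc := hC c hcW hcj
    rw [show j * (c * m) * j⁻¹ * (c * m) = (j * c * j⁻¹) * (j * m * j⁻¹) * (c * m) by group,
      hcj.symm.eq, mul_inv_cancel_right, ← (D.comm_Q_Zc (hW hmW) hc).eq,
      show c * (j * m * j⁻¹) * (m * c) = c * (j * m * j⁻¹ * m) * c by group]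
    exact D.Zc.mul_mem (D.Zc.mul_mem hc hm) hc
  · push Not at hC
    obtain ⟨c, hcW, hcj, hcZ⟩ := hC
    obtain ⟨y, hyW, hy⟩ : ∃ y ∈ W, ¬ Commute c y := by
      by_contra h
      push Not at h
      exact hcZ (hcen c hcW h)
    obtain ⟨c', hc'W, hc'j, m, hmW, hm, rfl⟩ := D.decomp hj hjz hW hZW hinv hyW
    have hne : ¬ Commute c c' := fun h => hy (h.mul_right (D.comm_parts hjz (hW hcW) hcj (hW hmW) hm))
    have hF : W ⊓ centralizer ({j} : Set G) = W := by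
      by_contra hne'
      have hlt : Nat.card ↥(W ⊓ centralizer ({j} : Set G) : Subgroup G) ∣ 9 := by
        obtain ⟨k, hk, e⟩ := (Nat.dvd_prime_pow Nat.prime_three).1
          ((Subgroup.card_dvd_of_le (inf_le_left : W ⊓ centralizer ({j} : Set G) ≤ W)).trans
            (by rw [hcard]; norm_num : Nat.card W ∣ 3 ^ 3))
        rw [e, show (9 : ℕ) = 3 ^ 2 by rfl]
        refine pow_dvd_pow 3 ?_
        by_contra hk2
        exact hne' (Subgroup.eq_of_le_of_card_ge inf_le_left (by rw [hcard, e, show k = 3 by omega]; norm_num))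
      obtain ⟨k, hk, e⟩ := (Nat.dvd_prime_pow Nat.prime_three).1
        (show Nat.card ↥(W ⊓ centralizer ({j} : Set G) : Subgroup G) ∣ 3 ^ 2 from hlt)
      have hm1 : c ∈ W ⊓ centralizer ({j} : Set G) := ⟨hcW, mem_centralizer_singleton_iff.2 hcj⟩
      have hm2 : c' ∈ W ⊓ centralizer ({j} : Set G) := ⟨hc'W, mem_centralizer_singleton_iff.2 hc'j⟩
      set F := W ⊓ centralizer ({j} : Set G)
      have hab : ∀ a b : F, a * b = b * a := by
        interval_cases k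
        · haveI := Subsingleton.elim (α := Unit) () ()
          intro a b
          haveI : Subsingleton F := (Nat.card_eq_one_iff_unique.1 (by simpa using e)).1
          exact Subsingleton.elim _ _
        · haveI : IsCyclic F := isCyclic_of_prime_card (p := 3) (by simpa using e)
          exact mul_comm'
        · exact IsPGroup.commutative_of_card_eq_prime_sq e
      exact hne (congrArg Subtype.val (hab ⟨c, hm1⟩ ⟨c', hm2⟩))
    exact Or.inl fun x hx => mem_centralizer_singleton_iff.1 (hF.ge hx).2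

/-- The part inverted modulo the centre. -/
def negC (j : G) (hjz : Commute j D.z) : Subgroup G where
  carrier := {q | q ∈ D.Q ∧ j * q * j⁻¹ * q ∈ D.Zc}
  one_mem' := ⟨D.Q.one_mem, by simp⟩
  mul_mem' := by
    rintro a b ⟨ha, ha'⟩ ⟨hb, hb'⟩
    refine ⟨D.Q.mul_mem ha hb, ?_⟩
    have hjb : j * b * j⁻¹ ∈ D.Q := D.norm_Q j hjz b hb
    rw [show j * (a * b) * j⁻¹ * (a * b) = (j * a * j⁻¹) * ⁅j * b * j⁻¹, a⁆ * a * (j * b * j⁻¹ * b) by
      simp only [commutatorElement_def]; group, (D.comm_Q_Zc (D.norm_Q j hjz a ha) (D.comm_form hjb ha)).eq,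
      show ⁅j * b * j⁻¹, a⁆ * (j * a * j⁻¹) * a * (j * b * j⁻¹ * b) =
        ⁅j * b * j⁻¹, a⁆ * (j * a * j⁻¹ * a) * (j * b * j⁻¹ * b) by group]
    exact D.Zc.mul_mem (D.Zc.mul_mem (D.comm_form hjb ha) ha') hb'
  inv_mem' := by
    rintro a ⟨ha, ha'⟩
    refine ⟨D.Q.inv_mem ha, ?_⟩
    have h1 : a * (j * a * j⁻¹) ∈ D.Zc := by
      rw [show a * (j * a * j⁻¹) = a * (j * a * j⁻¹ * a) * a⁻¹ by group, (D.comm_Q_Zc ha ha').eq,
        mul_inv_cancel_right]
      exact ha'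
    rw [show j * a⁻¹ * j⁻¹ * a⁻¹ = (a * (j * a * j⁻¹))⁻¹ by group]
    exact D.Zc.inv_mem h1

theorem mem_negC {q : G} {hjz : Commute j D.z} : q ∈ D.negC j hjz ↔ q ∈ D.Q ∧ j * q * j⁻¹ * q ∈ D.Zc := Iff.rfl

theorem fix_inf_neg (hjz : Commute j D.z) : D.fixC j ⊓ D.negC j hjz = D.Zc := by
  refine le_antisymm ?_ fun w hw => ⟨D.Zc_le_fixC hjz hw, D.Zc_le hw, ?_⟩
  · rintro q ⟨hq, hq2⟩
    obtain ⟨hqQ, hqj⟩ := D.mem_fixC.1 hq
    have h := hq2.2
    rw [hqj.symm.eq, mul_inv_cancel_right] at h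
    exact D.mem_of_sq_mem hqQ h
  · rw [(D.comm_Zc hjz hw).eq, mul_inv_cancel_right]
    exact D.Zc.mul_mem hw hw

theorem decomp_Q (hj : j * j = 1) (hjz : Commute j D.z) {q : G} (hq : q ∈ D.Q) :
    ∃ c ∈ D.fixC j, ∃ m ∈ D.negC j hjz, q = c * m := by
  obtain ⟨c, hc, hcj, m, hm, hm', e⟩ := D.decomp hj hjz le_rfl D.Zc_le (fun x hx => D.norm_Q j hjz x hx) hq
  exact ⟨c, D.mem_fixC.2 ⟨hc, hcj⟩, m, ⟨hm, hm'⟩, e⟩

theorem fix_neg_comm (hjz : Commute j D.z) {c m : G} (hc : c ∈ D.fixC j) (hm : m ∈ D.negC j hjz) :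
    Commute c m :=
  D.comm_parts hjz (D.mem_fixC.1 hc).1 (D.mem_fixC.1 hc).2 hm.1 hm.2

/-- An element of one part commuting with it all is central. -/
theorem center_fixC (hj : j * j = 1) (hjz : Commute j D.z) {x : G} (hx : x ∈ D.fixC j)
    (h : ∀ y ∈ D.fixC j, Commute x y) : x ∈ D.Zc := by
  refine D.center_Q x hx.1 fun y hy => ?_
  obtain ⟨c, hc, m, hm, rfl⟩ := D.decomp_Q hj hjz hy
  exact (h c hc).mul_right (D.fix_neg_comm hjz hx hm)

theorem center_negC (hj : j * j = 1) (hjz : Commute j D.z) {x : G} (hx : x ∈ D.negC j hjz)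
    (h : ∀ y ∈ D.negC j hjz, Commute x y) : x ∈ D.Zc := by
  refine D.center_Q x hx.1 fun y hy => ?_
  obtain ⟨c, hc, m, hm, rfl⟩ := D.decomp_Q hj hjz hy
  exact (D.fix_neg_comm hjz hc hx).symm.mul_right (h m hm)

theorem card_ge_27 {W : Subgroup G} (hW : W ≤ D.Q) (hne : ∃ x ∈ W, x ∉ D.Zc)
    (hcen : ∀ x ∈ W, (∀ y ∈ W, Commute x y) → x ∈ D.Zc) : 27 ≤ Nat.card W := by
  haveI : Fact (Nat.Prime 3) := ⟨Nat.prime_three⟩
  obtain ⟨k, hk, e⟩ := (Nat.dvd_prime_pow Nat.prime_three).1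
    ((Subgroup.card_dvd_of_le hW).trans (by rw [D.card_Q]; norm_num : Nat.card D.Q ∣ 3 ^ 5))
  obtain ⟨x, hx, hxZ⟩ := hne
  rcases Nat.lt_or_ge k 3 with h3 | h3
  · exfalso
    have hab : ∀ a b : W, a * b = b * a := by
      interval_cases k
      · intro a b
        haveI : Subsingleton W := (Nat.card_eq_one_iff_unique.1 (by simpa using e)).1
        exact Subsingleton.elim _ _
      · haveI : IsCyclic W := isCyclic_of_prime_card (p := 3) (by simpa using e)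
        exact mul_comm'
      · exact IsPGroup.commutative_of_card_eq_prime_sq e
    exact hxZ (hcen x hx fun y hy => congrArg Subtype.val (hab ⟨x, hx⟩ ⟨y, hy⟩))
  · rw [e]; exact le_trans (by norm_num : 27 ≤ 3 ^ 3) (Nat.pow_le_pow_right (by norm_num) h3)

theorem card_fix_mul_neg (hj : j * j = 1) (hjz : Commute j D.z) :
    Nat.card (D.fixC j) * Nat.card (D.negC j hjz) = 729 := by
  let f : D.fixC j × D.negC j hjz →* D.Q :=
    { toFun := fun p => ⟨p.1.1 * p.2.1, D.Q.mul_mem p.1.2.1 p.2.2.1⟩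
      map_one' := Subtype.ext (by simp)
      map_mul' := fun p p' => Subtype.ext (by
        show p.1.1 * p'.1.1 * (p.2.1 * p'.2.1) = p.1.1 * p.2.1 * (p'.1.1 * p'.2.1)
        rw [mul_assoc p.1.1, ← mul_assoc p'.1.1, (D.fix_neg_comm hjz p'.1.2 p.2.2).eq]
        group) }
  have hf : Function.Surjective f := by
    rintro ⟨q, hq⟩
    obtain ⟨c, hc, m, hm, e⟩ := D.decomp_Q hj hjz hq
    exact ⟨(⟨c, hc⟩, ⟨m, hm⟩), Subtype.ext e.symm⟩
  have hker : Nat.card f.ker = 3 := by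
    rw [← D.card_Zc]
    have hI := D.fix_inf_neg hjz
    exact Nat.card_congr
      { toFun := fun p => ⟨p.1.1.1, by
          have e : (p.1.1 : G) * (p.1.2 : G) = 1 := congrArg Subtype.val (MonoidHom.mem_ker.1 p.2)
          exact hI.le ⟨p.1.1.2, by rw [eq_inv_of_mul_eq_one_left e]; exact (D.negC j hjz).inv_mem p.1.2.2⟩⟩
        invFun := fun w => ⟨(⟨w.1, (hI.ge w.2).1⟩, ⟨w.1⁻¹, (D.negC j hjz).inv_mem (hI.ge w.2).2⟩),
          MonoidHom.mem_ker.2 (Subtype.ext (mul_inv_cancel w.1))⟩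
        left_inv := fun p => by
          have e : (p.1.1 : G) * (p.1.2 : G) = 1 := congrArg Subtype.val (MonoidHom.mem_ker.1 p.2)
          exact Subtype.ext (Prod.ext (Subtype.ext rfl) (Subtype.ext (eq_inv_of_mul_eq_one_right e).symm))
        right_inv := fun w => rfl }
  rw [← Nat.card_prod, Subgroup.card_eq_card_quotient_mul_card_subgroup f.ker, hker,
    Nat.card_congr (QuotientGroup.quotientKerEquivOfSurjective f hf).toEquiv, D.card_Q]

theorem card_parts (hj : j * j = 1) (hjz : Commute j D.z) (h1 : ∃ x ∈ D.fixC j, x ∉ D.Zc)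
    (h2 : ∃ x ∈ D.negC j hjz, x ∉ D.Zc) :
    Nat.card (D.fixC j) = 27 ∧ Nat.card (D.negC j hjz) = 27 := by
  have a := D.card_ge_27 (W := D.fixC j) (fun x hx => hx.1) h1 fun x hx => D.center_fixC hj hjz hx
  have b := D.card_ge_27 (W := D.negC j hjz) (fun x hx => hx.1) h2 fun x hx => D.center_negC hj hjz hx
  have h := D.card_fix_mul_neg hj hjz
  constructor <;> nlinarith

/-- Two elements inverting modulo the centre: the product fixes modulo it. -/
theorem double_neg {a b q : G} (hbz : Commute b D.z) (hq : q ∈ D.Q)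
    (h1 : b * q * b⁻¹ * q ∈ D.Zc) (h2 : a * (b * q * b⁻¹) * a⁻¹ * (b * q * b⁻¹) ∈ D.Zc) :
    ⁅a * b, q⁆ ∈ D.Zc := by
  have e : ⁅a * b, q⁆ = a * (b * q * b⁻¹) * a⁻¹ * (b * q * b⁻¹) * (q * (b * q * b⁻¹ * q) * q⁻¹)⁻¹ := by
    simp only [commutatorElement_def]; group
  rw [e, (D.comm_Q_Zc hq h1).eq, mul_inv_cancel_right]
  exact D.Zc.mul_mem h2 (D.Zc.inv_mem h1)

end Data

/-- The involutions and the two extraspecial subgroups of order 27. -/
structure Split {G : Type*} [Group G] [Finite G] (D : Data G) where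
  /-- Centralises the first part and inverts the second. -/
  s : G
  /-- Centralises the second part and inverts the first. -/
  t : G
  s_sq : s * s = 1
  t_sq : t * t = 1
  st : Commute s t
  s_z : Commute s D.z
  t_z : Commute t D.z
  s_ι : ∀ p, Commute s (D.ι p)
  t_ι : ∀ p, Commute t (D.ι p)
  invol : ∀ p, D.ι p * D.ι p = 1 → D.ι p = 1 ∨ D.ι p = s ∨ D.ι p = t ∨ D.ι p = s * t
  s_mem : s ∈ D.ι.range
  t_mem : t ∈ D.ι.range
  card₁ : Nat.card (D.fixC s) = 27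
  card₂ : Nat.card (D.fixC t) = 27
  s_neg : ∀ q ∈ D.fixC t, s * q * s⁻¹ * q ∈ D.Zc
  t_neg : ∀ q ∈ D.fixC s, t * q * t⁻¹ * q ∈ D.Zc
  decomp : ∀ q ∈ D.Q, ∃ c ∈ D.fixC s, ∃ m ∈ D.fixC t, q = c * m

theorem Data.exists_split {G : Type*} [Group G] [Finite G] (D : Data G) : Nonempty (Split D) := by
  obtain ⟨hc, hsq, a, b, ha, hb, ha1, hb1, hab, hall⟩ := quat_facts
  have comm : ∀ p q, p * p = 1 → Commute (D.ι p) (D.ι q) := fun p q hp => by
    show D.ι p * D.ι q = D.ι q * D.ι p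
    rw [← map_mul, ← map_mul, hc p q hp]
  have invj : ∀ p : Quat2, p * p = 1 → D.ι p * D.ι p = 1 := fun p hp => by rw [← map_mul, hp, map_one]
  -- a nontrivial involution moves something modulo the centre
  have moves : ∀ p : Quat2, p * p = 1 → p ≠ 1 → ¬ ∀ q ∈ D.Q, Commute q (D.ι p) := fun p hp hp1 h => by
    have hm := D.cent_Q _ (D.ι_z p) fun q hq => (h q hq).symm
    exact hp1 (D.ι_inj (by rw [map_one]; exact eq_one_of_sq_cube (invj p hp) (D.cube_Zc hm)))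
  -- some involution has both parts nontrivial
  obtain ⟨p, hp, hp1, hfix⟩ : ∃ p : Quat2, p * p = 1 ∧ p ≠ 1 ∧ ∃ x ∈ D.fixC (D.ι p), x ∉ D.Zc := by
    by_contra hno
    push Not at hno
    have hab2 : (a * b) * (a * b) = 1 := by
      rw [show a * b * (a * b) = a * (b * a) * b by group, hc b a hb,
        show a * (a * b) * b = (a * a) * (b * b) by group, ha, hb, one_mul]
    have hab1 : a * b ≠ 1 := fun e => hab ((eq_inv_of_mul_eq_one_left e).trans (inv_eq_of_mul_eq_one_left hb))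
    have hneg : ∀ p : Quat2, p * p = 1 → p ≠ 1 → ∀ q ∈ D.Q, D.ι p * q * (D.ι p)⁻¹ * q ∈ D.Zc := by
      intro p hp hp1 q hq
      obtain ⟨c, hc, m, hm, rfl⟩ := D.decomp_Q (invj p hp) (D.ι_z p) hq
      exact ((D.negC _ (D.ι_z p)).mul_mem
        ((D.fix_inf_neg (D.ι_z p)).ge (hno p hp hp1 c hc)).2 hm).2
    refine moves (a * b) hab2 hab1 fun q hq => (D.fixed_of_mod (invj _ hab2) (D.ι_z _) ?_).symm
    have h1 := hneg b hb hb1 q hq
    have hbq : D.ι b * q * (D.ι b)⁻¹ ∈ D.Q := D.norm_Q _ (D.ι_z b) q hq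
    have h2 := hneg a ha ha1 _ hbq
    rw [map_mul]
    exact D.double_neg (D.ι_z b) hq h1 h2
  set s := D.ι p with hs
  have hsz := D.ι_z p
  have hneg : ∃ x ∈ D.negC s hsz, x ∉ D.Zc := by
    by_contra hno
    push Not at hno
    refine moves p hp hp1 fun q hq => ?_
    obtain ⟨c, hc, m, hm, rfl⟩ := D.decomp_Q (invj p hp) hsz hq
    exact (D.mem_fixC.1 hc).2.mul_left (D.comm_Zc hsz (hno m hm)).symm
  obtain ⟨h27, h27'⟩ := D.card_parts (invj p hp) hsz hfix hneg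
  have inv1 : ∀ q : Quat2, ∀ x ∈ D.fixC s, D.ι q * x * (D.ι q)⁻¹ ∈ D.fixC s := fun q x hx => by
    obtain ⟨hxQ, hxs⟩ := D.mem_fixC.1 hx
    exact D.mem_fixC.2 ⟨D.norm_Q _ (D.ι_z q) x hxQ, (((comm p q hp).symm).mul_left hxs).mul_left
      (comm p q hp).symm.inv_left⟩
  have inv2 : ∀ q : Quat2, ∀ x ∈ D.negC s hsz, D.ι q * x * (D.ι q)⁻¹ ∈ D.negC s hsz := fun q x hx => by
    refine ⟨D.norm_Q _ (D.ι_z q) x hx.1, ?_⟩
    rw [show s * (D.ι q * x * (D.ι q)⁻¹) * s⁻¹ * (D.ι q * x * (D.ι q)⁻¹) =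
      (s * D.ι q) * x * (s * D.ι q)⁻¹ * (D.ι q * x * (D.ι q)⁻¹) by group, (comm p q hp).eq,
      show (D.ι q * s) * x * (D.ι q * s)⁻¹ * (D.ι q * x * (D.ι q)⁻¹) =
        D.ι q * (s * x * s⁻¹ * x) * (D.ι q)⁻¹ by group, (D.comm_Zc (D.ι_z q) hx.2).eq,
      mul_inv_cancel_right]
    exact hx.2
  obtain ⟨k, hk, hk1, hkp, hk4⟩ : ∃ k : Quat2, k * k = 1 ∧ k ≠ 1 ∧ k ≠ p ∧
      ∀ q : Quat2, q * q = 1 → q = 1 ∨ q = p ∨ q = k ∨ q = k * p := by
    rcases hall p hp with rfl | rfl | rfl | rfl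
    · exact absurd rfl hp1
    · refine ⟨b, hb, hb1, Ne.symm hab, fun q hq => ?_⟩
      rcases hall q hq with h | h | h | h
      exacts [Or.inl h, Or.inr (Or.inl h), Or.inr (Or.inr (Or.inl h)), Or.inr (Or.inr (Or.inr (h.trans (hc _ _ ha))))]
    · refine ⟨a, ha, ha1, hab, fun q hq => ?_⟩
      rcases hall q hq with h | h | h | h
      exacts [Or.inl h, Or.inr (Or.inr (Or.inl h)), Or.inr (Or.inl h), Or.inr (Or.inr (Or.inr h))]
    · refine ⟨a, ha, ha1, fun e => hb1 (mul_left_cancel (a := a) (by rw [mul_one]; exact e.symm)), fun q hq => ?_⟩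
      rcases hall q hq with h | h | h | h
      · exact Or.inl h
      · exact Or.inr (Or.inr (Or.inl h))
      · exact Or.inr (Or.inr (Or.inr (by rw [h, ← mul_assoc, ha, one_mul])))
      · exact Or.inr (Or.inl h)
  have hkp2 : (k * p) * (k * p) = 1 := by
    rw [show k * p * (k * p) = k * (p * k) * p by group, hc p k hp,
      show k * (k * p) * p = (k * k) * (p * p) by group, hk, hp, one_mul]
  have case1 := D.act_cases (invj k hk) (D.ι_z k) (W := D.fixC s) (fun x hx => hx.1) (D.Zc_le_fixC hsz) h27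
    (fun x hx => D.center_fixC (invj p hp) hsz hx) (inv1 k)
  have case2 := D.act_cases (invj k hk) (D.ι_z k) (W := D.negC s hsz) (fun x hx => hx.1)
    ((D.fix_inf_neg hsz).ge.trans inf_le_right) h27'
    (fun x hx => D.center_negC (invj p hp) hsz hx) (inv2 k)
  have case1' : ∀ x ∈ D.fixC s, D.ι k * x * (D.ι k)⁻¹ * x ∈ D.Zc := by
    refine case1.resolve_left fun h => ?_
    rcases case2 with h' | h'
    · refine moves k hk hk1 fun q hq => ?_
      obtain ⟨c, hc', m, hm, rfl⟩ := D.decomp_Q (invj p hp) hsz hq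
      exact (h c hc').mul_left (h' m hm)
    · refine moves (k * p) hkp2 (fun e => hkp ((eq_inv_of_mul_eq_one_left e).trans (inv_eq_of_mul_eq_one_left hp)))
        fun q hq => ?_
      obtain ⟨c, hc', m, hm, rfl⟩ := D.decomp_Q (invj p hp) hsz hq
      rw [map_mul]
      refine ((h c hc').mul_right (D.mem_fixC.1 hc').2).mul_left
        (D.fixed_of_mod (by rw [← map_mul]; exact invj _ hkp2) ((D.ι_z k).mul_left hsz) ?_).symm
      have hsm : s * m * s⁻¹ ∈ D.negC s hsz := inv2 p m hm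
      exact D.double_neg hsz hm.1 hm.2 (h' _ hsm)
  -- choose the involution centralising the second part
  obtain ⟨l, hl, hl1, hl2, hl4⟩ : ∃ l : Quat2, l * l = 1 ∧ (∀ x ∈ D.fixC s, D.ι l * x * (D.ι l)⁻¹ * x ∈ D.Zc) ∧
      (∀ x ∈ D.negC s hsz, Commute x (D.ι l)) ∧
      ∀ q : Quat2, q * q = 1 → q = 1 ∨ q = p ∨ q = l ∨ q = p * l := by
    rcases case2 with h' | h'
    · refine ⟨k, hk, case1', h', fun q hq => ?_⟩
      rcases hk4 q hq with h | h | h | h
      exacts [Or.inl h, Or.inr (Or.inl h), Or.inr (Or.inr (Or.inl h)), Or.inr (Or.inr (Or.inr (h.trans (hc k p hk))))]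
    · refine ⟨k * p, hkp2, fun x hx => ?_, fun x hx => ?_, fun q hq => ?_⟩
      · obtain ⟨-, hxs⟩ := D.mem_fixC.1 hx
        rw [map_mul, show D.ι k * s * x * (D.ι k * s)⁻¹ = D.ι k * (s * x * s⁻¹) * (D.ι k)⁻¹ by group,
          hxs.symm.eq, mul_inv_cancel_right]
        exact case1' x hx
      · rw [map_mul]
        refine (D.fixed_of_mod (by rw [← map_mul]; exact invj _ hkp2) ((D.ι_z k).mul_left hsz) ?_).symm
        have hsm : s * x * s⁻¹ ∈ D.negC s hsz := inv2 p x hx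
        exact D.double_neg hsz hx.1 hx.2 (h' _ hsm)
      · rcases hk4 q hq with h | h | h | h
        · exact Or.inl h
        · exact Or.inr (Or.inl h)
        · refine Or.inr (Or.inr (Or.inr ?_))
          rw [h, ← hc (k * p) p hkp2, mul_assoc, hp, mul_one]
        · exact Or.inr (Or.inr (Or.inl h))
  have hneg_eq : D.fixC (D.ι l) = D.negC s hsz := by
    refine (Subgroup.eq_of_le_of_card_ge (fun x (hx : x ∈ D.negC s hsz) => D.mem_fixC.2 ⟨hx.1, hl2 x hx⟩) ?_).symm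
    obtain ⟨x, hx, hxZ⟩ := hfix
    have hne : ∃ x ∈ D.negC (D.ι l) (D.ι_z l), x ∉ D.Zc := ⟨x, ⟨hx.1, hl1 x hx⟩, hxZ⟩
    obtain ⟨y, hy, hyZ⟩ := hneg
    rw [(D.card_parts (invj l hl) (D.ι_z l) ⟨y, D.mem_fixC.2 ⟨hy.1, hl2 y hy⟩, hyZ⟩ hne).1, h27']
  exact ⟨{
    s := s, t := D.ι l
    s_sq := invj p hp
    t_sq := invj l hl
    st := comm p l hp
    s_z := hsz
    t_z := D.ι_z l
    s_ι := fun q => comm p q hp
    t_ι := fun q => comm l q hl
    invol := fun q hq => by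
      rcases hl4 q (D.ι_inj (by rw [map_mul, map_one]; exact hq)) with h | h | h | h <;> subst h
      exacts [Or.inl (map_one _), Or.inr (Or.inl rfl), Or.inr (Or.inr (Or.inl rfl)),
        Or.inr (Or.inr (Or.inr (map_mul _ _ _)))]
    s_mem := ⟨p, rfl⟩
    t_mem := ⟨l, rfl⟩
    card₁ := h27
    card₂ := by rw [hneg_eq, h27']
    s_neg := fun q hq => by rw [hneg_eq] at hq; exact hq.2
    t_neg := hl1
    decomp := fun q hq => by
      obtain ⟨c, hc', m, hm, e⟩ := D.decomp_Q (invj p hp) hsz hq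
      exact ⟨c, hc', m, by rw [hneg_eq]; exact hm, e⟩ }⟩

end Cfsg.Lib.U6Three
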