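import Cfsg.Agent.Lib.U6Three.Plane

/-!
# The ten points of the elementary group
-/

set_option autoImplicit false
set_option linter.unusedSectionVars false
set_option linter.style.haveILetI false

namespace Cfsg.Lib.U6Three

open Subgroup
open scoped commutatorElement

theorem prime_gap : ∀ r ∈ ([7, 19, 37] : List ℕ), ∀ c < 6, ∀ d < 6, 3 ^ d % r = 3 ^ c % r → c = d := by decide

/-- A point gives a pair. -/
theorem Data.pair_of_pt {G : Type*} [Group G] [Finite G] (D : Data G) {y : G} (hp : Pt D.z y)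
    (hz : Commute y D.z) (hQ : y ∉ D.Q) : ∃ D' : Data G, D'.z = y ∧ Pair D D' := by
  obtain ⟨D', rfl⟩ := D.exists_view hp
  exact ⟨D', rfl, ⟨hp, hz, hQ⟩⟩

namespace Pair

variable {G : Type*} [Group G] [Finite G] {D D' : Data G} (h : Pair D D') {S : Split D} (B : Basis S)
  (hx : D'.z ∈ B.Stab)

include h hx

/-- The centraliser of the group. -/
theorem mem_cent_J {g : G} : g ∈ centralizer (h.J B hx : Set G) ↔ g ∈ B.Stab ∧ Commute g D'.z := by
  constructor
  · intro hg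
    have hc := fun {w : G} (hw : w ∈ h.J B hx) => (mem_centralizer_iff.1 hg w hw : w * g = g * w)
    have e1 : Commute g B.a1 := (hc (by simpa [Basis.el, zp_zero, zp_one] using h.el_mem_J B hx 0 1 0)).symm
    have e2 : Commute g B.a2 := (hc (by simpa [Basis.el, zp_zero, zp_one] using h.el_mem_J B hx 0 0 1)).symm
    refine ⟨⟨(hc (h.z_mem_J B hx)).symm, ?_, ?_⟩, (hc (h.x_mem_J B hx)).symm⟩
    · rw [commutatorElement_eq_one_iff_commute.2 e1]; exact D.Zc.one_mem
    · rw [commutatorElement_eq_one_iff_commute.2 e2]; exact D.Zc.one_mem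
  · rintro ⟨hg, hgx⟩
    obtain ⟨c1, c2⟩ := h.full B hx
    have hone : ∀ {a : G}, a ∈ D.Q → Commute a D'.z → ⁅g, a⁆ ∈ D.Zc → Commute g a := fun {a} ha hax hga => by
      refine commutatorElement_eq_one_iff_commute.1 ?_
      by_contra hne
      have h1 := h.comm_mem' B hg hgx (B.Q_le_Stab ha) hax
      rcases D.cases_Zc hga with e | e | e
      · exact hne e
      · exact h.symm.notin (e ▸ h1)
      · exact h.symm.notin (inv_mem_iff.1 (e ▸ h1))
    have d1 := hone B.ha1.1 c1.symm hg.2.1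
    have d2 := hone B.ha2.1 c2.symm hg.2.2
    rw [mem_centralizer_iff]
    rintro _ ⟨p, rfl⟩
    obtain ⟨⟨k, i, j, l⟩, rfl⟩ := Multiplicative.ofAdd.surjective p
    rw [h.vec_apply]
    exact ((((zp_comm hg.1.symm k).mul_left (zp_comm d1.symm i)).mul_left (zp_comm d2.symm j)).mul_left
      (zp_comm hgx.symm l)).eq

theorem P_le_Stab : centralizer (h.J B hx : Set G) ≤ B.Stab := fun _ hg => ((h.mem_cent_J B hx).1 hg).1

theorem P_pgroup : IsPGroup 3 (centralizer (h.J B hx : Set G)) := B.Stab_pgroup.to_le (h.P_le_Stab B hx)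

theorem comm_P {u w : G} (hu : u ∈ centralizer (h.J B hx : Set G)) (hw : w ∈ h.J B hx) : Commute u w :=
  (mem_centralizer_iff.1 hu w hw).symm

theorem J_le_P : h.J B hx ≤ centralizer (h.J B hx : Set G) := by
  intro g hg
  rw [mem_centralizer_iff]
  obtain ⟨p, rfl⟩ := hg
  rintro _ ⟨q, rfl⟩
  rw [← map_mul, ← map_mul, mul_comm]

theorem mem_J_of_P_Q {g : G} (hg : g ∈ centralizer (h.J B hx : Set G)) (hq : g ∈ D.Q) : g ∈ h.J B hx := by
  obtain ⟨k, i, j, rfl⟩ := h.mem_el B hx hq (by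
    rw [commutatorElement_eq_one_iff_commute.2 ((h.mem_cent_J B hx).1 hg).2.symm]; exact D.Zc.one_mem)
  exact h.el_mem_J B hx k i j

theorem P_commutative {u v : G} (hu : u ∈ centralizer (h.J B hx : Set G))
    (hv : v ∈ centralizer (h.J B hx : Set G)) : Commute u v := by
  have hxP := h.J_le_P B hx (h.x_mem_J B hx)
  have hsplit : ∀ {g}, g ∈ centralizer (h.J B hx : Set G) → ∀ (hgS : g ∈ B.Stab), B.kappa ⟨g, hgS⟩ = 1 →
      g ∈ h.J B hx := fun hg hgS e => h.mem_J_of_P_Q B hx hg (B.kappa_eq_one.1 e)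
  have huS := h.P_le_Stab B hx hu
  have hvS := h.P_le_Stab B hx hv
  set kx := B.kappa ⟨_, hx⟩
  set ku := B.kappa ⟨u, huS⟩
  set kv := B.kappa ⟨v, hvS⟩
  have hd : kx ≠ 1 := fun e => h.notin (B.kappa_eq_one.1 e)
  rcases (show ∀ kx ku kv : Multiplicative (ZMod 3 × ZMod 3), kx ≠ 1 → (∃ m : Fin 3, ku * kx ^ m.val = 1) ∨
      ∃ m n : Fin 3, kv * (kx ^ m.val * ku ^ n.val) = 1 by decide +kernel) kx ku kv hd with ⟨m, hm⟩ | ⟨m, n, hmn⟩
  · have hj := hsplit ((centralizer (h.J B hx : Set G)).mul_mem hu (pow_mem hxP m.val))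
      (B.Stab.mul_mem huS (pow_mem hx m.val))
      (show B.kappa (⟨u, huS⟩ * ⟨_, hx⟩ ^ m.val) = 1 by rw [map_mul, map_pow]; exact hm)
    have := ((h.comm_P B hx hv hj).mul_right ((h.comm_P B hx hv (h.x_mem_J B hx)).pow_right m.val).inv_right)
    rw [mul_inv_cancel_right] at this
    exact this.symm
  · have hj := hsplit ((centralizer (h.J B hx : Set G)).mul_mem hv (mul_mem (pow_mem hxP m.val) (pow_mem hu n.val)))
      (B.Stab.mul_mem hvS (B.Stab.mul_mem (pow_mem hx m.val) (pow_mem huS n.val)))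
      (show B.kappa (⟨v, hvS⟩ * (⟨_, hx⟩ ^ m.val * ⟨u, huS⟩ ^ n.val)) = 1 by
        rw [map_mul, map_mul, map_pow, map_pow]; exact hmn)
    have := (h.comm_P B hx hu hj).mul_right
      (((h.comm_P B hx hu (h.x_mem_J B hx)).pow_right m.val).mul_right ((Commute.refl u).pow_right n.val)).inv_right
    rwa [mul_inv_cancel_right] at this

theorem card_P_le : ∃ d < 6, Nat.card (centralizer (h.J B hx : Set G)) = 3 ^ d := by
  haveI : Fact (Nat.Prime 3) := ⟨Nat.prime_three⟩
  obtain ⟨d, hd⟩ := (h.P_pgroup B hx).exists_card_eq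
  refine ⟨d, ?_, hd⟩
  let f : centralizer (h.J B hx : Set G) →* Multiplicative (ZMod 3 × ZMod 3) :=
    B.kappa.comp (Subgroup.inclusion (h.P_le_Stab B hx))
  have hk : Nat.card f.ker ≤ 27 := by
    have hmem : ∀ g : f.ker, ∃ v : ZMod 3 × ZMod 3 × ZMod 3, ((g : centralizer (h.J B hx : Set G)) : G) =
        B.el v.1 v.2.1 v.2.2 := fun g => by
      obtain ⟨k, i, j, e⟩ := h.mem_el B hx (B.kappa_eq_one.1 (MonoidHom.mem_ker.1 g.2))
        (by
          show ⁅D'.z, ((g : centralizer (h.J B hx : Set G)) : G)⁆ ∈ D.Zc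
          rw [commutatorElement_eq_one_iff_commute.2 ((h.mem_cent_J B hx).1 g.1.2).2.symm]; exact D.Zc.one_mem)
      exact ⟨(k, i, j), e⟩
    choose φ hφ using hmem
    refine le_trans (Nat.card_le_card_of_injective φ fun a b e => Subtype.ext (Subtype.ext ?_)) (by simp)
    exact (hφ a).trans ((congrArg (fun v : ZMod 3 × ZMod 3 × ZMod 3 => B.el v.1 v.2.1 v.2.2) e).trans (hφ b).symm)
  have hq : Nat.card (centralizer (h.J B hx : Set G) ⧸ f.ker) ≤ 9 := by
    rw [Nat.card_congr (QuotientGroup.quotientKerEquivRange f).toEquiv]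
    exact (Subgroup.card_le_card_group f.range).trans (by simp)
  have hc := Subgroup.card_eq_card_quotient_mul_card_subgroup f.ker
  rw [hd] at hc
  by_contra hlt
  have h6 : 729 ≤ 3 ^ d := (show (729 : ℕ) = 3 ^ 6 by rfl) ▸ Nat.pow_le_pow_right (by norm_num) (not_lt.1 hlt)
  have := Nat.mul_le_mul hq hk
  omega

/-- The conjugate of the second point by an element of `Q` is in the group. -/
theorem Q_le_norm : D.Q ≤ normalizer (h.J B hx : Set G) := by
  intro q hq
  obtain ⟨f, g, -, -, -, -, horb⟩ := h.orbit B hx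
  have hgen : ∀ w ∈ h.J B hx, q * w * q⁻¹ ∈ h.J B hx := by
    have hxq : q * D'.z * q⁻¹ ∈ h.J B hx := by
      obtain ⟨c, hc, d, hd, e⟩ := S.decomp q hq
      obtain ⟨u, hu, i, j, ec⟩ := B.normal_form hc
      obtain ⟨v, hv, i', j', ed⟩ := B.swap.normal_form (show d ∈ S.swap.Q1 from hd)
      change d = v * zp B.a2 i' * zp B.b2 j' at ed
      let T : Subgroup G :=
        { carrier := {q | q ∈ D.Q ∧ ⁅D'.z, q⁆ ∈ h.J B hx}
          one_mem' := ⟨D.Q.one_mem, by simp⟩
          mul_mem' := by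
            rintro a b ⟨ha, ha'⟩ ⟨hb, hb'⟩
            refine ⟨D.Q.mul_mem ha hb, ?_⟩
            rw [show ⁅D'.z, a * b⁆ = ⁅D'.z, a⁆ * (a * ⁅D'.z, b⁆ * a⁻¹) by
              simp only [commutatorElement_def]; group, Data.conj_eq]
            refine (h.J B hx).mul_mem ha' ((h.J B hx).mul_mem ?_ hb')
            obtain ⟨k, hk⟩ := D.exists_zp (D.comm_form ha (D.comm_mem hx.1 hb))
            rw [hk]
            exact zp_mem (h.z_mem_J B hx) k
          inv_mem' := by
            rintro a ⟨ha, ha'⟩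
            refine ⟨D.Q.inv_mem ha, ?_⟩
            rw [show ⁅D'.z, a⁻¹⁆ = a⁻¹ * ⁅D'.z, a⁆⁻¹ * a⁻¹⁻¹ by simp only [commutatorElement_def]; group,
              Data.conj_eq]
            refine (h.J B hx).mul_mem ?_ ((h.J B hx).inv_mem ha')
            obtain ⟨k, hk⟩ := D.exists_zp (D.comm_form (D.Q.inv_mem ha) (D.Q.inv_mem (D.comm_mem hx.1 ha)))
            rw [hk]
            exact zp_mem (h.z_mem_J B hx) k }
      have hT : ∀ {w}, w ∈ D.Zc → w ∈ T := fun hw => ⟨D.Zc_le hw, by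
        rw [commutatorElement_eq_one_iff_commute.2 (D.comm_Zc hx.1 hw)]; exact one_mem _⟩
      have hZJ : D.Zc ≤ h.J B hx := zpowers_le.2 (h.z_mem_J B hx)
      have hb : ∀ {S' : Split D} (A : Basis S') (hA : D'.z ∈ A.Stab), A.a1 ∈ h.J B hx → A.b1 ∈ T := fun A hA ha =>
        ⟨A.hb1.1, by
          have := (h.J B hx).mul_mem (hZJ (A.k1_spec ⟨_, hA⟩)) (zp_mem ha (A.k1 ⟨_, hA⟩))
          rwa [inv_mul_cancel_right] at this⟩
      have ha1 : B.a1 ∈ h.J B hx := by simpa [Basis.el, zp_zero, zp_one] using h.el_mem_J B hx 0 1 0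
      have ha2 : B.a2 ∈ h.J B hx := by simpa [Basis.el, zp_zero, zp_one] using h.el_mem_J B hx 0 0 1
      have hqT : q⁻¹ ∈ T := T.inv_mem (e ▸ T.mul_mem
        (ec ▸ T.mul_mem (T.mul_mem (hT hu) (zp_mem (show B.a1 ∈ T from ⟨B.ha1.1, hZJ hx.2.1⟩) i))
          (zp_mem (hb B hx ha1) j))
        (ed ▸ T.mul_mem (T.mul_mem (hT hv) (zp_mem (show B.a2 ∈ T from ⟨B.ha2.1, hZJ hx.2.2⟩) i'))
          (zp_mem (show B.b2 ∈ T from hb B.swap (B.swap_Stab hx) ha2) j')))
      rw [show q * D'.z * q⁻¹ = q * ⁅D'.z, q⁻¹⁆ * q⁻¹ * D'.z by simp only [commutatorElement_def]; group,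
        Data.conj_eq]
      refine (h.J B hx).mul_mem ((h.J B hx).mul_mem ?_ hqT.2) (h.x_mem_J B hx)
      obtain ⟨k, hk⟩ := D.exists_zp (D.comm_form hq (D.comm_mem hx.1 (D.Q.inv_mem hq)))
      rw [hk]
      exact zp_mem (h.z_mem_J B hx) k
    rintro _ ⟨p, rfl⟩
    obtain ⟨⟨k, i, j, l⟩, rfl⟩ := Multiplicative.ofAdd.surjective p
    rw [h.vec_apply, show q * (B.el k i j * zp D'.z l) * q⁻¹ = (q * B.el k i j * q⁻¹) * (q * zp D'.z l * q⁻¹) by group,
      Data.conj_eq, zp, ← conj_pow]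
    refine (h.J B hx).mul_mem ((h.J B hx).mul_mem ?_ (h.el_mem_J B hx k i j)) (pow_mem hxq _)
    exact zpowers_le.2 (h.z_mem_J B hx) (D.comm_form hq (B.el_mem k i j))
  rw [mem_normalizer_iff]
  intro w
  refine ⟨hgen w, fun hw => ?_⟩
  have hfin : (h.J B hx).map (MulAut.conj q).toMonoidHom = h.J B hx := Subgroup.eq_of_le_of_card_ge
    (by rintro _ ⟨u, hu, rfl⟩; exact hgen u hu)
    (le_of_eq (Subgroup.card_map_of_injective (MulAut.conj q).injective).symm)
  obtain ⟨u, hu, e⟩ := hfin.ge hw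
  exact mul_left_cancel (mul_right_cancel e) ▸ hu

omit hx in
theorem norm_le_norm_P {W : Subgroup G} : normalizer (W : Set G) ≤ normalizer (centralizer (W : Set G) : Set G) := by
  intro g hg
  rw [mem_normalizer_iff] at hg ⊢
  intro u
  constructor <;> intro hu <;> rw [mem_centralizer_iff] at hu ⊢ <;> intro w hw
  · have := hu (g⁻¹ * w * g) ((hg _).2 (by rw [show g * (g⁻¹ * w * g) * g⁻¹ = w by group]; exact hw))
    calc w * (g * u * g⁻¹) = g * ((g⁻¹ * w * g) * u) * g⁻¹ := by group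
      _ = g * (u * (g⁻¹ * w * g)) * g⁻¹ := by rw [this]
      _ = _ := by group
  · have := hu (g * w * g⁻¹) ((hg w).1 hw)
    calc w * u = g⁻¹ * ((g * w * g⁻¹) * (g * u * g⁻¹)) * g := by group
      _ = g⁻¹ * ((g * u * g⁻¹) * (g * w * g⁻¹)) * g := by rw [this]
      _ = _ := by group

/-- A point of the centraliser: its own group has the same centraliser. -/
theorem cent_eq {D'' : Data G} (h' : Pair D D'') (hy : D''.z ∈ centralizer (h.J B hx : Set G)) :
    centralizer (h'.J B (h.P_le_Stab B hx hy) : Set G) = centralizer (h.J B hx : Set G) := by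
  have hle : centralizer (h.J B hx : Set G) ≤ centralizer (h'.J B (h.P_le_Stab B hx hy) : Set G) := fun g hg =>
    (h'.mem_cent_J B _).2 ⟨h.P_le_Stab B hx hg, h.P_commutative B hx hg hy⟩
  refine le_antisymm (fun g hg => (h.mem_cent_J B hx).2 ⟨((h'.mem_cent_J B _).1 hg).1, ?_⟩) hle
  exact h'.P_commutative B _ hg (hle (h.J_le_P B hx (h.x_mem_J B hx)))

theorem Qy_le_norm {D'' : Data G} (h' : Pair D D'') (hy : D''.z ∈ centralizer (h.J B hx : Set G)) :
    D''.Q ≤ normalizer (centralizer (h.J B hx : Set G) : Set G) := by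
  obtain ⟨S'⟩ := D''.exists_split
  obtain ⟨B', hz⟩ := h'.symm.exists_basis S'
  rw [← h.cent_eq B hx h' hy, ← h'.J_symm B (h.P_le_Stab B hx hy) B' hz]
  exact (h'.symm.Q_le_norm B' hz).trans h'.symm.norm_le_norm_P

end Pair

end Cfsg.Lib.U6Three
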