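import Cfsg.Agent.Lib.U6Three.Action
import Cfsg.Agent.Lib.U6Three.Quat

/-!
# The exchanged setting and the case of a Sylow subgroup of order `3⁶`
-/

set_option autoImplicit false
set_option linter.unusedSectionVars false

namespace Cfsg.Lib.U6Three

open Subgroup
open scoped commutatorElement

namespace Setting

variable {G : Type*} [Group G] [Finite G] {D : Data G} (T : Setting D)

theorem el_swap' (k i j : ZMod 3) : T.B.swap.el k i j = T.B.el k j i := Basis.el_swap T.B k i j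

/-- The two halves exchanged. -/
def swap : Setting D where
  S := T.S.swap
  D' := T.D'
  h := T.h
  B := T.B.swap
  hx := T.B.swap_Stab T.hx
  tx := T.sx
  sx := T.tx
  ta := T.sa
  sa := T.ta
  ε := T.ε
  ε_ne := T.ε_ne
  orbit := fun i j => by
    obtain ⟨q, hq, e⟩ := T.orbit j i
    exact ⟨q, hq, by rw [el_swap', add_comm]; exact e⟩
  el_Q' := fun i j => by rw [el_swap']; exact T.el_Q' j i
  points := fun y hy hp => by
    rw [T.h.J_indep T.B T.hx T.B.swap (T.B.swap_Stab T.hx)] at hy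
    rcases T.points y hy hp with h | ⟨i, j, h⟩
    · exact Or.inl h
    · exact Or.inr ⟨j, i, by rw [el_swap', add_comm]; exact h⟩

theorem swap_J : T.swap.J = T.J := T.h.J_indep T.B T.hx T.B.swap (T.B.swap_Stab T.hx)

theorem swap_x : T.swap.x = T.x := rfl

theorem swap_Stab_eq : T.swap.B.Stab = T.B.Stab :=
  le_antisymm (fun _ hg => ⟨hg.1, hg.2.2, hg.2.1⟩) fun _ hg => T.B.swap_Stab hg

/-- Triviality on one line forces triviality on the other. -/
def IsThree : Prop :=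
  ∀ g : T.B.Stab, T.B.k1 g = 0 → T.B.k2 g = 0

variable {T} (h3 : T.IsThree)
include h3

theorem IsThree.symm {g : T.B.Stab} (h : T.B.k2 g = 0) : T.B.k1 g = 0 := by
  obtain ⟨hd1, hd2⟩ := T.h.diag T.B T.hx
  set x : T.B.Stab := ⟨_, T.hx⟩
  set m : ℕ := (T.B.k1 g * (T.B.k1 x)⁻¹).val with hm
  have hk : ∀ u : T.B.Stab, ∀ n : ℕ, T.B.k1 (u ^ n) = n * T.B.k1 u ∧ T.B.k2 (u ^ n) = n * T.B.k2 u := by
    intro u n
    have h1 := congrArg Multiplicative.toAdd (map_pow T.B.kappa u n)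
    simp only [Basis.kappa, MonoidHom.coe_mk, OneHom.coe_mk, toAdd_ofAdd, toAdd_pow, Prod.smul_mk, Prod.mk.injEq,
      nsmul_eq_mul] at h1
    exact h1
  have hmk : (m : ZMod 3) * T.B.k1 x = T.B.k1 g := by
    rw [hm, ZMod.natCast_zmod_val, mul_assoc, inv_mul_cancel₀ hd1, mul_one]
  have hadd := congrArg Multiplicative.toAdd (map_mul T.B.kappa (g * (x ^ m)⁻¹) (x ^ m))
  rw [inv_mul_cancel_right] at hadd
  simp only [Basis.kappa, MonoidHom.coe_mk, OneHom.coe_mk, toAdd_ofAdd, toAdd_mul, Prod.mk_add_mk,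
    Prod.mk.injEq] at hadd
  rw [(hk x m).1, hmk, (hk x m).2] at hadd
  have h0 : T.B.k1 (g * (x ^ m)⁻¹) = 0 := by linear_combination -hadd.1
  have h2 : (m : ZMod 3) * T.B.k2 x = 0 := by
    have := hadd.2
    rw [h, h3 _ h0, zero_add] at this
    exact this.symm
  have hm0 : (m : ZMod 3) = 0 := (mul_eq_zero.1 h2).resolve_right hd2
  rw [← hmk, hm0, zero_mul]

theorem IsThree.swap : T.swap.IsThree := fun g h => by
  have := h3.symm (g := ⟨g.1, T.swap_Stab_eq.le g.2⟩) h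
  exact this

theorem IsThree.mem_Q {g : T.B.Stab} (h : T.B.k1 g = 0) : (g : G) ∈ D.Q :=
  T.B.kappa_eq_one.1 (show Multiplicative.ofAdd (T.B.k1 g, T.B.k2 g) = 1 by rw [h, h3 g h]; rfl)

theorem IsThree.mem_Q' {g : T.B.Stab} (h : T.B.k2 g = 0) : (g : G) ∈ D.Q := h3.mem_Q (h3.symm h)

theorem IsThree.stab_decomp {g : G} (hg : g ∈ T.B.Stab) : ∃ q ∈ D.Q, ∃ n : ℕ, g = q * T.x ^ n := by
  obtain ⟨hd1, -⟩ := T.h.diag T.B T.hx
  set x : T.B.Stab := ⟨_, T.hx⟩
  set m : ℕ := (T.B.k1 ⟨g, hg⟩ * (T.B.k1 x)⁻¹).val with hm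
  have hh := T.B.k1_mul (⟨g, hg⟩ * (x ^ m)⁻¹) (x ^ m)
  rw [inv_mul_cancel_right] at hh
  have h1 := congrArg Multiplicative.toAdd (map_pow T.B.kappa x m)
  simp only [Basis.kappa, MonoidHom.coe_mk, OneHom.coe_mk, toAdd_ofAdd, toAdd_pow, Prod.smul_mk, Prod.mk.injEq,
    nsmul_eq_mul] at h1
  rw [h1.1, hm, ZMod.natCast_zmod_val, mul_assoc, inv_mul_cancel₀ hd1, mul_one, ← hm] at hh
  exact ⟨_, h3.mem_Q (g := ⟨g, hg⟩ * (x ^ m)⁻¹) (by linear_combination -hh), m,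
    by simp [x, inv_mul_cancel_right]⟩

/-- The plane is its own centraliser. -/
theorem IsThree.P_eq : T.P = T.J := by
  refine le_antisymm (fun g hg => ?_) (T.h.J_le_P T.B T.hx)
  obtain ⟨hgS, hgx⟩ := (T.h.mem_cent_J T.B T.hx).1 hg
  obtain ⟨q, hq, n, rfl⟩ := h3.stab_decomp hgS
  have hxJ : T.x ^ n ∈ T.J := T.J.pow_mem (T.h.x_mem_J T.B T.hx) n
  have hqP : q ∈ T.P := by
    have := mul_mem hg (inv_mem (T.h.J_le_P T.B T.hx hxJ))
    rwa [mul_inv_cancel_right] at this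
  obtain ⟨k, i, j, rfl⟩ := T.B.mem_el_of_comm hq
    (T.h.comm_P T.B T.hx hqP (by simpa [Basis.el, zp_zero, zp_one] using T.h.el_mem_J T.B T.hx 0 1 0))
    (T.h.comm_P T.B T.hx hqP (by simpa [Basis.el, zp_zero, zp_one] using T.h.el_mem_J T.B T.hx 0 0 1))
  exact T.J.mul_mem (T.h.el_mem_J T.B T.hx k i j) hxJ

end Setting

end Cfsg.Lib.U6Three
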