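import Cfsg.Agent.Lib.U6Three.Recog
import Cfsg.Agent.Lib.U6Three.Fixed
import Cfsg.Agent.Lib.U62Core.Main
import Cfsg.Agent.Lib.U62Type.OuterSetup
import Cfsg.Agent.Lib.Extra.Structure

/-!
# The extraspecial group is normal in the centraliser of the involution
-/

set_option autoImplicit false
set_option linter.unusedSectionVars false
set_option linter.style.haveILetI false
set_option synthInstance.maxSize 4000

namespace Cfsg.Lib.U6Three

open Subgroup

/-- The inner automorphisms of `PSp₄(3)`. -/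
theorem psp_inn (F : Type*) [Field F] [Fintype F] (hF : Fintype.card F = 3) :
    Function.Injective (MulAut.conj : Cfsg.PSp 2 F →* MulAut (Cfsg.PSp 2 F)) ∧
      (MulAut.conj : Cfsg.PSp 2 F →* MulAut (Cfsg.PSp 2 F)).range.index = 2 := by
  haveI : CharP F 3 := charP_of_card_eq_prime (R := F) hF
  have hinj : Function.Injective (MulAut.conj : Cfsg.PSp 2 F →* MulAut (Cfsg.PSp 2 F)) := by
    refine (injective_iff_map_eq_one _).2 fun x hx => ?_
    obtain ⟨s, rfl⟩ := QuotientGroup.mk_surjective x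
    rw [Cfsg.Lib.Linear.AutPSp.conj_mk_eq] at hx
    exact Cfsg.Lib.Linear.AutPSp.eq_one_of_innd_toGS 3 (by norm_num) hx
  have hA : Nat.card (MulAut (Cfsg.PSp 2 F)) = 2 * 25920 := by
    rw [Cfsg.Agent.S0814.result 3 1 le_rfl (by rw [hF, pow_one]) 2 le_rfl (fun _ => by norm_num),
      Cfsg.Lib.U62Type.card_psp hF]
    norm_num
  refine ⟨hinj, ?_⟩
  have h2 := Subgroup.card_mul_index (MulAut.conj : Cfsg.PSp 2 F →* MulAut (Cfsg.PSp 2 F)).range
  rw [← Nat.card_congr (MonoidHom.ofInjective hinj).toEquiv, Cfsg.Lib.U62Type.card_psp hF, hA] at h2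
  omega

namespace Setting

variable {G : Type*} [Group G] [Finite G] {D : Data G} {T : Setting D}

theorem Rt_le_cent (h3 : T.IsThree) (hN : T.NCond) : T.Rt ≤ centralizer ({T.S.t} : Set G) := fun r hr =>
  mem_centralizer_singleton_iff.2 ((Rt_block h3 hN).1.comm r hr).symm

/-- A subgroup of index at most two of the quotient isomorphic to `PSp₄(3)`. -/
theorem exists_inner (h3 : T.IsThree) (hN : T.NCond) :
    ∃ M : Subgroup T.Yq, M.index ≤ 2 ∧ Nonempty (M ≃* Cfsg.PSp 2 (ZMod 3)) := by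
  haveI : Fact (Nat.Prime 3) := ⟨Nat.prime_three⟩
  rcases recog h3 hN (ZMod 3) (ZMod.card 3) with ⟨⟨e⟩⟩ | ⟨⟨e⟩⟩
  · exact ⟨⊤, by rw [index_top]; omega, ⟨Subgroup.topEquiv.trans e⟩⟩
  obtain ⟨hinj, hidx⟩ := psp_inn (ZMod 3) (ZMod.card 3)
  refine ⟨(MulAut.conj : Cfsg.PSp 2 (ZMod 3) →* _).range.comap e.toMonoidHom,
    (index_comap_of_surjective _ e.surjective).trans_le hidx.le, ⟨?_⟩⟩
  refine MulEquiv.trans ?_ (MonoidHom.ofInjective hinj).symm
  refine (Subgroup.equivMapOfInjective _ e.toMonoidHom e.injective).trans (MulEquiv.subgroupCongr ?_)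
  exact map_comap_eq_self_of_surjective e.surjective _

theorem cent_t_le (h3 : T.IsThree) (hN : T.NCond) :
    centralizer ({T.S.t} : Set G) ≤ normalizer (T.Rt : Set G) := by
  classical
  haveI : Fact (Nat.Prime 2) := ⟨Nat.prime_two⟩
  haveI : Fact (Nat.Prime 3) := ⟨Nat.prime_three⟩
  obtain ⟨hb, hcard⟩ := Rt_block h3 hN
  obtain ⟨M, hMi, ⟨eM⟩⟩ := exists_inner h3 hN
  have hMdvd : M.index = 1 ∨ M.index = 2 := by
    have := M.index_ne_zero_of_finite
    omega
  set q : T.Nr →* T.Yq := QuotientGroup.mk' T.Rn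
  set C := centralizer ({T.S.t} : Set G)
  have hRC : T.Rt ≤ C := Rt_le_cent h3 hN
  set R := T.Rt.subgroupOf C
  set tK : C := ⟨T.S.t, mem_centralizer_singleton_iff.2 rfl⟩
  have ht2 : orderOf T.S.t = 2 := orderOf_eq_prime (by rw [pow_two, T.S.t_sq]) T.t_ne
  have hnorm : ∀ k : C, k ∈ normalizer (R : Set C) ↔ (k : G) ∈ normalizer (T.Rt : Set G) := by
    intro k
    constructor
    · intro h
      refine mem_normalizer_of_conj_mem fun r hr => ?_
      exact mem_subgroupOf.1 ((mem_normalizer_iff.1 h ⟨r, hRC hr⟩).1 (mem_subgroupOf.2 hr))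
    · intro h
      exact mem_normalizer_of_conj_mem fun r hr =>
        mem_subgroupOf.2 ((mem_normalizer_iff.1 h (r : G)).1 (mem_subgroupOf.1 hr))
  set N0g := (M.comap q).map T.Nr.subtype
  set N0 := N0g.subgroupOf C
  have hN0g : N0g ≤ T.Nr := map_subtype_le _
  have hN0C : N0g ≤ C := hN0g.trans inf_le_left
  have hN0mem : ∀ g : T.Nr, (g : G) ∈ N0g ↔ q g ∈ M := fun g =>
    ⟨fun ⟨u, hu, e⟩ => Subtype.ext e ▸ hu, fun h => ⟨g, h, rfl⟩⟩
  have hRN0 : R ≤ N0 := by
    intro r hr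
    have hrN : (r : G) ∈ T.Nr := ⟨r.2, le_normalizer (mem_subgroupOf.1 hr)⟩
    refine mem_subgroupOf.2 ((hN0mem ⟨r, hrN⟩).2 ?_)
    rw [show q ⟨r, hrN⟩ = 1 from (QuotientGroup.eq_one_iff _).2 (mem_subgroupOf.2 (mem_subgroupOf.1 hr))]
    exact one_mem M
  have hN0n : N0 ≤ normalizer (R : Set C) := fun k hk => (hnorm k).2 (hN0g (mem_subgroupOf.1 hk)).2
  haveI : (R.subgroupOf N0).Normal := normal_subgroupOf_of_le_normalizer hN0n
  let toN : N0 →* T.Nr := (C.subtype.comp N0.subtype).codRestrict T.Nr fun k => hN0g (mem_subgroupOf.1 k.2)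
  let θ : N0 →* M := (q.comp toN).codRestrict M fun k => (hN0mem (toN k)).1 (mem_subgroupOf.1 k.2)
  have hθ : Function.Surjective θ := by
    rintro ⟨y, hy⟩
    obtain ⟨g, rfl⟩ := QuotientGroup.mk'_surjective T.Rn y
    exact ⟨⟨⟨g, g.2.1⟩, mem_subgroupOf.2 ((hN0mem g).2 hy)⟩, rfl⟩
  have hθk : θ.ker = R.subgroupOf N0 := by
    ext k
    rw [MonoidHom.mem_ker, mem_subgroupOf, mem_subgroupOf, ← Subtype.coe_inj]
    show q (toN k) = 1 ↔ _
    exact (QuotientGroup.eq_one_iff _).trans mem_subgroupOf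
  let eN : (↥N0 ⧸ R.subgroupOf N0) ≃* Cfsg.PSp 2 (ZMod 3) :=
    ((QuotientGroup.quotientMulEquivOfEq hθk.symm).trans (QuotientGroup.quotientKerEquivOfSurjective θ hθ)).trans eM
  have htop : normalizer (R : Set C) = ⊤ := by
    refine Cfsg.Lib.U62Core.normalizer_eq_top tK (by rw [← Subgroup.orderOf_coe]; exact ht2)
      (fun g => Subtype.ext (mem_centralizer_singleton_iff.1 g.2)) R (mem_subgroupOf.2 hb.mem) ?_ ?_ ?_ N0 hRN0
      hN0n (ZMod.card 3) eN ?_ ?_ ?_
    · exact Cfsg.Lib.Extra.isExtraspecial_congr (subgroupOfEquivOfLe hRC).symm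
        (hb.extraspecial T.t_ne T.S.t_sq hcard)
    · rw [Nat.card_congr (subgroupOfEquivOfLe hRC).toEquiv, hcard]
    · intro c hc
      refine mem_subgroupOf.2 (cent_Rt_le h3 hN fun r hr => ?_)
      exact (congrArg Subtype.val (hc ⟨r, hRC hr⟩ (mem_subgroupOf.2 hr))).symm
    · -- the index
      have h1 : normalizer (R : Set C) = T.Nr.subgroupOf C := by
        ext k
        exact (hnorm k).trans ⟨fun h => mem_subgroupOf.2 ⟨k.2, h⟩, fun h => (mem_subgroupOf.1 h).2⟩
      rw [h1, Nat.card_congr (subgroupOfEquivOfLe (show T.Nr ≤ C from inf_le_left)).toEquiv,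
        Nat.card_congr (subgroupOfEquivOfLe hN0C).toEquiv, card_map_of_injective T.Nr.subtype_injective,
        ← card_mul_index (M.comap q), index_comap_of_surjective _ (QuotientGroup.mk'_surjective _), mul_comm 2]
      exact Nat.mul_le_mul le_rfl hMi
    · -- no fixed vector
      intro r hr h
      have hthree : ∀ a ∈ T.Apl, orderOf a = 3 → Commute (r : G) a := by
        intro a ha ho
        have haN : a ∈ T.Nr := T.Apl_le_Nr ha
        have ha3 : a ^ 3 = 1 := by rw [← ho]; exact pow_orderOf_eq_one _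
        have haM : q ⟨a, haN⟩ ∈ M := by
          rcases hMdvd with h1 | h2
          · rw [index_eq_one.1 h1]; exact mem_top _
          · have := M.sq_mem_of_index_two h2 (q ⟨a, haN⟩ ^ 2)
            rwa [← pow_mul, show q ⟨a, haN⟩ ^ (2 * 2) = q ⟨a, haN⟩ by
              rw [← map_pow]
              exact congrArg q (Subtype.ext (show a ^ (2 * 2) = a by rw [pow_succ, ha3, one_mul]))] at this
        have hc : a * (r : G) * a⁻¹ * (r : G)⁻¹ ∈ zpowers T.S.t := by
          obtain ⟨i, hi⟩ := mem_zpowers_iff.1 (h ⟨a, hN0C ((hN0mem ⟨a, haN⟩).2 haM)⟩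
            (mem_subgroupOf.2 ((hN0mem ⟨a, haN⟩).2 haM)))
          exact ⟨i, congrArg Subtype.val hi⟩
        obtain ⟨d, hd⟩ : ∃ d, a * (r : G) * a⁻¹ * (r : G)⁻¹ = d := ⟨_, rfl⟩
        rw [hd] at hc
        have hd2 : d * d = 1 := by
          obtain ⟨i, rfl⟩ := mem_zpowers_iff.1 hc
          rw [← (Commute.refl T.S.t).mul_zpow, T.S.t_sq, one_zpow]
        have hda : Commute a d := by
          obtain ⟨i, rfl⟩ := mem_zpowers_iff.1 hc
          exact Commute.zpow_right (mem_centralizer_singleton_iff.1 ha.2) i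
        have e : a ^ 3 * r * (a ^ 3)⁻¹ = d ^ 3 * r := by
          calc a ^ 3 * r * (a ^ 3)⁻¹ = a * (a * (a * r * a⁻¹) * a⁻¹) * a⁻¹ := by simp only [pow_succ, pow_zero, one_mul]; group
            _ = a * (a * (d * r) * a⁻¹) * a⁻¹ := by rw [← hd]; group
            _ = a * ((a * d * a⁻¹) * (a * r * a⁻¹)) * a⁻¹ := by group
            _ = a * (d * (d * r)) * a⁻¹ := by rw [hda.eq, mul_inv_cancel_right, ← hd]; group
            _ = (a * d * a⁻¹) * (a * d * a⁻¹) * (a * r * a⁻¹) := by group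
            _ = d * d * (d * r) := by rw [hda.eq, mul_inv_cancel_right, ← hd]; group
            _ = d ^ 3 * r := by simp only [pow_succ, pow_zero, one_mul, mul_assoc]
        rw [ha3, pow_succ, pow_two, hd2, one_mul, one_mul, inv_one, mul_one, eq_comm, mul_eq_right] at e
        rw [e] at hd
        exact (mul_inv_eq_iff_eq_mul.1 (mul_inv_eq_one.1 hd)).symm
      have hz := hthree D.z ⟨T.h.z_mem_J T.B T.hx, mem_centralizer_singleton_iff.2 T.S.t_z.symm⟩ D.hz
      have hx := hthree T.x ⟨T.h.x_mem_J T.B T.hx, mem_centralizer_singleton_iff.2 T.tx.symm⟩ T.D'.hz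
      obtain ⟨i, hi⟩ := mem_zpowers_iff.1 (T.fix_x_L (Rt_z h3 hN (mem_subgroupOf.1 hr) hz) hx)
      exact ⟨i, Subtype.ext hi⟩
    · -- the fusion condition
      rintro y hy ho ⟨r, hr, hrt, hyr⟩ g hg
      refine (hnorm g).2 (cent_three h3 hN (y := (y : G)) ⟨y.2, (hnorm y).1 hy⟩ (by rw [Subgroup.orderOf_coe]; exact ho)
        (mem_subgroupOf.1 hr) (fun h => hrt ?_) (congrArg Subtype.val hyr) (mem_centralizer_singleton_iff.1 g.2)
        (congrArg Subtype.val (mem_centralizer_singleton_iff.1 hg)))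
      obtain ⟨i, hi⟩ := mem_zpowers_iff.1 h
      exact ⟨i, Subtype.ext hi⟩
  intro g hg
  exact (hnorm ⟨g, hg⟩).1 (htop ▸ mem_top _)

theorem Nr_eq (h3 : T.IsThree) (hN : T.NCond) : T.Nr = centralizer ({T.S.t} : Set G) :=
  inf_eq_left.2 (cent_t_le h3 hN)

end Setting

end Cfsg.Lib.U6Three
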