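import Cfsg.Agent.Lib.U6Three.Pair2

/-!
# The unique maximal signalizer in the centraliser of the involution, and what normalises it
-/

set_option autoImplicit false
set_option linter.unusedSectionVars false
set_option linter.style.haveILetI false
set_option synthInstance.maxSize 4000
set_option maxRecDepth 8000

namespace Cfsg.Lib.U6Three

open Subgroup
open scoped commutatorElement

theorem sl_move : ∀ m : SL3, m ^ 3 = 1 → ∃ n : SL3, n ^ 4 = 1 ∧ (n * m * n⁻¹).1 0 0 = 1 ∧ (n * m * n⁻¹).1 1 0 = 0 := by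
  decide +kernel

theorem B0_cases : ∀ k c : ZMod 3, (k, c) ≠ (0, 0) → (c = 0 ∧ k ≠ 0) ∨
    (c ≠ 0 ∧ ∃ j : ZMod 3, ((k, 0, c, 0) : V4) = c • app (uM 0 j) (0, 0, 1, 0)) := by decide +kernel

theorem common_zero : ∀ v : V4, v.2.2.2 = 0 → v.2.1 = 0 → (∃ v' : V4, v'.2.2.2 = 0 ∧ v = app kM v') →
    (∃ v' : V4, v'.2.2.2 = 0 ∧ v = app (cmp (uM 0 1) kM) v') → v = 0 := by decide +kernel

theorem matHom_fix_first {G : Type*} [Group G] [Finite G] {D : Data G} {S : Split D} (B : Basis S) {g : S.HN}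
    (h0 : (B.matHom g).1 0 0 = 1) (h1 : (B.matHom g).1 1 0 = 0) : ⁅(g : G), B.a1⁆ ∈ D.Zc := by
  obtain ⟨w, hw, e⟩ := B.nf_coords (S.conj_Q1 g.2 B.ha1)
  rw [show B.ci (g.1 * B.a1 * g.1⁻¹) = 1 from h0, show B.cj (g.1 * B.a1 * g.1⁻¹) = 0 from h1, zp_one, zp_zero,
    mul_one] at e
  rw [commutatorElement_def, e, mul_inv_cancel_right]
  exact hw

namespace Setting

variable {G : Type*} [Group G] [Finite G] {D : Data G} {T : Setting D}

theorem B0_le (T : Setting D) : zpowers D.z ⊔ zpowers T.B.a2 ≤ T.S.Q2 :=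
  sup_le (zpowers_le.2 (D.Zc_le_fixC T.S.t_z (mem_zpowers _))) (zpowers_le.2 T.B.ha2)

theorem fix_in_L (T : Setting D) {U : Subgroup G} (hU : (Nat.card U).Coprime 3)
    (hUt : ∀ u ∈ U, Commute u T.S.t) (hUa : T.B.a2 ∈ normalizer (U : Set G)) {u : G} (hu : u ∈ U)
    (huz : Commute u D.z) : u ∈ T.S.L := by
  have h1 : u * T.B.a2 * u⁻¹ * T.B.a2⁻¹ = 1 := by
    refine eq_one_of_coprime (a := Nat.card U) (hU.pow_right 5) (pow_card ?_) ?_
    · rw [show u * T.B.a2 * u⁻¹ * T.B.a2⁻¹ = u * (T.B.a2 * u⁻¹ * T.B.a2⁻¹) by group]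
      exact U.mul_mem hu ((mem_normalizer_iff.1 hUa _).1 (U.inv_mem hu))
    · exact D.pow_243 (D.Q.mul_mem (D.norm_Q u huz _ T.B.ha2.1) (D.Q.inv_mem T.B.ha2.1))
  exact T.S.mem_L_of_fix T.B.ha2 T.B.swap.a1_not_Zc huz (hUt u hu) (pow_card hu) hU
    (mul_inv_eq_iff_eq_mul.1 (mul_inv_eq_one.1 h1))

theorem Lk_le (T : Setting D) {k : G} (hk : k ∈ T.H4) : T.S.L ⊔ T.Lc k ≤ T.Rt := sup_le T.L_le_Rt (T.Lc_le hk)

theorem fix_a2_le (h3 : T.IsThree) (hN : T.NCond) {k : G} (hk : T.Act k kM) (hkt : Commute k T.S.t)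
    {U : Subgroup G} (hU : (Nat.card U).Coprime 3)
    (hUt : ∀ u ∈ U, Commute u T.S.t) (hUz : D.z ∈ normalizer (U : Set G)) {u : G} (hu : u ∈ U)
    (hua : Commute u T.B.a2) : u ∈ T.S.L ⊔ T.Lc k := by
  have hkH := T.H4_of_act hkt hk (ptsA_closed kM (by simp [gensT]))
  set LL := T.S.L ⊔ T.Lc k
  have hLc : (Nat.card LL).Coprime 3 := (((Rt_block h3 hN).2.symm ▸ by decide :
    (Nat.card T.Rt).Coprime 3)).coprime_dvd_left (card_dvd_of_le (T.Lk_le hkH))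
  set Ua := U ⊓ centralizer ({T.B.a2} : Set G)
  have hnorm : ∀ n, Commute n T.B.a2 → Commute n T.S.t →
      (∀ w, w = D.z ∨ w = T.x → n * w * n⁻¹ ∈ zpowers D.z ⊔ zpowers T.x ⊔ zpowers T.B.a2) →
      n ∈ normalizer (LL : Set G) := fun n h1 h2 h => T.norm_pair hk hkt h1 h2 fun v hv => by
    rcases hv with rfl | rfl
    · rw [T.cv_z, show n * zp D.z T.ε * n⁻¹ = zp (n * D.z * n⁻¹) T.ε from conj_pow.symm]
      exact zp_mem (h _ (Or.inl rfl)) _
    · rw [T.cv_x]; exact h _ (Or.inr rfl)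
  have hUaN : Ua ≤ normalizer (LL : Set G) := by
    rintro c ⟨hcU, hca⟩
    obtain ⟨v, hv, n, rfl, hn1, hn2, hn⟩ := exists_decomp h3 hN hk hkt (mem_centralizer_singleton_iff.1 hca) (hUt _ hcU)
    exact mul_mem (le_normalizer hv) (hnorm n hn1 hn2 fun w hw => hn n (Or.inl rfl) w (hw.imp id Or.inl))
  have hW := sup_coprime hUaN hLc (hU.coprime_dvd_left (card_dvd_of_le inf_le_left))
  obtain ⟨v, hv, n, rfl, hn1, hn2, hn⟩ := exists_decomp h3 hN hk hkt hua (hUt _ hu)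
  have hza : Commute D.z T.B.a2 := (D.comm_z _ T.B.ha2.1).symm
  have hzN : D.z ∈ normalizer (LL : Set G) := hnorm D.z hza T.S.t_z.symm fun w hw => by
    rcases hw with rfl | rfl
    · rw [mul_inv_cancel_right]; exact mem_sup_left (mem_sup_left (mem_zpowers _))
    · rw [T.hx.1.symm.eq, mul_inv_cancel_right]; exact mem_sup_left (mem_sup_right (mem_zpowers _))
  obtain ⟨hva, -⟩ := T.comp_commute hk hkt hv
  have hnW : n ∈ LL ⊔ Ua := by
    have := mul_mem (mem_sup_left (T := Ua) (inv_mem hv)) (mem_sup_right (S := LL)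
      (show v * n ∈ Ua from ⟨hu, mem_centralizer_singleton_iff.2 hua⟩))
    rwa [inv_mul_cancel_left] at this
  have hc : (v * n) * D.z * (v * n)⁻¹ * D.z⁻¹ ∈ Ua := by
    refine ⟨?_, mem_centralizer_singleton_iff.2 (((hua.mul_left hza).mul_left hua.inv_left).mul_left hza.inv_left)⟩
    rw [show (v * n) * D.z * (v * n)⁻¹ * D.z⁻¹ = (v * n) * (D.z * (v * n)⁻¹ * D.z⁻¹) by group]
    exact U.mul_mem hu ((mem_normalizer_iff.1 hUz _).1 (U.inv_mem hu))
  have ha : n * D.z * n⁻¹ * D.z⁻¹ = 1 := by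
    have hA := hn n (Or.inl rfl) D.z (Or.inl rfl)
    obtain ⟨hJ, -⟩ := T.A2_fixed (mul_mem hA (inv_mem (mem_sup_left (mem_sup_left (mem_zpowers D.z)))))
    refine eq_one_of_coprime (a := Nat.card (LL ⊔ Ua : Subgroup G)) hW (pow_card ?_) ?_
    · have e : n * D.z * n⁻¹ * D.z⁻¹ = v⁻¹ * ((v * n) * D.z * (v * n)⁻¹ * D.z⁻¹) * (D.z * v * D.z⁻¹) := by group
      rw [e]
      exact mul_mem (mul_mem (mem_sup_left (inv_mem hv)) (mem_sup_right hc))
        (mem_sup_left ((mem_normalizer_iff.1 hzN _).1 hv))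
    · obtain ⟨c, e⟩ := T.exists_cv hJ
      rw [← e, pow_three, ← T.cv_add, ← T.cv_add,
        show c + (c + c) = 0 from (show ∀ a : V4, a + (a + a) = 0 by decide +kernel) c, T.cv_zero]
  have hnz : Commute n D.z := mul_inv_eq_iff_eq_mul.1 (mul_inv_eq_one.1 ha)
  exact mul_mem hv (mem_sup_left
    (T.S.mem_L_of_fix T.B.ha2 T.B.swap.a1_not_Zc hnz hn2 (pow_card hnW) hW hn1))

/-- An invariant subgroup of order prime to three is generated by the centralisers of the lines. -/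
theorem gen_le (h3 : T.IsThree) {U W : Subgroup G} (hU : (Nat.card U).Coprime 3)
    (hUz : D.z ∈ normalizer (U : Set G)) (hUa : T.B.a2 ∈ normalizer (U : Set G))
    (h1 : ∀ u ∈ U, Commute u D.z → u ∈ W)
    (h2 : ∀ j, ∀ q ∈ T.S.Q2, T.Act q (uM 0 j) → ∀ u ∈ U, Commute (q⁻¹ * u * q) T.B.a2 → u ∈ W) : U ≤ W := by
  set B0 := zpowers D.z ⊔ zpowers T.B.a2 with hB0
  have hcomm : ∀ a ∈ B0, ∀ b ∈ B0, Commute a b := by
    have hle : B0 ≤ T.J := sup_le (zpowers_le.2 (T.h.z_mem_J T.B T.hx)) (zpowers_le.2 (T.cv_a2 ▸ T.cv_mem _))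
    exact fun a ha b hb => T.h.comm_P T.B T.hx (T.h.J_le_P T.B T.hx (hle ha)) (hle hb)
  haveI : IsMulCommutative B0 := ⟨⟨fun a b => Subtype.ext (hcomm a a.2 b b.2).eq⟩⟩
  have hform : ∀ e ∈ B0, ∃ k c : ZMod 3, e = T.cv (k, 0, c, 0) := by
    have hle : B0 ≤ T.J ⊓ centralizer ({T.S.t} : Set G) ⊓ D.Q := sup_le
      (zpowers_le.2 ⟨⟨T.h.z_mem_J T.B T.hx, mem_centralizer_singleton_iff.2 T.S.t_z.symm⟩, D.z_mem⟩)
      (zpowers_le.2 ⟨⟨T.cv_a2 ▸ T.cv_mem _, mem_centralizer_singleton_iff.2 (D.mem_fixC.1 T.B.ha2).2⟩, T.B.ha2.1⟩)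
    intro e he
    obtain ⟨⟨hJ, ht⟩, hQ⟩ := hle he
    obtain ⟨v, rfl⟩ := T.exists_cv hJ
    exact ⟨v.1, v.2.2.1, congrArg T.cv (by simp [Prod.ext_iff, T.cv_fixed (mem_centralizer_singleton_iff.1 ht), T.last_zero_of_Q hQ])⟩
  have hB9 : 3 < Nat.card B0 := by
    have h : Function.Injective (fun p : ZMod 3 × ZMod 3 => (⟨T.cv (p.1, 0, p.2, 0), by
        rw [show ((p.1, 0, p.2, 0) : V4) = p.1 • (1, 0, 0, 0) + p.2 • (0, 0, 1, 0) by simp [Prod.ext_iff],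
          T.cv_add, T.cv_smul, T.cv_smul, T.cv_z, T.cv_a2]
        exact mul_mem (mem_sup_left (zp_mem (zp_mem (mem_zpowers _) _) _)) (mem_sup_right (zp_mem (mem_zpowers _) _))⟩ : B0)) :=
      fun p p' e => by
        have := T.cv_inj (congrArg Subtype.val e)
        simp only [Prod.mk.injEq, true_and, and_true] at this
        exact Prod.ext this.1 this.2
    have := Nat.card_le_card_of_injective _ h
    rw [Nat.card_prod, Nat.card_zmod] at this
    omega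
  have hcop : (Nat.card B0).Coprime (Nat.card U) := by
    have h27 : Nat.card B0 ∣ 3 ^ 3 := by
      rw [show (3 : ℕ) ^ 3 = 27 by norm_num, ← T.S.card₂]; exact card_dvd_of_le T.B0_le
    exact Nat.Coprime.coprime_dvd_left h27 (hU.symm.pow_left 3)
  refine (Cfsg.Lib.Coprime.le_iSup_centralizer_cocyclic U (sup_le (zpowers_le.2 hUz) (zpowers_le.2 hUa)) hcop).trans
    (iSup₂_le fun Bc hBc => ?_)
  obtain ⟨hBB, c, hcB, hsup⟩ := hBc
  obtain ⟨e, heB, he1⟩ : ∃ e ∈ Bc, e ≠ 1 := by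
    by_contra h
    push Not at h
    rw [(eq_bot_iff_forall Bc).2 h, bot_sup_eq] at hsup
    rw [hB0, ← hsup, Nat.card_zpowers] at hB9
    have : c ^ 3 = 1 := T.S.exp_two (T.B0_le hcB)
    have := orderOf_le_of_pow_eq_one (by norm_num) this
    omega
  intro u hu
  obtain ⟨huU, huB⟩ := mem_inf.1 hu
  have hue : Commute u e := (mem_centralizer_iff.1 huB e heB).symm
  obtain ⟨k, c', rfl⟩ := hform e (hBB heB)
  rcases B0_cases k c' (fun h => he1 (by
    simp only [Prod.mk.injEq] at h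
    rw [h.1, h.2, show ((0, 0, 0, 0) : V4) = 0 from rfl, T.cv_zero])) with ⟨rfl, hk⟩ | ⟨hc, j, hj⟩
  · rw [T.cv_el, Basis.el, zp_zero, zp_zero, mul_one, mul_one] at hue
    exact h1 u huU (commute_zp_z (mul_ne_zero T.ε_ne hk) hue)
  · obtain ⟨q, hq, hqa⟩ := exists_u_Q2 h3 j
    refine h2 j q hq hqa u huU ?_
    rw [hj, T.cv_smul, ← hqa.eq, T.cv_a2] at hue
    have h4 := hue.pow_right (c'⁻¹).val
    have ha3 : (q * T.B.a2 * q⁻¹) ^ 3 = 1 := by rw [conj_pow, T.B.a2_cube]; group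
    rw [show zp (q * T.B.a2 * q⁻¹) c' ^ (c'⁻¹).val = zp (zp (q * T.B.a2 * q⁻¹) c') c'⁻¹ from rfl, zp_zp ha3,
      mul_inv_cancel₀ hc, zp_one] at h4
    simpa [mul_assoc] using h4.map (MulAut.conj q⁻¹).toMonoidHom

theorem conj_invariant (T : Setting D) {U : Subgroup G} {q : G} (hq : q ∈ T.S.Q2)
    (hUz : D.z ∈ normalizer (U : Set G)) :
    D.z ∈ normalizer ((U.map (MulAut.conj q⁻¹).toMonoidHom : Subgroup G) : Set G) := by
  have hqQ := (D.mem_fixC.1 hq).1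
  refine mem_normalizer_of_conj_mem ?_
  rintro _ ⟨w, hw, rfl⟩
  refine ⟨_, (mem_normalizer_iff.1 hUz w).1 hw, ?_⟩
  simp only [MulEquiv.toMonoidHom_eq_coe, MonoidHom.coe_coe, MulAut.conj_apply, inv_inv]
  calc q⁻¹ * (D.z * w * D.z⁻¹) * q = q⁻¹ * D.z * w * (D.z⁻¹ * q) := by group
    _ = D.z * q⁻¹ * w * (q * D.z⁻¹) := by
      rw [(D.comm_z q hqQ).inv_left.eq, (D.comm_z q hqQ).inv_right.eq]
    _ = D.z * (q⁻¹ * w * q) * D.z⁻¹ := by group

/-- The group contains every invariant subgroup of order prime to three. -/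
theorem le_Rt (h3 : T.IsThree) (hN : T.NCond) {U : Subgroup G} (hU : (Nat.card U).Coprime 3)
    (hUt : ∀ u ∈ U, Commute u T.S.t) (hUz : D.z ∈ normalizer (U : Set G))
    (hUa : T.B.a2 ∈ normalizer (U : Set G)) : U ≤ T.Rt := by
  obtain ⟨k, hk, hkt⟩ := exists_k h3
  have hkH := T.H4_of_act hkt hk (ptsA_closed kM (by simp [gensT]))
  refine gen_le h3 hU hUz hUa (fun u hu huz => T.L_le_Rt (T.fix_in_L hU hUt hUa hu huz))
    fun j q hq _ u hu hua => ?_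
  obtain ⟨hqQ, hqt⟩ := D.mem_fixC.1 hq
  have h := T.Lk_le hkH (fix_a2_le h3 hN hk hkt (U := U.map (MulAut.conj q⁻¹).toMonoidHom)
    (by rw [card_map_of_injective (MulAut.conj q⁻¹).injective]; exact hU)
    (by
      rintro _ ⟨w, hw, rfl⟩
      simpa [mul_assoc] using (hqt.inv_left.mul_left (hUt w hw)).mul_left hqt)
    (T.conj_invariant hq hUz) ⟨u, hu, by simp [mul_assoc]⟩ hua)
  have := T.H4_conj_Rt (T.Q2_le_H4 hq) h
  rwa [show q * (q⁻¹ * u * q) * q⁻¹ = u by group] at this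

theorem norm_Rt_of (h3 : T.IsThree) (hN : T.NCond) {g : G} (hgt : Commute g T.S.t)
    (hz : g⁻¹ * D.z * g ∈ normalizer (T.Rt : Set G)) (ha : g⁻¹ * T.B.a2 * g ∈ normalizer (T.Rt : Set G)) :
    g ∈ normalizer (T.Rt : Set G) := by
  have hn : ∀ e, g⁻¹ * e * g ∈ normalizer (T.Rt : Set G) →
      e ∈ normalizer ((T.Rt.map (MulAut.conj g).toMonoidHom : Subgroup G) : Set G) := fun e he =>
    mem_normalizer_of_conj_mem (by
      rintro _ ⟨r, hr, rfl⟩
      refine ⟨_, (mem_normalizer_iff.1 he r).1 hr, ?_⟩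
      simp [mul_assoc])
  obtain ⟨hb, hc⟩ := Rt_block h3 hN
  exact mem_normalizer_of_conj_mem fun r hr => le_Rt h3 hN
    (by rw [card_map_of_injective (MulAut.conj g).injective, hc]; norm_num)
    (by
      rintro _ ⟨w, hw, rfl⟩
      simpa [mul_assoc] using (hgt.mul_left (hb.comm w hw).symm).mul_left hgt.inv_left)
    (hn _ hz) (hn _ ha) ⟨r, hr, rfl⟩

/-- The centraliser of the centre in `C(t)` normalises the group. -/
theorem cent_z_le (h3 : T.IsThree) (hN : T.NCond) {g : G} (hgt : Commute g T.S.t) (hgz : Commute g D.z) :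
    g ∈ normalizer (T.Rt : Set G) := by
  have hc : ∀ e ∈ T.S.Q2, g⁻¹ * e * g ∈ normalizer (T.Rt : Set G) := fun e he => by
    obtain ⟨heQ, het⟩ := D.mem_fixC.1 he
    exact T.H4_norm_Rt (T.Q2_le_H4 (D.mem_fixC.2 ⟨D.conj_inv_mem hgz heQ, (hgt.inv_left.mul_left het).mul_left hgt⟩))
  exact norm_Rt_of h3 hN hgt (hc _ (D.Zc_le_fixC T.S.t_z (mem_zpowers _))) (hc _ T.B.ha2)

/-- The centraliser of the second line in `C(t)` normalises the group. -/
theorem cent_a2_le (h3 : T.IsThree) (hN : T.NCond) {g : G} (hgt : Commute g T.S.t) (hga : Commute g T.B.a2) :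
    g ∈ normalizer (T.Rt : Set G) := by
  obtain ⟨k, hk, hkt⟩ := exists_k h3
  have hkH := T.H4_of_act hkt hk (ptsA_closed kM (by simp [gensT]))
  obtain ⟨v, hv, n, rfl, hn1, hn2, hn⟩ := exists_decomp h3 hN hk hkt hga hgt
  refine mul_mem (le_normalizer (T.Lk_le hkH hv)) (norm_Rt_of h3 hN hn2 ?_ ?_)
  all_goals refine T.H4_norm_Rt ?_
  · obtain ⟨h1, h2⟩ := T.A2_fixed (by simpa using hn n⁻¹ (Or.inr rfl) D.z (Or.inl rfl))
    exact T.A_le_H4 h1 h2
  · obtain ⟨h1, h2⟩ := T.A2_fixed (by simpa using hn n⁻¹ (Or.inr rfl) T.B.a2 (Or.inr (Or.inr rfl)))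
    exact T.A_le_H4 h1 h2

/-- The fixed points of the centre. -/
theorem Rt_z (h3 : T.IsThree) (hN : T.NCond) {r : G} (hr : r ∈ T.Rt) (hz : Commute r D.z) : r ∈ T.S.L :=
  T.fix_in_L (by rw [(Rt_block h3 hN).2]; norm_num) (fun u hu => ((Rt_block h3 hN).1.comm u hu).symm)
    (T.H4_norm_Rt (T.Q2_le_H4 T.B.ha2)) hr hz

/-- An element of the plane centralising a component. -/
theorem last_zero_of_cent (T : Setting D) {g : G} {m : Cols} (hg : T.Act g m) {v : V4}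
    (hv : ∀ l ∈ T.S.L, Commute (T.cv v) (g * l * g⁻¹)) : ∃ v', v'.2.2.2 = 0 ∧ v = app m v' := by
  obtain ⟨v', hv'⟩ : ∃ v', T.cv v' = g⁻¹ * T.cv v * g :=
    T.exists_cv (by simpa using (mem_normalizer_iff.1 (inv_mem hg.norm) _).1 (T.cv_mem v))
  refine ⟨v', ?_, T.cv_inj (by rw [← hg.eq, hv']; group)⟩
  have hc : ∀ l ∈ T.S.L, Commute (T.cv v') l := fun l hl => by
    rw [hv']
    simpa [mul_assoc] using (hv l hl).map (MulAut.conj g⁻¹).toMonoidHom
  have hcz : Commute (T.cv v') D.z :=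
    T.h.comm_P T.B T.hx (T.h.J_le_P T.B T.hx (T.cv_mem v')) (T.h.z_mem_J T.B T.hx)
  have hHN : T.cv v' ∈ T.S.HN := T.HN_of_Ca (T.J_le_Ca (T.cv_mem v')) hcz
  set M := T.B.matHom ⟨T.cv v', hHN⟩
  have hM : ∀ n : SL3, n ^ 4 = 1 → Commute M n := fun n hn => by
    obtain ⟨l, hl, rfl⟩ := T.B.exists_L hn
    exact (show Commute (⟨T.cv v', hHN⟩ : T.S.HN) ⟨l, T.S.L_HN hl⟩ from Subtype.ext (hc l hl).eq).map T.B.matHom
  have hM3 : M ^ 3 = 1 := by
    rw [← map_pow, show (⟨T.cv v', hHN⟩ : T.S.HN) ^ 3 = 1 from Subtype.ext (by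
      show T.cv v' ^ 3 = 1
      rw [pow_three, ← T.cv_add, ← T.cv_add,
        show v' + (v' + v') = 0 from (show ∀ a : V4, a + (a + a) = 0 by decide +kernel) v', T.cv_zero]), map_one]
  have hM1 : M = 1 := by
    rcases sl_quat.2.2.2.2.1 M hM with e | e
    · exact e
    · rw [e] at hM3; exact absurd hM3 (by decide +kernel)
  by_contra hne
  have hxQ : (⟨T.x, T.HN_of_Ca (T.J_le_Ca (T.h.x_mem_J T.B T.hx)) T.hx.1⟩ : T.S.HN) ^ v'.2.2.2.val =
      (⟨T.B.el (T.ε * v'.1) v'.2.1 v'.2.2.1, T.S.Q_le_HN (T.B.el_mem _ _ _)⟩ : T.S.HN)⁻¹ * ⟨T.cv v', hHN⟩ :=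
    Subtype.ext (by
      show T.x ^ v'.2.2.2.val = _
      simp [cv, zp])
  have h1 := congrArg T.B.matHom hxQ
  rw [map_pow, map_mul, map_inv, (T.B.mat_of_Q (g := ⟨_, T.S.Q_le_HN (T.B.el_mem _ _ _)⟩) (T.B.el_mem _ _ _)).1,
    show T.B.matHom ⟨T.cv v', hHN⟩ = 1 from hM1, inv_one, one_mul] at h1
  obtain ⟨hd1, -⟩ := T.h.diag T.B T.hx
  have hx3 : T.B.matHom ⟨T.x, T.HN_of_Ca (T.J_le_Ca (T.h.x_mem_J T.B T.hx)) T.hx.1⟩ ^ 3 = 1 := by
    rw [← map_pow, show (⟨T.x, T.HN_of_Ca (T.J_le_Ca (T.h.x_mem_J T.B T.hx)) T.hx.1⟩ : T.S.HN) ^ 3 = 1 from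
      Subtype.ext T.D'.z_cube, map_one]
  have hx1 : T.B.matHom ⟨T.x, T.HN_of_Ca (T.J_le_Ca (T.h.x_mem_J T.B T.hx)) T.hx.1⟩ = 1 := by
    refine eq_one_of_coprime ?_ h1 hx3
    rcases (show ∀ c : ZMod 3, c ≠ 0 → c.val = 1 ∨ c.val = 2 by decide) _ hne with e | e <;> rw [e] <;> decide
  exact hd1 (T.B.k1_eq _ (by simpa [zp_zero] using (T.B.matHom_eq_one.1 hx1).2))

/-- The group contains its centraliser. -/
theorem cent_Rt_le (h3 : T.IsThree) (hN : T.NCond) {c : G} (hc : ∀ r ∈ T.Rt, Commute c r) : c ∈ T.Rt := by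
  obtain ⟨hb, hcard⟩ := Rt_block h3 hN
  obtain ⟨k, hk, hkt⟩ := exists_k h3
  have hkH := T.H4_of_act hkt hk (ptsA_closed kM (by simp [gensT]))
  obtain ⟨q1, hq1, hq1a⟩ := exists_u_Q2 h3 1
  set C := centralizer (T.Rt : Set G)
  have hCt : ∀ u ∈ C, Commute u T.S.t := fun u hu => (mem_centralizer_iff.1 hu _ (T.L_le_Rt T.S.t_mem_L)).symm
  have hnC : ∀ e ∈ normalizer (T.Rt : Set G), e ∈ normalizer (C : Set G) := fun e he =>
    mem_normalizer_of_conj_mem fun u hu => mem_centralizer_iff.2 fun r hr => by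
      have h1 := mem_centralizer_iff.1 hu _ ((mem_normalizer_iff.1 (inv_mem he) r).1 hr)
      rw [inv_inv] at h1
      calc r * (e * u * e⁻¹) = e * ((e⁻¹ * r * e) * u) * e⁻¹ := by group
        _ = e * (u * (e⁻¹ * r * e)) * e⁻¹ := by rw [h1]
        _ = e * u * e⁻¹ * r := by group
  -- no fixed element of order three
  have hno : ∀ y ∈ C, y ^ 3 = 1 → Commute y D.z → y = 1 := by
    intro y hy hy3 hyz
    have hyt := hCt y hy
    have hcr : ∀ r ∈ T.Rt, Commute y r := fun r hr => (mem_centralizer_iff.1 hy r hr).symm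
    have hQ2n : ∀ w ∈ T.S.Q2, y * w * y⁻¹ ∈ T.S.Q2 := fun w hw => by
      obtain ⟨hwQ, hwt⟩ := D.mem_fixC.1 hw
      exact D.mem_fixC.2 ⟨D.norm_Q y hyz w hwQ, (hyt.mul_left hwt).mul_left hyt.inv_left⟩
    have hHN : y ∈ T.S.HN :=
      T.S.swap.HN_swap (T.S.swap.mem_HN_of hyz T.B.ha2 T.B.swap.a1_not_Zc (hQ2n _ T.B.ha2))
    have hp3 : ∀ f : T.S.HN →* SL3, f ⟨y, hHN⟩ ^ 3 = 1 := fun f => by
      rw [← map_pow, show (⟨y, hHN⟩ : T.S.HN) ^ 3 = 1 from Subtype.ext hy3, map_one]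
    have hm1 : T.B.matHom ⟨y, hHN⟩ = 1 := by
      rcases sl_quat.2.2.2.2.1 (T.B.matHom ⟨y, hHN⟩) (fun n hn => by
        obtain ⟨l, hl, rfl⟩ := T.B.exists_L hn
        exact (show Commute (⟨y, hHN⟩ : T.S.HN) ⟨l, T.S.L_HN hl⟩ from
          Subtype.ext (hcr l (T.L_le_Rt hl)).eq).map T.B.matHom) with e | e
      · exact e
      · have := hp3 T.B.matHom; rw [e] at this; exact absurd this (by decide +kernel)
    obtain ⟨n, hn, n1, n2⟩ := sl_move _ (hp3 T.B.matHom2)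
    obtain ⟨p, hp1, hp2⟩ := T.B.exists_ι (one_pow 4) hn
    set g : T.S.HN := ⟨D.ι p, T.S.ι_mem_HN p⟩
    have hy' : (D.ι p * y * (D.ι p)⁻¹) ∈ D.Q := by
      set y' : T.S.HN := g * ⟨y, hHN⟩ * g⁻¹
      have e1 : T.B.matHom y' = 1 := by rw [map_mul, map_mul, map_inv, hm1, mul_one, mul_inv_cancel]
      have e2 : T.B.matHom2 y' = n * T.B.matHom2 ⟨y, hHN⟩ * n⁻¹ := by rw [map_mul, map_mul, map_inv, hp2]
      have hfix : ⁅(y' : G), T.B.a2⁆ ∈ D.Zc := matHom_fix_first T.B.swap (g := ⟨y', T.S.HN_swap y'.2⟩)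
        (show (T.B.matHom2 y').1 0 0 = 1 by rw [e2]; exact n1) (show (T.B.matHom2 y').1 1 0 = 0 by rw [e2]; exact n2)
      have hS : (y' : G) ∈ T.B.Stab := ⟨(T.S.mem_HN.1 y'.2).1, (T.B.matHom_eq_one.1 e1).1, hfix⟩
      exact h3.mem_Q (g := ⟨y', hS⟩) (T.B.k1_eq _ (by simpa [zp_zero] using (T.B.matHom_eq_one.1 e1).2))
    have hyQ : y ∈ D.Q := by
      have := D.conj_inv_mem (D.ι_z p) hy'
      rwa [show (D.ι p)⁻¹ * (D.ι p * y * (D.ι p)⁻¹) * D.ι p = y by group] at this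
    have hy2 : y ∈ T.S.Q2 := D.mem_fixC.2 ⟨hyQ, hyt⟩
    have hyx : Commute y T.x := by
      refine mul_inv_eq_iff_eq_mul.1 ?_
      by_contra hne
      have hne' : k * T.cv (1, 0, 0, 0) * k⁻¹ ≠ (y * k) * T.cv (1, 0, 0, 0) * (y * k)⁻¹ := fun e => hne (by
        rw [show (y * k) * T.cv (1, 0, 0, 0) * (y * k)⁻¹ = y * (k * T.cv (1, 0, 0, 0) * k⁻¹) * y⁻¹ by group,
          hk.eq, q0_facts.2, T.cv_x] at e
        exact e.symm)
      have hcomm := Lc_commute h3 hN hkH (T.H4.mul_mem (T.Q2_le_H4 hy2) hkH) hne'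
      have hcen : ∀ l ∈ T.S.L, l = 1 ∨ l = T.S.t := fun l hl => T.block_L.cen l hl fun m hm => by
        have h1 := hcomm _ ⟨l, hl, rfl⟩ _ ⟨m, hm, rfl⟩
        simp only [MulEquiv.toMonoidHom_eq_coe, MonoidHom.coe_coe, MulAut.conj_apply] at h1
        rw [show y * k * m * (y * k)⁻¹ = y * (k * m * k⁻¹) * y⁻¹ by group,
          (hcr _ (T.Lc_le hkH ⟨m, hm, rfl⟩) : Commute y (k * m * k⁻¹)).eq, mul_inv_cancel_right] at h1
        simpa [mul_assoc] using h1.map (MulAut.conj k⁻¹).toMonoidHom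
      have h8 := T.S.card_L
      have : Nat.card T.S.L ≤ 2 := by
        classical
        refine (Nat.card_le_card_of_injective (fun l : T.S.L => decide ((l : G) = 1)) fun l m e => ?_).trans (by simp)
        rcases hcen l l.2 with e1 | e1 <;> rcases hcen m m.2 with e2 | e2 <;>
          first | exact Subtype.ext (e1.trans e2.symm) | exact Subtype.ext (by simp_all)
      omega
    have hyP : y ∈ T.P := (T.h.mem_cent_J T.B T.hx).2 ⟨T.B.Q_le_Stab hyQ, hyx⟩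
    rw [h3.P_eq] at hyP
    obtain ⟨v, rfl⟩ := T.exists_cv hyP
    obtain ⟨w1, h1, e1⟩ := T.last_zero_of_cent hk (v := v) fun l hl => hcr _ (T.Lc_le hkH ⟨l, hl, rfl⟩)
    obtain ⟨w2, h2, e2⟩ := T.last_zero_of_cent (T.act_cmp hq1a hk) (v := v) fun l hl =>
      hcr _ (T.Lc_le (T.H4.mul_mem (T.Q2_le_H4 hq1) hkH) ⟨l, hl, rfl⟩)
    rw [common_zero v (T.last_zero_of_Q hyQ) (T.cv_fixed hyt) ⟨w1, h1, e1⟩ ⟨w2, h2, e2⟩, T.cv_zero]
  have hzn : D.z ∈ normalizer (C : Set G) := hnC _ (T.H4_norm_Rt (T.Q2_le_H4 (D.Zc_le_fixC T.S.t_z (mem_zpowers _))))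
  have h3C : (Nat.card C).Coprime 3 := by
    refine ((Nat.Prime.coprime_iff_not_dvd Nat.prime_three).2 fun hdvd => ?_).symm
    haveI : Fact (Nat.Prime 3) := ⟨Nat.prime_three⟩
    set W := C ⊔ zpowers D.z
    have hWn : W ≤ normalizer (C : Set G) := sup_le le_normalizer (zpowers_le.2 hzn)
    haveI : (C.subgroupOf W).Normal := normal_subgroupOf_of_le_normalizer hWn
    have hz1 : D.z ∉ C := fun hz => D.z_ne (hno _ hz D.z_cube (Commute.refl _))
    have h9 : 3 ^ 2 ∣ Nat.card W := by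
      rw [← Subgroup.card_mul_index (C.subgroupOf W), pow_two,
        Nat.card_congr (subgroupOfEquivOfLe (le_sup_left : C ≤ W)).toEquiv]
      refine Nat.mul_dvd_mul hdvd ?_
      have ho : orderOf (QuotientGroup.mk' (C.subgroupOf W) ⟨D.z, mem_sup_right (mem_zpowers _)⟩) = 3 :=
        orderOf_eq_prime (by rw [← map_pow, show (⟨D.z, mem_sup_right (mem_zpowers _)⟩ : W) ^ 3 = 1 from
          Subtype.ext D.z_cube, map_one]) fun e => hz1 (mem_subgroupOf.1 ((QuotientGroup.eq_one_iff _).1 e))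
      rw [index_eq_card, ← ho]
      exact orderOf_dvd_natCard _
    obtain ⟨P, hP⟩ := (IsPGroup.of_card (n := 1) (G := zpowers (⟨D.z, mem_sup_right (mem_zpowers _)⟩ : W))
      (by rw [Nat.card_zpowers, ← Subgroup.orderOf_coe, D.hz, pow_one])).exists_le_sylow
    have hP9 : 3 ^ 2 ∣ Nat.card (P : Subgroup W) := P.pow_dvd_card_of_pow_dvd_card h9
    set N := (C.subgroupOf W).subgroupOf (P : Subgroup W)
    have hNn : N ≠ ⊥ := fun hbot => by
      have hinj : Function.Injective ((QuotientGroup.mk' (C.subgroupOf W)).comp (P : Subgroup W).subtype) := by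
        rw [← MonoidHom.ker_eq_bot_iff, eq_bot_iff_forall]
        intro p hp
        have : p ∈ N := mem_subgroupOf.2 ((QuotientGroup.eq_one_iff _).1 hp)
        rwa [hbot, mem_bot] at this
      have hrange : ((QuotientGroup.mk' (C.subgroupOf W)).comp (P : Subgroup W).subtype).range ≤
          zpowers (QuotientGroup.mk' (C.subgroupOf W) ⟨D.z, mem_sup_right (mem_zpowers _)⟩) := by
        rintro _ ⟨p, rfl⟩
        obtain ⟨w, hw⟩ := p
        show QuotientGroup.mk' _ w ∈ _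
        have hw' : (w : G) ∈ C ⊔ zpowers D.z := w.2
        rw [← SetLike.mem_coe, coe_mul_of_right_le_normalizer_left _ _ (zpowers_le.2 hzn)] at hw'
        obtain ⟨a, ha, b, hb', e⟩ := hw'
        obtain ⟨i, rfl⟩ := mem_zpowers_iff.1 hb'
        rw [show w = (⟨a, mem_sup_left ha⟩ : W) * (⟨D.z, mem_sup_right (mem_zpowers _)⟩ : W) ^ i from
          Subtype.ext e.symm, map_mul, map_zpow, show QuotientGroup.mk' (C.subgroupOf W) (⟨a, mem_sup_left ha⟩ : W) = 1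
          from (QuotientGroup.eq_one_iff _).2 (mem_subgroupOf.2 ha), one_mul]
        exact zpow_mem (mem_zpowers _) i
      have hle := card_le_of_le hrange
      rw [Nat.card_congr (MonoidHom.ofInjective hinj).toEquiv.symm, Nat.card_zpowers] at hle
      have h3le := orderOf_le_of_pow_eq_one (by norm_num) (show (QuotientGroup.mk' (C.subgroupOf W)
        ⟨D.z, mem_sup_right (mem_zpowers _)⟩) ^ 3 = 1 by
          rw [← map_pow, show (⟨D.z, mem_sup_right (mem_zpowers _)⟩ : W) ^ 3 = 1 from Subtype.ext D.z_cube, map_one])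
      have := Nat.le_of_dvd Nat.card_pos hP9
      omega
    obtain ⟨⟨y, hy⟩, hy0⟩ := ne_bot_iff_exists_ne_one.1 (Cfsg.Lib.PGroup.inf_center_ne_bot P.2 (N := N) hNn)
    have hy1 : y ≠ 1 := fun e => hy0 (Subtype.ext e)
    obtain ⟨n, hn⟩ := P.2 y
    obtain ⟨m, hm1, hm3⟩ : ∃ m : ℕ, y ^ m ≠ 1 ∧ (y ^ m) ^ 3 = 1 := by
      obtain ⟨e, he, ho⟩ := (Nat.dvd_prime_pow Nat.prime_three).1 (orderOf_dvd_of_pow_eq_one hn)
      rcases e with _ | e
      · exact absurd (orderOf_eq_one_iff.1 (by rw [ho, pow_zero])) hy1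
      refine ⟨3 ^ e, fun h => ?_, by rw [← pow_mul, ← pow_succ, ← ho, pow_orderOf_eq_one]⟩
      have := orderOf_dvd_of_pow_eq_one h
      rw [ho] at this
      exact absurd (Nat.le_of_dvd (by positivity) this) (not_le.2 (Nat.pow_lt_pow_right (by norm_num) (Nat.lt_succ_self e)))
    refine hm1 (Subtype.ext (Subtype.ext ?_))
    refine hno _ ?_ ?_ ?_
    · exact mem_subgroupOf.1 (mem_subgroupOf.1 (pow_mem hy.1 m))
    · exact congrArg (fun p : (P : Subgroup W) => ((p : W) : G)) hm3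
    · exact congrArg (fun p : (P : Subgroup W) => ((p : W) : G))
        (mem_center_iff.1 (pow_mem hy.2 m) ⟨_, hP (mem_zpowers _)⟩).symm
  exact le_Rt h3 hN h3C hCt hzn (hnC _ (T.H4_norm_Rt (T.Q2_le_H4 T.B.ha2))) (mem_centralizer_iff.2 fun r hr => (hc r hr).symm.eq)

end Setting

end Cfsg.Lib.U6Three
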