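import Cfsg.Agent.Lib.U6Three.Setting
import Cfsg.Agent.Lib.Coprime.Generation

/-!
# The Sylow 3-subgroup, weak closure and the signalizer of the plane
-/

set_option autoImplicit false
set_option linter.unusedSectionVars false
set_option maxHeartbeats 800000

namespace Cfsg.Lib.U6Three

open Subgroup
open scoped commutatorElement

/-- The point vectors in normalised coordinates. -/
def ptv (i j : ZMod 3) : V4 := (i * i + j * j, i, j, 1)

theorem hyperplane_point : ∀ l : V4, l.1 * 1 = 0 ∨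
    ∃ i j : ZMod 3, l.1 * (i * i + j * j) + l.2.1 * i + l.2.2.1 * j + l.2.2.2 = 0 := by decide +kernel

namespace Setting

variable {G : Type*} [Group G] [Finite G] {D : Data G} (T : Setting D)

/-- The second point. -/
abbrev x : G := T.D'.z

/-- The plane. -/
abbrev J : Subgroup G := T.h.J T.B T.hx

/-- The centraliser of the plane. -/
abbrev P : Subgroup G := centralizer (T.J : Set G)

/-- Normalised coordinates. -/
def cv (v : V4) : G := T.B.el (T.ε * v.1) v.2.1 v.2.2.1 * zp T.x v.2.2.2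

theorem cv_eq (v : V4) : T.cv v = T.h.vec T.B T.hx (Multiplicative.ofAdd (T.ε * v.1, v.2.1, v.2.2.1, v.2.2.2)) :=
  (T.h.vec_apply T.B T.hx (T.ε * v.1, v.2.1, v.2.2.1, v.2.2.2)).symm

theorem cv_mem (v : V4) : T.cv v ∈ T.J := ⟨_, (T.cv_eq v).symm⟩

theorem cv_add (v w : V4) : T.cv (v + w) = T.cv v * T.cv w := by
  rw [T.cv_eq, T.cv_eq, T.cv_eq, ← map_mul, ← ofAdd_add]
  congr 2
  simp [mul_add, Prod.ext_iff]

theorem cv_zero : T.cv 0 = 1 := by simp [cv, Basis.el, zp_zero]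

theorem cv_inj : Function.Injective T.cv := by
  intro v w e
  rw [T.cv_eq, T.cv_eq] at e
  have h := Multiplicative.ofAdd.injective (T.h.vec_inj T.B T.hx e)
  simp only [Prod.mk.injEq, mul_eq_mul_left_iff, T.ε_ne, or_false] at h
  exact Prod.ext h.1 (Prod.ext h.2.1 (Prod.ext h.2.2.1 h.2.2.2))

theorem exists_cv {w : G} (hw : w ∈ T.J) : ∃ v, T.cv v = w := by
  obtain ⟨p, rfl⟩ := hw
  obtain ⟨⟨k, i, j, l⟩, rfl⟩ := Multiplicative.ofAdd.surjective p
  refine ⟨(T.ε⁻¹ * k, i, j, l), ?_⟩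
  rw [T.cv_eq]
  dsimp only
  rw [← mul_assoc, mul_inv_cancel₀ T.ε_ne, one_mul]

theorem cv_z : T.cv (1, 0, 0, 0) = zp D.z T.ε := by simp [cv, Basis.el, zp_zero]

theorem cv_ptv (i j : ZMod 3) : T.cv (ptv i j) = T.B.el (T.ε * (i * i + j * j)) i j * T.x := by
  simp [cv, ptv, zp_one]

theorem pt_ptv (i j : ZMod 3) : Pt D.z (T.cv (ptv i j)) := by
  obtain ⟨q, -, e⟩ := T.orbit i j
  rw [cv_ptv, ← e]
  exact T.h.pt.conj q

theorem ptv_not_Q (i j : ZMod 3) : T.cv (ptv i j) ∉ D.Q := fun hq => T.h.notin (by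
  rw [cv_ptv] at hq
  have := D.Q.mul_mem (D.Q.inv_mem (T.B.el_mem (T.ε * (i * i + j * j)) i j)) hq
  rwa [inv_mul_cancel_left] at this)

theorem cv_z_pt : Pt D.z (T.cv (1, 0, 0, 0)) := by
  rw [cv_z]
  rcases (show ∀ e : ZMod 3, e ≠ 0 → e = 1 ∨ e = -1 by decide) T.ε T.ε_ne with e | e <;> rw [e]
  · rw [zp_one]; exact Pt.self _
  · rw [← zp_inv D.z_cube, zp_one]; exact (Pt.self _).inv

/-- The points of the plane. -/
theorem pt_cases {y : G} (hy : y ∈ T.J) (hp : Pt D.z y) :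
    y = T.cv (1, 0, 0, 0) ∨ y = (T.cv (1, 0, 0, 0))⁻¹ ∨ ∃ i j, y = T.cv (ptv i j) ∨ y = (T.cv (ptv i j))⁻¹ := by
  rcases T.points y (T.h.J_le_P T.B T.hx hy) hp with hz | ⟨i, j, hij⟩
  · obtain ⟨g, hg⟩ := hp
    have hne : y ≠ 1 := fun e => by
      rcases hg with hg | hg <;> rw [e] at hg
      · exact D.z_ne (conj_eq_one_iff.1 hg)
      · exact D.z_ne (conj_eq_one_iff.1 (by rw [hg, inv_one]))
    rw [cv_z]
    rcases D.cases_Zc hz with e | e | e <;>
      rcases (show ∀ c : ZMod 3, c ≠ 0 → c = 1 ∨ c = -1 by decide) T.ε T.ε_ne with c | c <;> rw [c, e]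
    · exact absurd e hne
    · exact absurd e hne
    · exact Or.inl (zp_one _).symm
    · exact Or.inr (Or.inl (by rw [zp_inv D.z_cube, neg_neg, zp_one]))
    · exact Or.inr (Or.inl (by rw [zp_one]))
    · exact Or.inl (by rw [← zp_inv D.z_cube, zp_one])
  · exact Or.inr (Or.inr ⟨i, j, by rw [cv_ptv]; exact hij⟩)

/-- A subgroup containing the points contains the plane. -/
theorem J_le_of_points {W : Subgroup G} (hz : D.z ∈ W) (hp : ∀ i j, T.cv (ptv i j) ∈ W) : T.J ≤ W := by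
  have hx : T.x ∈ W := by simpa [cv_ptv, Basis.el_zero] using hp 0 0
  have he : ∀ i j, T.B.el (T.ε * (i * i + j * j)) i j ∈ W := fun i j => by
    have := W.mul_mem (hp i j) (W.inv_mem hx)
    rwa [cv_ptv, mul_inv_cancel_right] at this
  have ha : ∀ i j, T.B.el 0 i j ∈ W := fun i j => by
    have := W.mul_mem (zp_mem hz (-(T.ε * (i * i + j * j)))) (he i j)
    rwa [Basis.el, mul_assoc (zp D.z _), ← mul_assoc, ← zp_add D.z_cube, neg_add_cancel, zp_zero, one_mul,
      show zp T.B.a1 i * zp T.B.a2 j = T.B.el 0 i j by simp [Basis.el, zp_zero]] at this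
  rintro _ ⟨p, rfl⟩
  obtain ⟨⟨k, i, j, l⟩, rfl⟩ := Multiplicative.ofAdd.surjective p
  rw [T.h.vec_apply]
  refine W.mul_mem ?_ (zp_mem hx l)
  have := W.mul_mem (zp_mem hz k) (ha i j)
  rwa [Basis.el, zp_zero, one_mul, ← mul_assoc] at this

/-- The stabiliser is a maximal 3-subgroup. -/
theorem Stab_max {W : Subgroup G} (hW : IsPGroup 3 W) (hz : ∀ g ∈ W, Commute g D.z) (hle : T.B.Stab ≤ W) :
    W = T.B.Stab := by
  refine le_antisymm ?_ hle
  obtain ⟨B2, hB2⟩ := T.S.exists_basis_of_three hW hz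
  have hx2 : T.x ∈ B2.Stab := hB2 (hle T.hx)
  obtain ⟨hd1, hd2⟩ := T.h.diag T.B T.hx
  have key : ∀ {S' : Split D} (A A2 : Basis S') (hA : T.x ∈ A.Stab), A.k1 ⟨_, hA⟩ ≠ 0 → T.x ∈ A2.Stab →
      ∀ g ∈ A2.Stab, ⁅g, A.a1⁆ ∈ D.Zc := by
    intro S' A A2 hA hA1 hA2 g hg
    obtain ⟨w, hw, i, j, e⟩ := A.normal_form A2.ha1
    set F := D.fixMod T.x hA.1
    have hwF : ∀ {u : G} (hu : Commute u D.z), w ∈ D.fixMod u hu := fun {u} hu => ⟨D.Zc_le hw, by
      rw [commutatorElement_eq_one_iff_commute.2 (D.comm_Zc hu hw)]; exact D.Zc.one_mem⟩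
    have haF : A.a1 ∈ F := ⟨A.ha1.1, hA.2.1⟩
    have hjF : zp A.b1 j ∈ F := by
      have h' : A2.a1 ∈ F := ⟨A2.ha1.1, hA2.2.1⟩
      rw [e] at h'
      have := F.mul_mem (F.inv_mem (F.mul_mem (hwF hA.1) (zp_mem haF i))) h'
      rwa [inv_mul_cancel_left] at this
    have hj : j = 0 := by
      by_contra hj
      have := zp_mem hjF j⁻¹
      rw [zp_zp A.b1_cube, mul_inv_cancel₀ hj, zp_one] at this
      exact hA1 (A.k1_eq _ (by simpa [zp_zero] using this.2))
    subst hj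
    rw [zp_zero, mul_one] at e
    have hi : i ≠ 0 := fun hi => A2.a1_not_Zc (by rw [e, hi, zp_zero, mul_one]; exact hw)
    obtain ⟨hgz, hga⟩ : Commute g D.z ∧ ⁅g, A2.a1⁆ ∈ D.Zc := ⟨(A2.mem_Stab.1 hg).1, (A2.mem_Stab.1 hg).2.1⟩
    have h' : A2.a1 ∈ D.fixMod g hgz := ⟨A2.ha1.1, hga⟩
    rw [e] at h'
    have h2 := (D.fixMod g hgz).mul_mem ((D.fixMod g hgz).inv_mem (hwF hgz)) h'
    rw [inv_mul_cancel_left] at h2
    have h3 := zp_mem h2 i⁻¹
    rw [zp_zp A.a1_cube, mul_inv_cancel₀ hi, zp_one] at h3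
    exact h3.2
  exact fun g hg => ⟨hz g hg, key T.B B2 T.hx hd1 hx2 g (hB2 hg),
    key T.B.swap B2.swap (T.B.swap_Stab T.hx) hd2 (B2.swap_Stab hx2) g (B2.swap_Stab (hB2 hg))⟩

/-- The centre of the stabiliser. -/
theorem center_Stab {g : G} (hg : g ∈ T.B.Stab) (hc : ∀ u ∈ T.B.Stab, Commute g u) : g ∈ D.Zc :=
  D.cent_Q g hg.1 fun q hq => hc q (T.B.Q_le_Stab hq)

theorem exists_sylow : ∃ S : Sylow 3 G, (S : Subgroup G) = T.B.Stab := by
  haveI : Fact (Nat.Prime 3) := ⟨Nat.prime_three⟩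
  obtain ⟨S, hS⟩ := T.B.Stab_pgroup.exists_le_sylow
  refine ⟨S, le_antisymm ?_ hS⟩
  by_contra hne
  set W := T.B.Stab.subgroupOf (S : Subgroup G)
  haveI : Group.IsNilpotent (S : Subgroup G) := IsPGroup.isNilpotent S.2
  have hlt : W < ⊤ := by
    refine lt_top_iff_ne_top.2 fun h => hne (subgroupOf_eq_top.1 h)
  obtain ⟨g, hgn, hgW⟩ := SetLike.exists_of_lt (Group.normalizerCondition_of_isNilpotent W hlt)
  have hnorm : ∀ u ∈ T.B.Stab, (g : G) * u * (g : G)⁻¹ ∈ T.B.Stab := fun u hu => by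
    have := (mem_normalizer_iff.1 hgn ⟨u, hS hu⟩).1 (mem_subgroupOf.2 hu)
    simpa [W, mem_subgroupOf] using this
  have hnorm' : ∀ u ∈ T.B.Stab, (g : G)⁻¹ * u * (g : G) ∈ T.B.Stab := fun u hu => by
    have := (mem_normalizer_iff.1 (inv_mem hgn) ⟨u, hS hu⟩).1 (mem_subgroupOf.2 hu)
    simpa [W, mem_subgroupOf] using this
  have hzc : (g : G) * D.z * (g : G)⁻¹ ∈ D.Zc := T.center_Stab (hnorm _ (T.B.Q_le_Stab D.z_mem)) fun u hu => by
    have h1 : Commute D.z ((g : G)⁻¹ * u * g) := (hnorm' u hu).1.symm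
    have h2 := h1.map (MulAut.conj (g : G)).toMonoidHom
    simpa [mul_assoc] using h2
  have hgz : Commute (g : G) D.z := by
    rcases D.cases_Zc hzc with e | e | e
    · exact absurd (conj_eq_one_iff.1 e) D.z_ne
    · exact mul_inv_eq_iff_eq_mul.1 e
    · exfalso
      obtain ⟨n, hn⟩ := S.2 g
      have hn' : (g : G) ^ 3 ^ n = 1 := congrArg Subtype.val hn
      have hodd : ∀ m : ℕ, (g : G) ^ (2 * m + 1) * D.z * ((g : G) ^ (2 * m + 1))⁻¹ = D.z⁻¹ := by
        intro m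
        induction m with
        | zero => simpa using e
        | succ m ih =>
          rw [show 2 * (m + 1) + 1 = 1 + (1 + (2 * m + 1)) by ring, pow_add (g : G) 1, pow_add (g : G) 1, pow_one,
            show (g : G) * ((g : G) * (g : G) ^ (2 * m + 1)) * D.z * ((g : G) * ((g : G) * (g : G) ^ (2 * m + 1)))⁻¹ =
              (g : G) * ((g : G) * ((g : G) ^ (2 * m + 1) * D.z * ((g : G) ^ (2 * m + 1))⁻¹) * (g : G)⁻¹) * (g : G)⁻¹ by
                group, ih, ← conj_inv, e, inv_inv, e]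
      obtain ⟨m, hm⟩ := (Odd.pow (by decide : Odd 3) : Odd (3 ^ n))
      have := hodd m
      rw [← hm, hn', one_mul, inv_one, mul_one] at this
      exact D.z_ne (eq_one_of_sq_cube (mul_eq_one_iff_eq_inv.2 this) D.z_cube)
  have hT : T.B.Stab ⊔ zpowers (g : G) ≤ (S : Subgroup G) := sup_le hS (zpowers_le.2 g.2)
  have he := T.Stab_max (S.2.to_le hT) (fun u hu => by
    have : T.B.Stab ⊔ zpowers (g : G) ≤ centralizer ({D.z} : Set G) := sup_le
      (fun v hv => mem_centralizer_singleton_iff.2 hv.1) (zpowers_le.2 (mem_centralizer_singleton_iff.2 hgz))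
    exact mem_centralizer_singleton_iff.1 (this hu)) le_sup_left
  exact hgW (mem_subgroupOf.2 (he.le (le_sup_right (a := T.B.Stab) (mem_zpowers _))))

/-- The plane is weakly closed in the Sylow 3-subgroup. -/
theorem weakly_closed {g : G} (hg : ∀ w ∈ T.J, g * w * g⁻¹ ∈ T.B.Stab) : g ∈ normalizer (T.J : Set G) := by
  have hpt : ∀ y ∈ T.J, Pt D.z y → g * y * g⁻¹ ∈ T.J := fun y hy hp => T.h.pt_mem_J T.B T.hx (hg y hy) (hp.conj g)
  have hle : T.J ≤ T.J.comap (MulAut.conj g).toMonoidHom :=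
    T.J_le_of_points (hpt _ (T.h.z_mem_J T.B T.hx) (Pt.self _)) fun i j => hpt _ (T.cv_mem _) (T.pt_ptv i j)
  have hfin : T.J.map (MulAut.conj g).toMonoidHom = T.J := Subgroup.eq_of_le_of_card_ge
    (map_le_iff_le_comap.2 hle) (le_of_eq (Subgroup.card_map_of_injective (MulAut.conj g).injective).symm)
  rw [mem_normalizer_iff]
  intro w
  refine ⟨fun hw => hle hw, fun hw => ?_⟩
  obtain ⟨v, hv, e⟩ := hfin.ge hw
  exact mul_left_cancel (mul_right_cancel e) ▸ hv

/-- The plane normalises no nontrivial subgroup of order prime to three. -/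
theorem signalizer {U : Subgroup G} (hU : (Nat.card U).Coprime 3) (hn : T.J ≤ normalizer (U : Set G)) : U = ⊥ := by
  classical
  haveI : IsMulCommutative T.J := ⟨⟨fun a b => Subtype.ext (by
    show (a : G) * b = (b : G) * a
    exact (T.h.comm_P T.B T.hx (T.h.J_le_P T.B T.hx a.2) b.2).eq)⟩⟩
  have hcop : (Nat.card T.J).Coprime (Nat.card U) := by
    rw [T.h.card_J T.B T.hx, show (81 : ℕ) = 3 ^ 4 by rfl]; exact hU.symm.pow_left 4
  -- the trivial case: centralising the centre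
  have hzero : ∀ W : Subgroup G, (Nat.card W).Coprime 3 → T.J ≤ normalizer (W : Set G) →
      (∀ u ∈ W, Commute u D.z) → W = ⊥ := by
    intro W hW hWn hWz
    have hdis : ∀ u ∈ W, u ^ 243 = 1 → u = 1 := by
      intro u hu h
      have h1 : orderOf u ∣ 3 ^ 5 := orderOf_dvd_of_pow_eq_one h
      have h2 : orderOf u ∣ Nat.card W := Subgroup.orderOf_dvd_natCard _ hu
      exact orderOf_eq_one_iff.1 (Nat.dvd_one.1 ((hW.symm.pow_left 5) ▸ Nat.dvd_gcd h1 h2))
    rw [eq_bot_iff]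
    intro u hu
    have hcent : ∀ {a : G}, a ∈ T.J → a ∈ D.Q → Commute u a := fun {a} ha haQ => by
      refine commutatorElement_eq_one_iff_commute.1 (hdis _ ?_ (D.pow_243 (D.comm_mem (hWz u hu) haQ)))
      rw [show ⁅u, a⁆ = u * (a * u⁻¹ * a⁻¹) by simp only [commutatorElement_def]; group]
      exact W.mul_mem hu ((mem_normalizer_iff.1 (hWn ha) _).1 (W.inv_mem hu))
    have c1 := hcent (by simpa [Basis.el, zp_zero, zp_one] using T.h.el_mem_J T.B T.hx 0 1 0) T.B.ha1.1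
    have c2 := hcent (by simpa [Basis.el, zp_zero, zp_one] using T.h.el_mem_J T.B T.hx 0 0 1) T.B.ha2.1
    have hS : u ∈ T.B.Stab := ⟨hWz u hu, by rw [commutatorElement_eq_one_iff_commute.2 c1]; exact D.Zc.one_mem,
      by rw [commutatorElement_eq_one_iff_commute.2 c2]; exact D.Zc.one_mem⟩
    obtain ⟨n, hn'⟩ := T.B.Stab_pgroup ⟨u, hS⟩
    have h1 : orderOf u ∣ 3 ^ n := orderOf_dvd_of_pow_eq_one (congrArg Subtype.val hn')
    have h2 : orderOf u ∣ Nat.card W := Subgroup.orderOf_dvd_natCard _ hu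
    exact mem_bot.2 (orderOf_eq_one_iff.1 (Nat.dvd_one.1 ((hW.symm.pow_left n) ▸ Nat.dvd_gcd h1 h2)))
  rw [eq_bot_iff]
  refine (Cfsg.Lib.Coprime.le_iSup_centralizer_cocyclic U hn hcop).trans (iSup₂_le fun Bc hBc => ?_)
  obtain ⟨hBJ, c, hcJ, hsup⟩ := hBc
  -- a point in the hyperplane
  have hdec : ∀ v : V4, ∃ m : ZMod 3, T.cv v * (zp c m)⁻¹ ∈ Bc := by
    intro v
    have hn : zpowers c ≤ normalizer (Bc : Set G) := by
      rw [zpowers_le, mem_normalizer_iff]
      intro b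
      constructor
      · intro hb
        rwa [(T.h.comm_P T.B T.hx (T.h.J_le_P T.B T.hx hcJ) (hBJ hb)).eq, mul_inv_cancel_right]
      · intro hb
        have h := (T.h.comm_P T.B T.hx (T.h.J_le_P T.B T.hx (T.J.inv_mem hcJ)) (hBJ hb)).eq
        have e : b = c⁻¹ * (c * b * c⁻¹) * c := by group
        rw [e, h, inv_mul_cancel_right]; exact hb
    have hv : T.cv v ∈ Bc ⊔ zpowers c := hsup.symm ▸ T.cv_mem v
    rw [← SetLike.mem_coe, coe_mul_of_right_le_normalizer_left _ _ hn] at hv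
    obtain ⟨b, hb, d, hd, e⟩ := hv
    obtain ⟨w, hw⟩ := T.exists_cv hcJ
    have hc3 : c ^ 3 = 1 := by
      rw [← hw, pow_three, ← T.cv_add, ← T.cv_add,
        show w + (w + w) = 0 from (show ∀ a : V4, a + (a + a) = 0 by decide +kernel) w, T.cv_zero]
    obtain ⟨k, rfl⟩ := mem_zpowers_iff.1 hd
    refine ⟨(k : ZMod 3), ?_⟩
    rw [← e, show zp c (k : ZMod 3) = c ^ k by
      rw [zp, ← zpow_natCast]
      refine zpow_eq_zpow_iff_modEq.2 (Int.ModEq.of_dvd (Int.natCast_dvd_natCast.2 (orderOf_dvd_of_pow_eq_one hc3)) ?_)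
      rw [ZMod.val_intCast]
      exact Int.mod_modEq _ _, mul_inv_cancel_right]
    exact hb
  choose m hm using hdec
  obtain ⟨p, hp, hpt⟩ : ∃ p ∈ Bc, Pt D.z p := by
    by_cases hcB : c ∈ Bc
    · exact ⟨T.cv (1, 0, 0, 0), by
        have h := hm (1, 0, 0, 0); have := Bc.mul_mem h (zp_mem hcB (m (1, 0, 0, 0)))
        rwa [inv_mul_cancel_right] at this, T.cv_z_pt⟩
    obtain ⟨w, hw⟩ := T.exists_cv hcJ
    have hc3 : c ^ 3 = 1 := by
      rw [← hw, pow_three, ← T.cv_add, ← T.cv_add,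
        show w + (w + w) = 0 from (show ∀ a : V4, a + (a + a) = 0 by decide +kernel) w, T.cv_zero]
    have huniq : ∀ {k : ZMod 3}, zp c k ∈ Bc → k = 0 := fun {k} hk => by
      by_contra hne
      have := zp_mem hk k⁻¹
      rw [zp_zp hc3, mul_inv_cancel₀ hne, zp_one] at this
      exact hcB this
    have hadd : ∀ v v', m (v + v') = m v + m v' := by
      intro v v'
      have h1 := Bc.mul_mem (hm v) (hm v')
      have h2 := Bc.mul_mem (Bc.inv_mem (hm (v + v'))) h1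
      rw [T.cv_add] at h2
      have cc := fun (u : V4) (k : ZMod 3) => (zp_comm (T.h.comm_P T.B T.hx (T.h.J_le_P T.B T.hx hcJ) (T.cv_mem u)) k)
      have e : (T.cv v * T.cv v' * (zp c (m (v + v')))⁻¹)⁻¹ * (T.cv v * (zp c (m v))⁻¹ * (T.cv v' * (zp c (m v'))⁻¹)) =
          zp c (m (v + v') - m v - m v') := by
        rw [show T.cv v * (zp c (m v))⁻¹ * (T.cv v' * (zp c (m v'))⁻¹) =
          T.cv v * ((zp c (m v))⁻¹ * T.cv v') * (zp c (m v'))⁻¹ by group, ((cc v' (m v)).inv_left).eq,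
          show (T.cv v * T.cv v' * (zp c (m (v + v')))⁻¹)⁻¹ * (T.cv v * (T.cv v' * (zp c (m v))⁻¹) * (zp c (m v'))⁻¹) =
            zp c (m (v + v')) * ((zp c (m v))⁻¹ * (zp c (m v'))⁻¹) by group,
          zp_inv hc3, zp_inv hc3, ← zp_add hc3, ← zp_add hc3]
        congr 1; ring
      rw [e] at h2
      have := huniq h2
      linear_combination this
    obtain ⟨f, hf⟩ : ∃ f : V4 →+ ZMod 3, ∀ v, f v = m v := ⟨AddMonoidHom.mk' m hadd, fun _ => rfl⟩
    have hsm : ∀ (a : ZMod 3) (v : V4), f (a • v) = a * f v := fun a v => by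
      rw [← smul_eq_mul]; exact ZMod.map_smul f a v
    have hl : ∀ v : V4, m v = f (1, 0, 0, 0) * v.1 + f (0, 1, 0, 0) * v.2.1 + f (0, 0, 1, 0) * v.2.2.1 +
        f (0, 0, 0, 1) * v.2.2.2 := fun v => by
      conv_lhs => rw [← hf, show v = v.1 • ((1, 0, 0, 0) : V4) + v.2.1 • ((0, 1, 0, 0) : V4) +
        v.2.2.1 • ((0, 0, 1, 0) : V4) + v.2.2.2 • ((0, 0, 0, 1) : V4) by simp [Prod.ext_iff]]
      rw [map_add, map_add, map_add, hsm, hsm, hsm, hsm]; ring
    rcases hyperplane_point (f (1, 0, 0, 0), f (0, 1, 0, 0), f (0, 0, 1, 0), f (0, 0, 0, 1)) with h | ⟨i, j, h⟩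
    · refine ⟨_, ?_, T.cv_z_pt⟩
      have := hm (1, 0, 0, 0)
      rwa [show m (1, 0, 0, 0) = 0 by rw [← hf]; simpa using h, zp_zero, inv_one, mul_one] at this
    · refine ⟨_, ?_, T.pt_ptv i j⟩
      have := hm (ptv i j)
      rwa [show m (ptv i j) = 0 by rw [hl]; simp only [ptv]; linear_combination h, zp_zero, inv_one, mul_one] at this
  obtain ⟨g, hg⟩ := hpt
  intro u hu
  obtain ⟨huU, huB⟩ := mem_inf.1 hu
  rw [mem_bot]
  have hp' : Commute u (g * D.z * g⁻¹) := by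
    have h1 : Commute u p := (mem_centralizer_iff.1 huB p hp).symm
    rcases hg with hg | hg <;> rw [hg]
    exacts [h1, h1.inv_right]
  -- transport to `z`
  have hgJ : ∃ k : G, k * D.z * k⁻¹ = g * D.z * g⁻¹ ∧ k ∈ normalizer (T.J : Set G) := by
    haveI : Fact (Nat.Prime 3) := ⟨Nat.prime_three⟩
    obtain ⟨S, hS⟩ := T.exists_sylow
    set C := centralizer ({D.z} : Set G)
    have hg' : ∀ w ∈ T.J, g⁻¹ * w * g ∈ C := fun w hw => mem_centralizer_singleton_iff.2 (by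
      have h1 : Commute w (g * D.z * g⁻¹) := by
        have h2 := T.h.comm_P T.B T.hx (T.h.J_le_P T.B T.hx hw) (hBJ hp)
        rcases hg with hg | hg <;> rw [hg]
        exacts [h2, h2.inv_right]
      have h3 := h1.map (MulAut.conj g⁻¹).toMonoidHom
      simpa [mul_assoc] using h3.eq)
    let W := (T.J.map (MulAut.conj g⁻¹).toMonoidHom).subgroupOf C
    have hW : IsPGroup 3 W := ((T.B.Stab_pgroup.to_le ((T.h.J_le_P T.B T.hx).trans (T.h.P_le_Stab T.B T.hx))).map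
      (MulAut.conj g⁻¹).toMonoidHom).of_equiv (Subgroup.subgroupOfEquivOfLe (by
        rintro _ ⟨w, hw, rfl⟩
        simpa [mul_assoc] using hg' w hw)).symm
    have hSC : (S : Subgroup G) ≤ C := by rw [hS]; exact fun v hv => mem_centralizer_singleton_iff.2 hv.1
    obtain ⟨R, hR⟩ := hW.exists_le_sylow
    obtain ⟨c', hc'⟩ := MulAction.exists_smul_eq C R (S.subtype hSC)
    refine ⟨g * (c' : G)⁻¹, ?_, ?_⟩
    · have := mem_centralizer_singleton_iff.1 (inv_mem c'.2)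
      rw [show g * (c' : G)⁻¹ * D.z * (g * (c' : G)⁻¹)⁻¹ = g * ((c' : G)⁻¹ * D.z * (c' : G)) * g⁻¹ by group,
        this, inv_mul_cancel_right]
    · refine inv_mem_iff.1 (T.weakly_closed fun w hw => ?_)
      rw [← hS]
      have h1 : (⟨g⁻¹ * w * g, hg' w hw⟩ : C) ∈ R := hR (mem_subgroupOf.2 ⟨w, hw, by simp [mul_assoc]⟩)
      have h2 : c' * ⟨g⁻¹ * w * g, hg' w hw⟩ * c'⁻¹ ∈ (S.subtype hSC : Subgroup C) := by
        rw [← hc']
        exact ⟨_, h1, by simp [MulAut.conj_apply]⟩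
      have h3 : (c' : G) * (g⁻¹ * w * g) * (c' : G)⁻¹ ∈ (S : Subgroup G) := h2
      convert h3 using 1
      group
  obtain ⟨k, hk, hkJ⟩ := hgJ
  set W := (U ⊓ centralizer (Bc : Set G)).map (MulAut.conj k⁻¹).toMonoidHom
  have hW : W = ⊥ := by
    refine hzero W ?_ ?_ ?_
    · exact hU.coprime_dvd_left ((Subgroup.card_map_of_injective (MulAut.conj k⁻¹).injective).dvd.trans
        (Subgroup.card_dvd_of_le inf_le_left))
    · intro a ha
      have hka : k * a * k⁻¹ ∈ T.J := (mem_normalizer_iff.1 hkJ a).1 ha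
      have hn1 := mem_normalizer_iff.1 (hn hka)
      have hc : ∀ b ∈ Bc, Commute (k * a * k⁻¹) b := fun b hb =>
        T.h.comm_P T.B T.hx (T.h.J_le_P T.B T.hx hka) (hBJ hb)
      have key : ∀ v, v ∈ U ⊓ centralizer (Bc : Set G) ↔ (k * a * k⁻¹) * v * (k * a * k⁻¹)⁻¹ ∈ U ⊓ centralizer (Bc : Set G) := by
        intro v
        rw [mem_inf, mem_inf, ← hn1 v, mem_centralizer_iff, mem_centralizer_iff]
        refine and_congr_right fun _ => forall_congr' fun b => forall_congr' fun hb => ?_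
        set d := k * a * k⁻¹
        have hd := (hc b hb)
        constructor
        · intro e
          exact ((hd.mul_left (show Commute v b from e.symm)).mul_left hd.inv_left).symm.eq
        · intro e
          have := (hd.inv_left.mul_left (show Commute (d * v * d⁻¹) b from e.symm)).mul_left hd
          rw [show d⁻¹ * (d * v * d⁻¹) * d = v by group] at this
          exact this.symm.eq
      rw [mem_normalizer_iff]
      intro v
      simp only [W, Subgroup.mem_map, MulEquiv.toMonoidHom_eq_coe, MonoidHom.coe_coe, MulAut.conj_apply, inv_inv]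
      constructor
      · rintro ⟨v', hv', rfl⟩
        exact ⟨_, (key v').1 hv', by group⟩
      · rintro ⟨v', hv', e⟩
        refine ⟨(k * a * k⁻¹)⁻¹ * v' * (k * a * k⁻¹), (key _).2 (by
          rw [show k * a * k⁻¹ * ((k * a * k⁻¹)⁻¹ * v' * (k * a * k⁻¹)) * (k * a * k⁻¹)⁻¹ = v' by group]; exact hv'), ?_⟩
        rw [show k⁻¹ * ((k * a * k⁻¹)⁻¹ * v' * (k * a * k⁻¹)) * k = a⁻¹ * (k⁻¹ * v' * k) * a by group, e]; group
    · rintro _ ⟨v, hv, rfl⟩
      have h1 : Commute v (k * D.z * k⁻¹) := by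
        rw [hk]
        have h2 : Commute v p := (mem_centralizer_iff.1 hv.2 p hp).symm
        rcases hg with hg | hg <;> rw [hg]
        exacts [h2, h2.inv_right]
      have h3 := h1.map (MulAut.conj k⁻¹).toMonoidHom
      simpa [mul_assoc] using h3
  have : k⁻¹ * u * k⁻¹⁻¹ ∈ W := ⟨u, hu, rfl⟩
  rw [hW, mem_bot] at this
  simpa using (conj_eq_one_iff.1 this)

end Setting

end Cfsg.Lib.U6Three
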