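import Cfsg.Agent.Lib.U6Three.Three

/-!
# Elements of the normaliser of the plane given by words in the translations
-/

set_option autoImplicit false
set_option linter.unusedSectionVars false
set_option synthInstance.maxSize 4000

namespace Cfsg.Lib.U6Three

open Subgroup
open scoped commutatorElement

/-- Composition of linear maps. -/
def cmp (m n : Cols) : Cols := (app m n.1, app m n.2.1, app m n.2.2.1, app m n.2.2.2)

/-- The map exchanging the two lines. -/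
def wM : Cols := ((2, 0, 0, 0), (0, 0, 1, 0), (0, 2, 0, 0), (0, 0, 0, 2))

/-- A map fixed by the first involution carrying the centre to the second point. -/
def kM : Cols := ((0, 0, 0, 1), (0, 1, 0, 0), (0, 0, 2, 1), (1, 0, 1, 1))

/-- A map fixing the second line carrying the centre to the second point. -/
def aM : Cols := ((0, 0, 0, 1), (0, 2, 0, 1), (0, 0, 1, 0), (1, 1, 0, 1))

/-- A map carrying `a₁ a₂` to `z x`. -/
def nM : Cols := ((2, 1, 2, 1), (2, 1, 1, 2), (2, 2, 2, 2), (1, 1, 2, 2))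

theorem word_wM : cmp (uM 1 0) (cmp (vM 0 1) (cmp (vM 1 0) (cmp (uM 0 1) (cmp (vM 1 0) (uM 1 0))))) = wM ∧
    cmp wM tM = cmp sM wM := by decide +kernel

theorem word_kM : cmp (uM 0 1) (vM 0 2) = kM ∧ cmp tM kM = cmp kM tM := by decide +kernel

theorem word_aM : cmp (uM 1 0) (vM 2 0) = aM := by decide +kernel

theorem word_nM : cmp (uM 0 2) (cmp (vM 1 0) (uM 0 1)) = nM := by decide +kernel

theorem word_u (j : ZMod 3) : cmp tM (uM 0 j) = cmp (uM 0 j) tM := by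
  revert j; decide +kernel

namespace Setting

variable {G : Type*} [Group G] [Finite G] {D : Data G} (T : Setting D)

theorem act_cmp {g h : G} {m n : Cols} (hg : T.Act g m) (hh : T.Act h n) : T.Act (g * h) (cmp m n) :=
  Setting.Act.mul T hg hh

theorem act_of_eq {g h : G} {m : Cols} (hg : T.Act g m) (hh : T.Act h m) : g * h⁻¹ ∈ T.P := by
  rw [mem_centralizer_iff]
  intro w hw
  obtain ⟨v, hv⟩ := T.exists_cv ((mem_normalizer_iff.1 (inv_mem hh.norm) w).1 hw)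
  have h1 : w = T.cv (app m v) := by rw [← hh.eq, hv]; group
  have h2 : (g * h⁻¹) * w * (g * h⁻¹)⁻¹ = w := by
    conv_rhs => rw [h1, ← hg.eq, hv]
    group
  exact (mul_inv_eq_iff_eq_mul.1 h2).symm

variable {T}

/-- An element with commuting action can be chosen commuting with the involution. -/
theorem exists_centralised (h3 : T.IsThree) {u v : G} {a m : Cols} (hu2 : u * u = 1) (hu : T.Act u a)
    (hv : T.Act v m) (e : cmp a m = cmp m a) :
    ∃ w ∈ T.J, T.Act (v * w) m ∧ Commute (v * w) u ∧ ∀ k, Commute k v → Commute k u → Commute k (v * w) := by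
  have hd : (v⁻¹ * u * v * u⁻¹) ∈ T.J := by
    rw [← h3.P_eq]
    have h1 := T.act_of_eq (T.act_cmp hu hv) (e ▸ T.act_cmp hv hu)
    have h2 : v⁻¹ * (u * v * (v * u)⁻¹) * v ∈ T.P := by
      rw [h3.P_eq] at h1 ⊢
      exact (mem_normalizer_iff''.1 hv.norm _).1 h1
    convert h2 using 1
    group
  obtain ⟨w, hw⟩ : ∃ w, v⁻¹ * u * v * u⁻¹ = w := ⟨_, rfl⟩
  rw [hw] at hd
  have hui : u⁻¹ = u := inv_eq_of_mul_eq_one_left hu2
  have h3w : w ^ 3 = 1 := by
    obtain ⟨k, rfl⟩ := T.exists_cv hd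
    rw [pow_three, ← T.cv_add, ← T.cv_add,
      show k + (k + k) = 0 from (show ∀ a : V4, a + (a + a) = 0 by decide +kernel) k, T.cv_zero]
  have huw : u * w * u⁻¹ = w⁻¹ := by
    refine eq_inv_of_mul_eq_one_left ?_
    rw [← hw, hui]
    calc u * (v⁻¹ * u * v * u) * u * (v⁻¹ * u * v * u)
        = u * v⁻¹ * u * v * (u * u) * (v⁻¹ * u * v * u) := by group
      _ = u * v⁻¹ * (u * u) * (v * u) := by rw [hu2]; simp only [mul_assoc, mul_one, one_mul, mul_inv_cancel_left]; rw [← mul_assoc u u, hu2, one_mul]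
      _ = u * u := by rw [hu2]; group; exact hu2
      _ = 1 := hu2
  refine ⟨w ^ 2, pow_mem hd 2, ⟨mul_mem hv.norm (pow_mem (le_normalizer hd) 2), fun x => ?_⟩, ?_, ?_⟩
  · rw [← hv.eq]
    have hc : Commute (w ^ 2) (T.cv x) :=
      T.h.comm_P T.B T.hx (T.h.J_le_P T.B T.hx (pow_mem hd 2)) (T.cv_mem x)
    rw [show v * w ^ 2 * T.cv x * (v * w ^ 2)⁻¹ = v * (w ^ 2 * T.cv x * (w ^ 2)⁻¹) * v⁻¹ by group, hc.eq,
      mul_inv_cancel_right]
  · refine (mul_inv_eq_iff_eq_mul.1 ?_).symm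
    have e1 : u * v * u⁻¹ = v * w := by rw [← hw]; group
    rw [show u * (v * w ^ 2) * u⁻¹ = (u * v * u⁻¹) * (u * w * u⁻¹) ^ 2 by rw [conj_pow]; group, e1, huw]
    calc v * w * w⁻¹ ^ 2 = v * (w ^ 3)⁻¹ * w ^ 2 := by group
      _ = v * w ^ 2 := by rw [h3w]; group
  · intro k hkv hku
    exact hkv.mul_right ((hw ▸ ((hkv.inv_right.mul_right hku).mul_right hkv).mul_right hku.inv_right : Commute k w).pow_right 2)

/-- The two involutions are conjugate. -/
theorem exists_exchange (h3 : T.IsThree) :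
    ∃ g, T.Act g wM ∧ ∃ k, k * T.S.t * k⁻¹ = T.S.s := by
  obtain ⟨a, -, ha⟩ := T.exists_u 1 0
  obtain ⟨b, -, hb⟩ := T.exists_v 0 1
  obtain ⟨c, -, hc⟩ := T.exists_v 1 0
  obtain ⟨d, -, hd⟩ := T.exists_u 0 1
  have h := T.act_cmp ha (T.act_cmp hb (T.act_cmp hc (T.act_cmp hd (T.act_cmp hc ha))))
  rw [word_wM.1] at h
  set g := a * (b * (c * (d * (c * a))))
  refine ⟨g, h, ?_⟩
  have hm := T.act_of_eq (T.act_cmp h T.act_t) (word_wM.2.symm ▸ T.act_cmp T.act_s h)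
  rw [h3.P_eq] at hm
  obtain ⟨w, hw⟩ : ∃ w, g * T.S.t * (T.S.s * g)⁻¹ = w := ⟨_, rfl⟩
  rw [hw] at hm
  have e : g * T.S.t * g⁻¹ = w * T.S.s := by rw [← hw]; group
  have h3w : w ^ 3 = 1 := by
    obtain ⟨k, rfl⟩ := T.exists_cv hm
    rw [pow_three, ← T.cv_add, ← T.cv_add,
      show k + (k + k) = 0 from (show ∀ a : V4, a + (a + a) = 0 by decide +kernel) k, T.cv_zero]
  have e2 : (w * T.S.s) * (w * T.S.s) = 1 := by
    rw [← e, show g * T.S.t * g⁻¹ * (g * T.S.t * g⁻¹) = g * (T.S.t * T.S.t) * g⁻¹ by group, T.S.t_sq]; group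
  have hsw : T.S.s * w * T.S.s = w⁻¹ := by
    refine eq_inv_of_mul_eq_one_right ?_
    rw [← e2]; group
  refine ⟨w * g, ?_⟩
  calc w * g * T.S.t * (w * g)⁻¹ = w * (g * T.S.t * g⁻¹) * w⁻¹ := by group
    _ = w * (w * T.S.s) * w⁻¹ := by rw [e]
    _ = w * w * (T.S.s * w * T.S.s)⁻¹⁻¹⁻¹ * T.S.s⁻¹⁻¹ := by
      rw [show T.S.s⁻¹⁻¹ = T.S.s by group]
      have : T.S.s * T.S.s = 1 := T.S.s_sq
      rw [inv_inv]
      calc w * (w * T.S.s) * w⁻¹ = w * w * (T.S.s * w⁻¹ * (T.S.s * T.S.s)) := by rw [this]; group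
        _ = _ := by
          rw [show (T.S.s * w * T.S.s)⁻¹ = T.S.s⁻¹ * w⁻¹ * T.S.s⁻¹ by group,
            inv_eq_of_mul_eq_one_left T.S.s_sq]
          group
    _ = w ^ 3 * T.S.s := by rw [hsw, pow_three]; group
    _ = T.S.s := by rw [h3w, one_mul]

theorem exists_k (h3 : T.IsThree) : ∃ k, T.Act k kM ∧ Commute k T.S.t := by
  obtain ⟨a, -, ha⟩ := T.exists_u 0 1
  obtain ⟨b, -, hb⟩ := T.exists_v 0 2
  have h := T.act_cmp ha hb
  rw [word_kM.1] at h
  obtain ⟨w, -, h1, h2, -⟩ := exists_centralised h3 T.S.t_sq T.act_t h word_kM.2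
  exact ⟨_, h1, h2⟩

theorem exists_a (T : Setting D) : ∃ g, T.Act g aM := by
  obtain ⟨a, -, ha⟩ := T.exists_u 1 0
  obtain ⟨b, -, hb⟩ := T.exists_v 2 0
  exact ⟨_, word_aM ▸ T.act_cmp ha hb⟩

theorem exists_n (T : Setting D) : ∃ g, T.Act g nM := by
  obtain ⟨a, -, ha⟩ := T.exists_u 0 2
  obtain ⟨b, -, hb⟩ := T.exists_v 1 0
  obtain ⟨c, -, hc⟩ := T.exists_u 0 1
  exact ⟨_, word_nM ▸ T.act_cmp ha (T.act_cmp hb hc)⟩

/-- Translations commuting with the first involution lie in the second half. -/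
theorem exists_u_Q2 (h3 : T.IsThree) (j : ZMod 3) : ∃ q ∈ T.S.Q2, T.Act q (uM 0 j) := by
  obtain ⟨q, hq, hact⟩ := T.exists_u 0 j
  obtain ⟨w, hw, h1, h2, -⟩ := exists_centralised h3 T.S.t_sq T.act_t hact (word_u j)
  obtain ⟨v, rfl⟩ := T.exists_cv hw
  have hz : Commute (q * T.cv v) D.z :=
    (D.comm_z q hq).mul_left (T.h.comm_P T.B T.hx (T.h.J_le_P T.B T.hx (T.cv_mem v)) (T.h.z_mem_J T.B T.hx))
  refine ⟨q * T.cv (v.1, v.2.1, v.2.2.1, 0), D.mem_fixC.2 ⟨D.Q.mul_mem hq (by rw [T.cv_el]; exact T.B.el_mem _ _ _), ?_⟩, ?_⟩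
  · have hx : Commute (zp T.x v.2.2.2) T.S.t := zp_comm T.tx.symm _
    have := h2.mul_left hx.inv_left
    rwa [show q * T.cv v * (zp T.x v.2.2.2)⁻¹ = q * T.cv (v.1, v.2.1, v.2.2.1, 0) by
      simp only [cv, zp_zero, mul_one]; group] at this
  · refine ⟨mul_mem hact.norm (le_normalizer (T.cv_mem _)), fun x => ?_⟩
    rw [← hact.eq]
    have hc : Commute (T.cv (v.1, v.2.1, v.2.2.1, 0)) (T.cv x) :=
      T.h.comm_P T.B T.hx (T.h.J_le_P T.B T.hx (T.cv_mem _)) (T.cv_mem x)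
    generalize T.cv (v.1, v.2.1, v.2.2.1, 0) = c at hc
    rw [show q * c * T.cv x * (q * c)⁻¹ = q * (c * T.cv x * c⁻¹) * q⁻¹ by group, hc.eq, mul_inv_cancel_right]

end Setting

end Cfsg.Lib.U6Three
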